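import Mathlib
import Groth.Prelude.Def_DRing2
import Groth.Agent.Lib.Helper3.HomUnit
import Groth.Agent.Lib.Helper5.DRing.Thick
import Groth.Agent.Lib.Helper5.DRing.Classes

/-!
# Killing maps from perfect complexes into torsion complexes (helper5)

Ring-level input for Thomason's extension of maps: a map from a perfect complex `P` into a
complex whose cohomology is `f`-power torsion for `f` in a finite list is killed by composing
with `P₁ ⟶ P`, `P₁` perfect, whose cone is annihilated by powers of these `f`.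
-/
set_option autoImplicit false
set_option linter.unusedSectionVars false
set_option linter.unusedVariables false
universe u
open CategoryTheory CategoryTheory.Limits Pretriangulated
attribute [local instance] HasDerivedCategory.standard

namespace Groth.Agent.Lib.Helper5.BvdB

open DerivedCategory Groth.Agent.Helper5.DRingCone

variable {R : Type u} [CommRing R]

/-- the cohomology modules of `M` are `f`-power torsion -/
def PowTors (f : R) (M : Dual.D R) : Prop :=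
  ∀ (n : ℤ) (m : Dual.HD R M n), ∃ e : ℕ, f ^ e • m = 0

theorem PowTors.of_iso {f : R} {M M' : Dual.D R} (e : M ≅ M') (h : PowTors f M) :
    PowTors f M' := by
  intro n m
  let φ := ((DerivedCategory.homologyFunctor (ModuleCat.{u} R) n).mapIso e).toLinearEquiv
  obtain ⟨k, hk⟩ := h n (φ.symm m)
  refine ⟨k, ?_⟩
  have : f ^ k • m = φ (f ^ k • φ.symm m) := by rw [map_smul, LinearEquiv.apply_symm_apply]
  rw [this, hk, map_zero]

theorem PowTors.shift {f : R} {M : Dual.D R} (h : PowTors f M) (c : ℤ) : PowTors f (M⟦c⟧) := by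
  intro n m
  let φ : Dual.HD R (M⟦c⟧) n ≃ₗ[R] Dual.HD R M (c + n) :=
    (((DerivedCategory.homologyFunctor (ModuleCat.{u} R) 0).shiftIso c n (c + n) rfl).app
      M).toLinearEquiv
  obtain ⟨k, hk⟩ := h (c + n) (φ m)
  refine ⟨k, ?_⟩
  apply φ.injective
  rw [map_smul, hk, map_zero]

/-- the property of sources: maps into `f`-power torsion objects are killed by a power of `f` -/
def KillProp (f : R) : ObjectProperty (Dual.D R) := fun P =>
  ∀ M : Dual.D R, PowTors f M → ∀ ψ : P ⟶ M, ∃ e : ℕ, (f ^ e) • ψ = 0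

instance (f : R) : (KillProp f).IsClosedUnderIsomorphisms where
  of_iso {P P'} e h := by
    intro M hM ψ
    obtain ⟨k, hk⟩ := h M hM (e.hom ≫ ψ)
    refine ⟨k, ?_⟩
    have : ψ = e.inv ≫ e.hom ≫ ψ := by simp
    rw [this, ← Linear.comp_smul, hk, comp_zero]

theorem killProp_unit (f : R) : KillProp f (Dual.inD R R) := by
  intro M hM ψ
  let ψ' : Dual.inD R R ⟶ M⟦(0 : ℤ)⟧ := ψ ≫ (shiftFunctorZero _ ℤ).inv.app M
  obtain ⟨k, hk⟩ := hM 0 (Groth.Agent.Helper3.HomUnit.unitEquiv M 0 ψ')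
  refine ⟨k, ?_⟩
  have h1 : (f ^ k) • ψ' = 0 := by
    apply (Groth.Agent.Helper3.HomUnit.unitEquiv M 0).injective
    rw [map_smul, hk, map_zero]
  have h2 : ψ = ψ' ≫ (shiftFunctorZero _ ℤ).hom.app M := by simp [ψ']
  rw [h2, ← Linear.smul_comp, h1, zero_comp]

theorem killProp_shift (f : R) (P : Dual.D R) (n : ℤ) (h : KillProp f P) :
    KillProp f (P⟦n⟧) := by
  intro M hM ψ
  let e : P ≅ (P⟦n⟧)⟦-n⟧ := (shiftEquiv (Dual.D R) n).unitIso.app P
  obtain ⟨k, hk⟩ := h (M⟦-n⟧) (hM.shift (-n)) (e.hom ≫ ψ⟦-n⟧')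
  refine ⟨k, ?_⟩
  have h1 : ((f ^ k) • ψ)⟦-n⟧' = 0 := by
    rw [Functor.map_smul]
    have : ψ⟦-n⟧' = e.inv ≫ e.hom ≫ ψ⟦-n⟧' := by simp
    rw [this, ← Linear.comp_smul, hk, comp_zero]
  exact (shiftFunctor (Dual.D R) (-n)).map_injective (h1.trans (Functor.map_zero _ _ _).symm)

theorem killProp_ext (f : R) (T : Triangle (Dual.D R)) (hT : T ∈ distTriang _)
    (h₁ : KillProp f T.obj₁) (h₃ : KillProp f T.obj₃) : KillProp f T.obj₂ := by
  intro M hM ψ
  obtain ⟨k₁, hk₁⟩ := h₁ M hM (T.mor₁ ≫ ψ)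
  have h1 : T.mor₁ ≫ ((f ^ k₁) • ψ) = 0 := by rw [Linear.comp_smul]; exact hk₁
  obtain ⟨ψ₃, hψ₃⟩ := Triangle.yoneda_exact₂ T hT _ h1
  obtain ⟨k₃, hk₃⟩ := h₃ M hM ψ₃
  refine ⟨k₃ + k₁, ?_⟩
  rw [pow_add, mul_smul, hψ₃, ← Linear.comp_smul, hk₃, comp_zero]

theorem killProp_summand (f : R) (X Y : Dual.D R) [HasBinaryBiproduct X Y]
    (h : KillProp f (X ⊞ Y)) : KillProp f X := by
  intro M hM ψ
  obtain ⟨k, hk⟩ := h M hM (biprod.fst ≫ ψ)
  refine ⟨k, ?_⟩
  have : ψ = (biprod.inl : X ⟶ X ⊞ Y) ≫ (biprod.fst : X ⊞ Y ⟶ X) ≫ ψ := by simp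
  rw [this, ← Linear.comp_smul, hk, comp_zero]

/-- **maps from perfect objects into `f`-power torsion objects are killed by a power of `f`** -/
theorem exists_pow_smul_eq_zero (f : R) (P : Dual.D R) (hP : DRing.IsPerfect R P)
    (M : Dual.D R) (hM : PowTors f M) (ψ : P ⟶ M) : ∃ e : ℕ, (f ^ e) • ψ = 0 :=
  prop_perfect (KillProp f) (killProp_unit f) (killProp_shift f)
    (fun T hT h1 h3 => killProp_ext f T hT h1 h3)
    (killProp_summand f) P hP M hM ψ

/-! ### Annihilation of identities in triangles -/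

section Ann

/-- in a distinguished triangle whose outer vertices are annihilated by `s` and `t`, the middle
vertex is annihilated by `s * t` -/
theorem smul_id_mid_eq_zero (T : Triangle (Dual.D R)) (hT : T ∈ distTriang _) (s t : R)
    (h₁ : s • 𝟙 T.obj₁ = 0) (h₃ : t • 𝟙 T.obj₃ = 0) : (s * t) • 𝟙 T.obj₂ = 0 := by
  have h1 : (t • 𝟙 T.obj₂) ≫ T.mor₂ = 0 := by
    rw [Linear.smul_comp, Category.id_comp, ← Category.comp_id T.mor₂, ← Linear.comp_smul, h₃,
      comp_zero]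
  obtain ⟨θ, hθ⟩ := Triangle.coyoneda_exact₂ T hT _ h1
  have h2 : s • T.mor₁ = 0 := by
    rw [← Category.id_comp T.mor₁, ← Linear.smul_comp, h₁, zero_comp]
  rw [mul_smul, hθ, ← Linear.comp_smul, h2, comp_zero]

theorem smul_id_shift_eq_zero (N : Dual.D R) (s : R) (h : s • 𝟙 N = 0) (n : ℤ) :
    s • 𝟙 (N⟦n⟧) = 0 := by
  rw [← CategoryTheory.Functor.map_id, ← Functor.map_smul, h, Functor.map_zero]

end Ann

/-- the output of the construction: a perfect object under `P`, annihilated by powers of the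
elements of the list, through which `ψ` factors -/
theorem exists_factor (fs : List R) (M : Dual.D R) (hM : ∀ f ∈ fs, PowTors f M) :
    ∀ (P : Dual.D R), DRing.IsPerfect R P → ∀ ψ : P ⟶ M,
      ∃ (N : Dual.D R) (ι : P ⟶ N) (ψ' : N ⟶ M), DRing.IsPerfect R N ∧ ι ≫ ψ' = ψ ∧
        ∀ f ∈ fs, ∃ a : ℕ, (f ^ a) • 𝟙 N = 0 := by
  induction fs with
  | nil =>
    intro P hP ψ
    exact ⟨P, 𝟙 P, ψ, hP, Category.id_comp _, fun f hf => absurd hf (List.not_mem_nil)⟩
  | cons f fs ih =>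
    intro P hP ψ
    obtain ⟨N, ι, ψ', hN, hι, hann⟩ := ih (fun g hg => hM g (List.mem_cons_of_mem _ hg)) P hP ψ
    obtain ⟨e, he⟩ := exists_pow_smul_eq_zero f N hN M (hM f List.mem_cons_self) ψ'
    obtain ⟨C, ι', δ, hT⟩ := distinguished_cocone_triangle ((f ^ e) • 𝟙 N)
    have h1 : ((f ^ e) • 𝟙 N) ≫ ψ' = 0 := by rw [Linear.smul_comp, Category.id_comp]; exact he
    obtain ⟨ψ'', hψ''⟩ : ∃ ψ'' : C ⟶ M, ψ' = ι' ≫ ψ'' := Triangle.yoneda_exact₂ _ hT ψ' h1
    have hC : DRing.IsPerfect R C := (perfect_two_of_three _ hT).1 hN hN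
    refine ⟨C, ι ≫ ι', ψ'', hC, ?_, ?_⟩
    · rw [Category.assoc, ← hψ'']
      exact hι
    · have hrot := rot_of_distTriang _ hT
      -- the rotated triangle `N ⟶ C ⟶ N⟦1⟧`
      intro g hg
      rcases List.mem_cons.1 hg with rfl | hg'
      · -- annihilation by `f ^ (2e)`: first `f ^ e • 𝟙 C` factors through `ι'`
        refine ⟨e + e, ?_⟩
        have h2 : ((g ^ e) • 𝟙 C) ≫ δ = 0 := by
          have h3 : δ ≫ ((g ^ e) • 𝟙 N)⟦(1 : ℤ)⟧' = 0 := comp_distTriang_mor_zero₃₁ _ hT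
          rw [Functor.map_smul, CategoryTheory.Functor.map_id, Linear.comp_smul,
            Category.comp_id] at h3
          rw [Linear.smul_comp, Category.id_comp]
          exact h3
        obtain ⟨θ, hθ⟩ : ∃ θ : C ⟶ N, (g ^ e) • 𝟙 C = θ ≫ ι' :=
          Triangle.coyoneda_exact₃ _ hT _ h2
        have h4 : ((g ^ e) • 𝟙 N) ≫ ι' = 0 := comp_distTriang_mor_zero₁₂ _ hT
        have h5 : (g ^ e) • ι' = 0 := by
          rw [Linear.smul_comp, Category.id_comp] at h4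
          exact h4
        rw [pow_add, mul_smul, hθ, ← Linear.comp_smul, h5, comp_zero]
      · obtain ⟨a, ha⟩ := hann g hg'
        refine ⟨a + a, ?_⟩
        have := smul_id_mid_eq_zero _ hrot (g ^ a) (g ^ a) ha
          (smul_id_shift_eq_zero N (g ^ a) ha 1)
        rw [pow_add]
        exact this

/-- **the ring-level extension lemma** -/
theorem exists_fibre (fs : List R) (M : Dual.D R) (hM : ∀ f ∈ fs, PowTors f M)
    (P : Dual.D R) (hP : DRing.IsPerfect R P) (ψ : P ⟶ M) :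
    ∃ (P₁ N : Dual.D R) (β : P₁ ⟶ P) (ι : P ⟶ N) (δ : N ⟶ P₁⟦(1 : ℤ)⟧),
      Triangle.mk β ι δ ∈ distTriang (Dual.D R) ∧ DRing.IsPerfect R P₁ ∧ DRing.IsPerfect R N ∧
      β ≫ ψ = 0 ∧ ∀ f ∈ fs, ∃ a : ℕ, (f ^ a) • 𝟙 N = 0 := by
  obtain ⟨N, ι, ψ', hN, hι, hann⟩ := exists_factor fs M hM P hP ψ
  obtain ⟨P₁, β, δ, hT⟩ := distinguished_cocone_triangle₁ ι
  have hP₁ : DRing.IsPerfect R P₁ := (perfect_two_of_three _ hT).2.2 hP hN
  refine ⟨P₁, N, β, ι, δ, hT, hP₁, hN, ?_, hann⟩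
  have h0 : β ≫ ι = 0 := comp_distTriang_mor_zero₁₂ _ hT
  rw [← hι, ← Category.assoc, h0, zero_comp]

end Groth.Agent.Lib.Helper5.BvdB
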