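import Mathlib
import Groth.Agent.Lib.Helper5.BvdB.KoszulRing

/-!
# Killing maps from perfect complexes, keeping track of a property (helper5)

Variants of `exists_factor` / `exists_fibre` which keep track of a property of objects which is
stable under cones of endomorphisms.
-/
set_option autoImplicit false
set_option linter.unusedSectionVars false
set_option linter.unusedVariables false
universe u
open CategoryTheory CategoryTheory.Limits Pretriangulated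
attribute [local instance] HasDerivedCategory.standard

namespace Groth.Agent.Lib.Helper5.BvdB

open DerivedCategory Groth.Agent.Helper5.DRingCone

variable {R : Type u} [CommRing R]

theorem exists_factor_prop (Q : Dual.D R → Prop)
    (hQ : ∀ (N C : Dual.D R) (φ : N ⟶ N) (ι' : N ⟶ C) (δ : C ⟶ N⟦(1 : ℤ)⟧),
      Triangle.mk φ ι' δ ∈ distTriang (Dual.D R) → Q N → Q C)
    (fs : List R) (M : Dual.D R) (hM : ∀ f ∈ fs, PowTors f M) :
    ∀ (P : Dual.D R), DRing.IsPerfect R P → Q P → ∀ ψ : P ⟶ M,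
      ∃ (N : Dual.D R) (ι : P ⟶ N) (ψ' : N ⟶ M), DRing.IsPerfect R N ∧ Q N ∧ ι ≫ ψ' = ψ ∧
        ∀ f ∈ fs, ∃ a : ℕ, (f ^ a) • 𝟙 N = 0 := by
  induction fs with
  | nil =>
    intro P hP hQP ψ
    exact ⟨P, 𝟙 P, ψ, hP, hQP, Category.id_comp _, fun f hf => absurd hf (List.not_mem_nil)⟩
  | cons f fs ih =>
    intro P hP hQP ψ
    obtain ⟨N, ι, ψ', hN, hQN, hι, hann⟩ :=
      ih (fun g hg => hM g (List.mem_cons_of_mem _ hg)) P hP hQP ψ
    obtain ⟨e, he⟩ := exists_pow_smul_eq_zero f N hN M (hM f List.mem_cons_self) ψ'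
    obtain ⟨C, ι', δ, hT⟩ := distinguished_cocone_triangle ((f ^ e) • 𝟙 N)
    have h1 : ((f ^ e) • 𝟙 N) ≫ ψ' = 0 := by rw [Linear.smul_comp, Category.id_comp]; exact he
    obtain ⟨ψ'', hψ''⟩ : ∃ ψ'' : C ⟶ M, ψ' = ι' ≫ ψ'' := Triangle.yoneda_exact₂ _ hT ψ' h1
    have hC : DRing.IsPerfect R C := (perfect_two_of_three _ hT).1 hN hN
    refine ⟨C, ι ≫ ι', ψ'', hC, hQ N C _ ι' δ hT hQN, ?_, ?_⟩
    · rw [Category.assoc, ← hψ'']
      exact hι
    · have hrot := rot_of_distTriang _ hT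
      intro g hg
      rcases List.mem_cons.1 hg with rfl | hg'
      · refine ⟨e + e, ?_⟩
        have h2 : ((g ^ e) • 𝟙 C) ≫ δ = 0 := by
          have h3 : δ ≫ ((g ^ e) • 𝟙 N)⟦(1 : ℤ)⟧' = 0 := comp_distTriang_mor_zero₃₁ _ hT
          rw [Functor.map_smul, CategoryTheory.Functor.map_id, Linear.comp_smul,
            Category.comp_id] at h3
          rw [Linear.smul_comp, Category.id_comp]
          exact h3
        obtain ⟨θ, hθ⟩ : ∃ θ : C ⟶ N, (g ^ e) • 𝟙 C = θ ≫ ι' :=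
          Triangle.coyoneda_exact₃ _ hT _ h2
        have h4 : ((g ^ e) • 𝟙 N) ≫ ι' = 0 := comp_distTriang_mor_zero₁₂ _ hT
        have h5 : (g ^ e) • ι' = 0 := by
          rw [Linear.smul_comp, Category.id_comp] at h4
          exact h4
        rw [pow_add, mul_smul, hθ, ← Linear.comp_smul, h5, comp_zero]
      · obtain ⟨a, ha⟩ := hann g hg'
        refine ⟨a + a, ?_⟩
        have := smul_id_mid_eq_zero _ hrot (g ^ a) (g ^ a) ha
          (smul_id_shift_eq_zero N (g ^ a) ha 1)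
        rw [pow_add]
        exact this

theorem exists_fibre_prop (Q : Dual.D R → Prop)
    (hQ : ∀ (N C : Dual.D R) (φ : N ⟶ N) (ι' : N ⟶ C) (δ : C ⟶ N⟦(1 : ℤ)⟧),
      Triangle.mk φ ι' δ ∈ distTriang (Dual.D R) → Q N → Q C)
    (fs : List R) (M : Dual.D R) (hM : ∀ f ∈ fs, PowTors f M)
    (P : Dual.D R) (hP : DRing.IsPerfect R P) (hQP : Q P) (ψ : P ⟶ M) :
    ∃ (P₁ N : Dual.D R) (β : P₁ ⟶ P) (ι : P ⟶ N) (δ : N ⟶ P₁⟦(1 : ℤ)⟧),
      Triangle.mk β ι δ ∈ distTriang (Dual.D R) ∧ DRing.IsPerfect R P₁ ∧ DRing.IsPerfect R N ∧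
      Q N ∧ β ≫ ψ = 0 ∧ ∀ f ∈ fs, ∃ a : ℕ, (f ^ a) • 𝟙 N = 0 := by
  obtain ⟨N, ι, ψ', hN, hQN, hι, hann⟩ := exists_factor_prop Q hQ fs M hM P hP hQP ψ
  obtain ⟨P₁, β, δ, hT⟩ := distinguished_cocone_triangle₁ ι
  have hP₁ : DRing.IsPerfect R P₁ := (perfect_two_of_three _ hT).2.2 hP hN
  refine ⟨P₁, N, β, ι, δ, hT, hP₁, hN, hQN, ?_, hann⟩
  have h0 : β ≫ ι = 0 := comp_distTriang_mor_zero₁₂ _ hT
  rw [← hι, ← Category.assoc, h0, zero_comp]

end Groth.Agent.Lib.Helper5.BvdB
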