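import Mathlib
import Groth.Prelude.Def_DRing2
import Groth.Agent.Lib.Helper3.HomUnit
import Groth.Agent.Lib.Helper5.DRing.AmpPerf

/-!
# Attaching cells in `D(R)` (helper5)

Attaching a cell `R[-m] ⟶ C` kills a class in `Hom(R, C[m])`; the octahedral axiom keeps track
of the cone of `M ⟶ C`.
-/
set_option autoImplicit false
set_option linter.unusedSectionVars false
set_option linter.unusedVariables false
universe u
open CategoryTheory CategoryTheory.Limits Pretriangulated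
attribute [local instance] HasDerivedCategory.standard

namespace Groth.Agent.Lib.Helper5.BvdB

open DerivedCategory Groth.Agent.Helper5.Summand

variable {R : Type u} [CommRing R]

theorem hom_unit_eq_zero (Y : Dual.D R)
    (h : IsZero ((DerivedCategory.homologyFunctor (ModuleCat.{u} R) 0).obj Y))
    (w : Dual.inD R R ⟶ Y) : w = 0 := by
  have h0 : Subsingleton (Dual.HD R Y 0) := ModuleCat.subsingleton_of_isZero h
  let φ := Groth.Agent.Helper3.HomUnit.unitEquiv Y 0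
  have h1 : Subsingleton (Dual.inD R R ⟶ Y⟦(0 : ℤ)⟧) := φ.toEquiv.subsingleton
  have h2 : w ≫ (shiftFunctorZero _ ℤ).inv.app Y = 0 := Subsingleton.elim _ _
  have := congrArg (· ≫ (shiftFunctorZero _ ℤ).hom.app Y) h2
  simpa using this

/-- attaching one cell -/
theorem attach_cell (C : Dual.D R) (m : ℤ) (z : Dual.inD R R ⟶ C⟦m⟧) :
    ∃ (C' : Dual.D R) (ζ : (Dual.inD R R)⟦-m⟧ ⟶ C) (β : C ⟶ C')
      (δ : C' ⟶ ((Dual.inD R R)⟦-m⟧)⟦(1 : ℤ)⟧),
      Triangle.mk ζ β δ ∈ distTriang (Dual.D R) ∧ z ≫ β⟦m⟧' = 0 ∧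
      ∀ i : ℤ, m ≤ i → ∀ w : Dual.inD R R ⟶ C'⟦i⟧, ∃ v : Dual.inD R R ⟶ C⟦i⟧,
        v ≫ β⟦i⟧' = w := by
  let L : Dual.D R := (Dual.inD R R)⟦-m⟧
  let ι : Dual.inD R R ≅ L⟦m⟧ :=
    ((shiftFunctorCompIsoId (Dual.D R) (-m) m (neg_add_cancel m)).app (Dual.inD R R)).symm
  let ζ : L ⟶ C := (shiftFunctor (Dual.D R) m).preimage (ι.inv ≫ z)
  have hζ : ι.hom ≫ ζ⟦m⟧' = z := by simp [ζ]
  obtain ⟨C', β, δ, hT⟩ := distinguished_cocone_triangle ζ
  refine ⟨C', ζ, β, δ, hT, ?_, ?_⟩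
  · rw [← hζ, Category.assoc, ← Functor.map_comp]
    have : ζ ≫ β = 0 := comp_distTriang_mor_zero₁₂ _ hT
    rw [this, Functor.map_zero, comp_zero]
  · intro i hi w
    have hTi := Triangle.shift_distinguished _ hT i
    have hLE : (((L⟦i⟧)⟦(1 : ℤ)⟧ : Dual.D R)).IsLE (m - i - 1) := by
      haveI : (Dual.inD R R).IsLE 0 := by
        show ((DerivedCategory.singleFunctor (ModuleCat.{u} R) 0).obj _).IsLE 0
        infer_instance
      haveI : L.IsLE m := TStructure.t.isLE_shift (Dual.inD R R) 0 (-m) m (by omega)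
      haveI : (L⟦i⟧).IsLE (m - i) := TStructure.t.isLE_shift L m i (m - i) (by omega)
      exact TStructure.t.isLE_shift (L⟦i⟧) (m - i) 1 (m - i - 1) (by omega)
    have hz : IsZero ((DerivedCategory.homologyFunctor (ModuleCat.{u} R) 0).obj
        ((L⟦i⟧)⟦(1 : ℤ)⟧)) := DerivedCategory.isZero_of_isLE _ (m - i - 1) 0 (by omega)
    have hw : w ≫ ((Triangle.shiftFunctor _ i).obj (Triangle.mk ζ β δ)).mor₃ = 0 :=
      hom_unit_eq_zero _ hz _
    obtain ⟨v, hv⟩ : ∃ v : Dual.inD R R ⟶ C⟦i⟧, w = v ≫ (i.negOnePow • β⟦i⟧') :=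
      Triangle.coyoneda_exact₃ _ hTi w hw
    refine ⟨(i.negOnePow : ℤ) • v, ?_⟩
    rw [hv, Units.smul_def, Preadditive.zsmul_comp, Preadditive.comp_zsmul]

section Octa

variable {D : Type*} [Category D] [Preadditive D] [HasZeroObject D] [HasShift D ℤ]
  [∀ n : ℤ, (shiftFunctor D n).Additive] [Pretriangulated D] [IsTriangulated D]

/-- the octahedral axiom, in the form used for attaching cells -/
theorem octa_step {M C Z L C' : D} (b : M ⟶ C) (c : C ⟶ Z) (d : Z ⟶ M⟦(1 : ℤ)⟧)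
    (hT : Triangle.mk b c d ∈ distTriang D) (ζ : L ⟶ C) (β : C ⟶ C') (δ : C' ⟶ L⟦(1 : ℤ)⟧)
    (hT' : Triangle.mk ζ β δ ∈ distTriang D) :
    ∃ (Z' : D) (c' : C' ⟶ Z') (d' : Z' ⟶ M⟦(1 : ℤ)⟧) (m₁ : Z ⟶ Z') (m₃ : Z' ⟶ L⟦(1 : ℤ)⟧)
      (w : L⟦(1 : ℤ)⟧ ⟶ Z⟦(1 : ℤ)⟧),
      Triangle.mk (b ≫ β) c' d' ∈ distTriang D ∧ Triangle.mk m₁ m₃ w ∈ distTriang D := by
  obtain ⟨Z', c', d', hT''⟩ := distinguished_cocone_triangle (b ≫ β)
  have h₂₃ : Triangle.mk β δ (-ζ⟦(1 : ℤ)⟧') ∈ distTriang D := rot_of_distTriang _ hT'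
  let o := Triangulated.someOctahedron (u₁₂ := b) (u₂₃ := β) (u₁₃ := b ≫ β) rfl hT h₂₃ hT''
  exact ⟨Z', c', d', o.m₁, o.m₃, _, hT'', o.mem⟩

end Octa

/-- the classes `Hom(R, C[i])` are torsion for all `f ∈ t` -/
def TorsAt (t : Finset R) (C : Dual.D R) (i : ℤ) : Prop :=
  ∀ f ∈ t, ∀ z : Dual.inD R R ⟶ C⟦i⟧, ∃ e : ℕ, f ^ e • z = 0

theorem amp_cell (m : ℤ) :
    Amp (FP R) m m ((((Dual.inD R R)⟦-m⟧)⟦(1 : ℤ)⟧)⟦(-1 : ℤ)⟧) := by
  have h0 : Amp (FP R) 0 0 (Dual.inD R R) :=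
    Amp.single 0 (ModuleCat.of R R) ⟨inferInstance, inferInstance⟩
  have h1 := h0.shift (-m)
  have h2 := h1.shift 1
  have h3 := h2.shift (-1)
  exact h3.mono (by omega) (by omega)

/-- attaching finitely many cells in degree `m` -/
theorem attach_cells (t : Finset R) (M : Dual.D R) (m lo hi : ℤ) (hlo : lo ≤ m - 1)
    (hhi : m - 1 ≤ hi) :
    ∀ (k : ℕ) (C Z : Dual.D R) (b : M ⟶ C) (c : C ⟶ Z) (d : Z ⟶ M⟦(1 : ℤ)⟧),
      Triangle.mk b c d ∈ distTriang (Dual.D R) → Amp (FP R) lo hi Z →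
      (∀ i, m < i → TorsAt t C i) →
      ∀ (zs : Fin k → (Dual.inD R R ⟶ C⟦m⟧)),
        (∀ f ∈ t, ∀ z : Dual.inD R R ⟶ C⟦m⟧,
          ∃ e : ℕ, f ^ e • z ∈ Submodule.span R (Set.range zs)) →
      ∃ (C' Z' : Dual.D R) (b' : M ⟶ C') (c' : C' ⟶ Z') (d' : Z' ⟶ M⟦(1 : ℤ)⟧),
        Triangle.mk b' c' d' ∈ distTriang (Dual.D R) ∧ Amp (FP R) lo hi Z' ∧
        ∀ i, m ≤ i → TorsAt t C' i := by
  intro k
  induction k with
  | zero =>
    intro C Z b c d hT hZ htors zs hzs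
    refine ⟨C, Z, b, c, d, hT, hZ, fun i hi => ?_⟩
    rcases eq_or_lt_of_le hi with rfl | hi'
    · intro f hf z
      obtain ⟨e, he⟩ := hzs f hf z
      refine ⟨e, ?_⟩
      have : Set.range zs = ∅ := Set.range_eq_empty zs
      rw [this, Submodule.span_empty] at he
      exact (Submodule.mem_bot R).1 he
    · exact htors i hi'
  | succ k ih =>
    intro C Z b c d hT hZ htors zs hzs
    obtain ⟨C', ζ, β, δ, hT', hzβ, hsurj⟩ := attach_cell C m (zs 0)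
    obtain ⟨Z', c', d', m₁, m₃, w, hT'', hoct⟩ := octa_step b c d hT ζ β δ hT'
    have hZ' : Amp (FP R) lo hi Z' := by
      have h1 := inv_rot_of_distTriang _ hoct
      have h2 := Amp.cone hyp_fp.proj hyp_fp.sum _ h1 (amp_cell m) hZ
      exact h2.mono (by simp; omega) (by simp; omega)
    let Lm : (Dual.inD R R ⟶ C⟦m⟧) →ₗ[R] (Dual.inD R R ⟶ C'⟦m⟧) :=
      Linear.rightComp R (Dual.inD R R) (β⟦m⟧')
    refine ih C' Z' (b ≫ β) c' d' hT'' hZ' ?_ (fun j => zs j.succ ≫ β⟦m⟧') ?_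
    · intro i hi f hf z
      obtain ⟨v, rfl⟩ := hsurj i (le_of_lt hi) z
      obtain ⟨e, he⟩ := htors i hi f hf v
      exact ⟨e, by rw [← Linear.smul_comp, he, zero_comp]⟩
    · intro f hf z
      obtain ⟨v, rfl⟩ := hsurj m le_rfl z
      obtain ⟨e, he⟩ := hzs f hf v
      refine ⟨e, ?_⟩
      have h1 : f ^ e • (v ≫ β⟦m⟧') = Lm (f ^ e • v) := by
        simp [Lm, Linear.smul_comp]
      rw [h1]
      have h2 : Lm (f ^ e • v) ∈ Submodule.map Lm (Submodule.span R (Set.range zs)) :=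
        Submodule.mem_map_of_mem he
      rw [Submodule.map_span] at h2
      refine Submodule.span_le.2 ?_ h2
      rintro _ ⟨_, ⟨j, rfl⟩, rfl⟩
      refine Fin.cases ?_ (fun j' => ?_) j
      · have : Lm (zs 0) = 0 := hzβ
        rw [this]
        exact Submodule.zero_mem _
      · exact Submodule.subset_span ⟨j', rfl⟩
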