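import Mathlib
import Groth.Prelude.Def_DCoh3
import Groth.Prelude.Def_CxOX
import Groth.Agent.Lib.Helper5.Stalk.LpullAdj
import Groth.Agent.Lib.Helper5.Misc.DerAdj
import Groth.Agent.Lib.Helper5.Perf.RpushOpen

/-!
# The derived adjunction `j^* ⊣ Rj_*` for an open immersion, with invertible counit (helper5)
-/
set_option autoImplicit false
set_option linter.unusedSectionVars false
set_option linter.unusedVariables false
set_option linter.style.haveILetI false
universe u
open CategoryTheory CategoryTheory.Limits HomologicalComplex AlgebraicGeometry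
attribute [local instance] HasDerivedCategory.standard

namespace Groth.Agent.Lib.Helper5.BvdB

open Groth.Agent.Lib.Helper5.LpullLib Groth.Agent.Lib.Helper5.KProj
  Groth.Agent.Helper3.KInjDer

variable {U X : Scheme.{u}} (j : U ⟶ X) [IsOpenImmersion j]

/-- the K-level adjunction `j^* ⊣ j_*` -/
noncomputable abbrev adjKres :
    (Scheme.Modules.restrictFunctor j).mapHomotopyCategory (ComplexShape.up ℤ) ⊣
      (Scheme.Modules.pushforward j).mapHomotopyCategory (ComplexShape.up ℤ) :=
  adjH (Scheme.Modules.restrictAdjunction j) (ComplexShape.up ℤ)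

/-- the factorisation of `restrictD` -/
noncomputable abbrev resFac :
    DerivedCategory.Qh ⋙ DCoh.restrictD j ≅
      (Scheme.Modules.restrictFunctor j).mapHomotopyCategory (ComplexShape.up ℤ) ⋙
        DerivedCategory.Qh :=
  (Scheme.Modules.restrictFunctor j).mapDerivedCategoryFactorsh

instance isLeft_restrictD :
    (DCoh.restrictD j).IsLeftDerivedFunctor (resFac j).hom (WK X) :=
  Functor.isLeftDerivedFunctor_of_inverts (WK X) _ (resFac j)

variable [DCoh.HasRpush j]

theorem isLeft_res_rpush :
    (DCoh.restrictD j ⋙ DCoh.Rpush j).IsLeftDerivedFunctor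
      ((Functor.associator _ _ _).inv ≫ Functor.whiskerRight (resFac j).hom (DCoh.Rpush j))
      (WK X) :=
  Functor.isLeftDerivedFunctor_of_inverts (WK X) _
    ((Functor.associator _ _ _).symm ≪≫ Functor.isoWhiskerRight (resFac j) (DCoh.Rpush j))

theorem isRight_rpush_res :
    (DCoh.Rpush j ⋙ DCoh.restrictD j).IsRightDerivedFunctor
      (Functor.whiskerRight (rpushUnit j) (DCoh.restrictD j) ≫ (Functor.associator _ _ _).hom)
      (WK U) := by
  refine (derives (DCoh.pushKh j ⋙ DCoh.restrictD j)).isRightDerivedFunctor_of_isIso _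
    (fun I => ?_)
  haveI : CochainComplex.IsKInjective I.obj.as := I.property
  haveI h1 : IsIso ((rpushUnit j).app
      ((HomotopyCategory.quotient U.Modules (ComplexShape.up ℤ)).obj I.obj.as)) :=
    isIso_unit_app (DCoh.pushKh j) (rpushUnit j) I.obj.as
  have h2 : IsIso ((rpushUnit j).app I.obj) := by
    obtain ⟨⟨I⟩, hI⟩ := I
    exact h1
  dsimp only [NatTrans.comp_app, Functor.associator_hom_app, Functor.whiskerRight_app]
  rw [Category.comp_id]
  exact inferInstanceAs (IsIso ((DCoh.restrictD j).map ((rpushUnit j).app I.obj)))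

/-- **the derived adjunction** `j^* ⊣ Rj_*` for an open immersion -/
noncomputable def resAdj : DCoh.restrictD j ⊣ DCoh.Rpush j :=
  haveI := isLeft_res_rpush j
  haveI := isRight_rpush_res j
  (adjKres j).derived (WK X) (WK U) (resFac j).hom (rpushUnit j)

/-- the counit of `j^* ⊣ Rj_*` is an isomorphism -/
instance isIso_resAdj_counit_app (E : DCoh.D U) : IsIso ((resAdj j).counit.app E) := by
  haveI := isLeft_res_rpush j
  haveI := isRight_rpush_res j
  obtain ⟨I, hI, ⟨e⟩⟩ := Groth.Agent.Lib.Helper5.RpushOpen.exists_kInjective_repr E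
  haveI := hI
  let I' := (HomotopyCategory.quotient U.Modules (ComplexShape.up ℤ)).obj I
  have hc : (resAdj j).counit = (adjKres j).derivedε (WK U) (resFac j).hom (rpushUnit j) := rfl
  have key : IsIso ((resAdj j).counit.app (DerivedCategory.Qh.obj I')) := by
    have h := Adjunction.derivedε_fac_app (adjKres j) (WK U) (resFac j).hom (rpushUnit j) I'
    haveI h1 : IsIso ((rpushUnit j).app I') := isIso_unit_app (DCoh.pushKh j) (rpushUnit j) I
    haveI h3 : IsIso ((adjKres j).counit.app I') := by
      haveI : ∀ i, IsIso ((Groth.Agent.Helper3.AdjHtpyPlus.counitC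
          (Scheme.Modules.restrictAdjunction j) (ComplexShape.up ℤ) I).f i) := fun i => by
        rw [Groth.Agent.Helper3.AdjHtpyPlus.counitC_f]
        exact NatIso.isIso_app_of_isIso (Scheme.Modules.restrictAdjunction j).counit (I.X i)
      haveI : IsIso (Groth.Agent.Helper3.AdjHtpyPlus.counitC
          (Scheme.Modules.restrictAdjunction j) (ComplexShape.up ℤ) I) :=
        HomologicalComplex.Hom.isIso_of_components _
      exact inferInstanceAs (IsIso ((HomotopyCategory.quotient _ _).map
        (Groth.Agent.Helper3.AdjHtpyPlus.counitC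
          (Scheme.Modules.restrictAdjunction j) (ComplexShape.up ℤ) I)))
    have h4 : IsIso ((DCoh.restrictD j).map ((rpushUnit j).app I') ≫
        ((adjKres j).derivedε (WK U) (resFac j).hom (rpushUnit j)).app
          (DerivedCategory.Qh.obj I')) := by
      rw [h]
      infer_instance
    rw [hc]
    exact IsIso.of_isIso_comp_left ((DCoh.restrictD j).map ((rpushUnit j).app I')) _
  have hnat := (resAdj j).counit.naturality e.hom
  have h5 : (DCoh.restrictD j).map ((DCoh.Rpush j).map e.hom) ≫
      (resAdj j).counit.app (DerivedCategory.Qh.obj I') = (resAdj j).counit.app E ≫ e.hom :=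
    hnat
  have h6 : IsIso ((resAdj j).counit.app E ≫ e.hom) := by
    rw [← h5]
    have h7 : IsIso ((DCoh.restrictD j).map ((DCoh.Rpush j).map e.hom)) := inferInstance
    exact @IsIso.comp_isIso _ _ _ _ _ _ _ h7 key
  exact IsIso.of_isIso_comp_right _ e.hom

instance isIso_resAdj_counit : IsIso (resAdj j).counit :=
  NatIso.isIso_of_isIso_app _

end Groth.Agent.Lib.Helper5.BvdB
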