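import Mathlib
import Groth.Agent.Lib.Helper3.DCoprod
import Groth.Agent.Lib.Helper5.Gen.MixCoprod

/-!
# Exact functors preserving coproducts induce coproduct preserving functors on derived
categories (helper5)
-/
set_option autoImplicit false
set_option linter.unusedSectionVars false
universe w w₁ w₂ v₁ v₂ u₁ u₂
open CategoryTheory CategoryTheory.Limits

namespace Groth.Agent.Lib.Helper5.BvdB

open Groth.Agent.Helper3.DCoprod Helper5.Gen DerivedCategory

variable {A : Type u₁} [Category.{v₁} A] [Abelian A] [HasDerivedCategory.{w₁} A]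
  {B : Type u₂} [Category.{v₂} B] [Abelian B] [HasDerivedCategory.{w₂} B]
  (F : A ⥤ B) [F.Additive] [PreservesFiniteLimits F] [PreservesFiniteColimits F]
  {J : Type w} [HasColimitsOfShape (Discrete J) A] [HasExactColimitsOfShape (Discrete J) A]
  [HasColimitsOfShape (Discrete J) B] [HasExactColimitsOfShape (Discrete J) B]
  [PreservesColimitsOfShape (Discrete J) F]

/-- the comparison `∐ F(K_j) ⟶ F(∐ K_j)` -/
noncomputable def κF (K : J → CochainComplex A ℤ) :
    cK (fun j => (F.mapHomologicalComplex (ComplexShape.up ℤ)).obj (K j)) ⟶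
      (F.mapHomologicalComplex (ComplexShape.up ℤ)).obj (cK K) :=
  descK (fun j => (F.mapHomologicalComplex (ComplexShape.up ℤ)).map (inK K j))

lemma inK_κF (K : J → CochainComplex A ℤ) (j : J) :
    inK (fun j => (F.mapHomologicalComplex (ComplexShape.up ℤ)).obj (K j)) j ≫ κF F K =
      (F.mapHomologicalComplex (ComplexShape.up ℤ)).map (inK K j) :=
  inK_descK _ j

lemma κF_f (K : J → CochainComplex A ℤ) (n : ℤ) :
    (κF F K).f n = sigmaComparison F (fun j => (K j).X n) := rfl

instance isIso_κF (K : J → CochainComplex A ℤ) : IsIso (κF F K) := by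
  have : ∀ n, IsIso ((κF F K).f n) := fun n => by
    rw [κF_f]
    have : PreservesColimit (Discrete.functor (fun j => (K j).X n)) F := inferInstance
    exact inferInstanceAs (IsIso (PreservesCoproduct.iso F (fun j => (K j).X n)).inv)
  exact HomologicalComplex.Hom.isIso_of_components _

/-- the functor induced on derived categories by an exact functor preserving coproducts of
shape `J` preserves coproducts of shape `J` -/
theorem nonempty_isColimit_mapDerivedCategory {X : J → DerivedCategory A} {P : DerivedCategory A}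
    {g : ∀ j, X j ⟶ P} (hc : IsColimit (Cofan.mk P g)) :
    Nonempty (IsColimit (Cofan.mk (F.mapDerivedCategory.obj P)
      (fun j => F.mapDerivedCategory.map (g j)))) := by
  classical
  let K : J → CochainComplex A ℤ := fun j => Q.objPreimage (X j)
  let ε : ∀ j, Q.obj (K j) ≅ X j := fun j => Q.objObjPreimageIso (X j)
  have hcK := isColimitCofan K
  have hc' : IsColimit (Cofan.mk P (fun j => (ε j).hom ≫ g j)) :=
    isColimitCofanOfIso (fun j => (ε j).symm) (Iso.refl P) (fun j => by simp) hc
  let eP : Q.obj (cK K) ≅ P := IsColimit.coconePointUniqueUpToIso hcK hc'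
  have heP : ∀ j, Q.map (inK K j) ≫ eP.hom = (ε j).hom ≫ g j := fun j =>
    IsColimit.comp_coconePointUniqueUpToIso_hom hcK hc' ⟨j⟩
  have hcG := isColimitCofan (fun j => (F.mapHomologicalComplex (ComplexShape.up ℤ)).obj (K j))
  let T := F.mapDerivedCategory
  let m : ∀ L : CochainComplex A ℤ, T.obj (Q.obj L) ≅
      Q.obj ((F.mapHomologicalComplex (ComplexShape.up ℤ)).obj L) :=
    fun L => F.mapDerivedCategoryFactors.app L
  refine ⟨isColimitCofanOfIso
    (fun j => (m (K j)).symm ≪≫ T.mapIso (ε j))
    (Q.mapIso (asIso (κF F K)) ≪≫ (m (cK K)).symm ≪≫ T.mapIso eP) (fun j => ?_) hcG⟩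
  have n1 : T.map (Q.map (inK K j)) ≫ (m (cK K)).hom = (m (K j)).hom ≫
      Q.map ((F.mapHomologicalComplex (ComplexShape.up ℤ)).map (inK K j)) :=
    F.mapDerivedCategoryFactors.hom.naturality (inK K j)
  have n2 : Q.map ((F.mapHomologicalComplex (ComplexShape.up ℤ)).map (inK K j)) ≫
      (m (cK K)).inv = (m (K j)).inv ≫ T.map (Q.map (inK K j)) := by
    rw [← cancel_mono (m (cK K)).hom, Category.assoc, Iso.inv_hom_id, Category.comp_id,
      Category.assoc, n1, Iso.inv_hom_id_assoc]
  dsimp only [Iso.trans_hom, Iso.symm_hom, Functor.mapIso_hom, asIso_hom]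
  rw [← Q.map_comp_assoc, inK_κF, ← Category.assoc, n2, Category.assoc, Category.assoc,
    ← T.map_comp, ← T.map_comp, heP]

end Groth.Agent.Lib.Helper5.BvdB
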