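import Mathlib
import Groth.Prelude.Def_DCoh3
import Groth.Prelude.Def_CxOX
import Groth.Agent.Lib.Helper5.BvdB.Adj
import Groth.Agent.Lib.Helper5.BvdB.DerCoprod
import Groth.Agent.Lib.Helper5.Misc.DerAdj
import Groth.Agent.Lib.Helper5.Misc.DerFaithful
import Groth.Agent.Lib.Helper5.Misc.ShriekSheaf
import Groth.Agent.Lib.Helper5.Gen.Coprod

/-!
# The adjunction `j_! ⊣ j^*` on derived categories; restriction along isomorphisms (helper5)
-/
set_option autoImplicit false
set_option linter.unusedSectionVars false
set_option linter.unusedVariables false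
universe u
open CategoryTheory CategoryTheory.Limits HomologicalComplex AlgebraicGeometry
attribute [local instance] HasDerivedCategory.standard

namespace Groth.Agent.Lib.Helper5.BvdB

open Groth.Agent.Lib.Helper5 Helper5.Gen

variable {X : Scheme.{u}}

/-- Extension by zero along the inclusion of an open subscheme is left exact. -/
theorem preservesFiniteLimits_extZero (V : X.Opens) :
    PreservesFiniteLimits (CxOX.extZero V.ι) := by
  have h1 : PreservesFiniteLimits (ModSite.extZero X.sheaf V) :=
    ShriekSheaf.extZero_preservesFiniteLimits X.sheaf V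
  have h0 : PreservesFiniteLimits (Scheme.Modules.overEquiv V).inverse := inferInstance
  have h2 : PreservesFiniteLimits ((Scheme.Modules.overEquiv V).inverse ⋙
      ModSite.extZero X.sheaf V) :=
    @comp_preservesFiniteLimits _ _ _ _ _ _ (Scheme.Modules.overEquiv V).inverse
      (ModSite.extZero X.sheaf V) h0 h1
  exact @preservesFiniteLimits_of_natIso _ _ _ _ _ _ (CxOX.extZeroIsoSite V).symm h2

attribute [local instance] preservesFiniteLimits_extZero

/-- **the adjunction `j_! ⊣ j^*` on derived categories** -/
noncomputable def shriekAdj (V : X.Opens) : CxOX.extZeroD V.ι ⊣ DCoh.restrictD V.ι :=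
  DerAdj.mapDerivedCategoryAdj (CxOX.extZeroAdj V.ι)

instance (J : Type u) (Z : Scheme.{u}) : HasExactColimitsOfShape (Discrete J) Z.Modules := by
  haveI : HasFiniteBiproducts Z.Modules := HasFiniteBiproducts.of_hasFiniteProducts
  have ab4 : AB4OfSize.{u} Z.Modules := AB4.of_AB5 _
  exact ab4.ofShape J

/-- restriction to an open subscheme preserves coproducts -/
theorem presCoprod_restrictD {U : Scheme.{u}} (j : U ⟶ X) [IsOpenImmersion j] :
    PresCoprod.{u} (DCoh.restrictD j) := by
  intro J E P g hc
  haveI : PreservesColimitsOfSize.{u, u} (Scheme.Modules.restrictFunctor j) :=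
    (Scheme.Modules.restrictAdjunction j).leftAdjoint_preservesColimits
  exact nonempty_isColimit_mapDerivedCategory (Scheme.Modules.restrictFunctor j) hc

/-- extension by zero preserves coproducts -/
theorem presCoprod_extZeroD (V : X.Opens) : PresCoprod.{u} (CxOX.extZeroD V.ι) :=
  presCoprod_of_adjunction (shriekAdj V)

section Iso

variable {Y : Scheme.{u}} (φ : Y ≅ X)

/-- the composite of the restrictions along an isomorphism and its inverse -/
noncomputable def resResIso :
    Scheme.Modules.restrictFunctor φ.hom ⋙ Scheme.Modules.restrictFunctor φ.inv ≅ 𝟭 X.Modules :=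
  (Scheme.Modules.restrictFunctorComp φ.inv φ.hom).symm ≪≫
    Scheme.Modules.restrictFunctorCongr φ.inv_hom_id ≪≫ Scheme.Modules.restrictFunctorId

/-- restriction along an isomorphism of schemes is an equivalence of derived categories -/
noncomputable def restrictDEquiv : DCoh.D X ≌ DCoh.D Y :=
  CategoryTheory.Equivalence.mk (DCoh.restrictD φ.hom) (DCoh.restrictD φ.inv)
    (DerFaithful.mapDerivedCategoryCompIso _ _ (resResIso φ)).symm
    (DerFaithful.mapDerivedCategoryCompIso _ _ (resResIso φ.symm))

instance : (DCoh.restrictD φ.hom).IsEquivalence := (restrictDEquiv φ).isEquivalence_functor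

instance : (DCoh.restrictD φ.inv).IsEquivalence := (restrictDEquiv φ).isEquivalence_inverse

end Iso

end Groth.Agent.Lib.Helper5.BvdB
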