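import Mathlib
import Groth.Prelude.Def_PerfAux
import Groth.Agent.Lib.Helper3.CptGen

/-!
# Relative weak compactness (helper5)

`WeakCptRel Pr P`: maps from `P` into coproducts of families satisfying `Pr` have finite support.
-/
set_option autoImplicit false
set_option linter.unusedSectionVars false
universe w v u v' u'

open CategoryTheory CategoryTheory.Limits CategoryTheory.Pretriangulated

namespace Groth.Agent.Lib.Helper5.BvdB

open Groth.Agent.Helper3.CptGen

section Basic

variable {D : Type u} [Category.{v} D] [Preadditive D]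

/-- maps into coproducts (indexed by types of the universe `w`) of objects satisfying `Pr` have
finite support -/
def WeakCptRel (Pr : D → Prop) (P : D) : Prop :=
  ∀ (κ : Type w) (E : κ → D) (X : D) (ι : ∀ k, E k ⟶ X) (_ : IsColimit (Cofan.mk X ι)),
    (∀ k, Pr (E k)) → ∀ g : P ⟶ X, ∃ (S : Finset κ) (x : ∀ k, P ⟶ E k), g = ∑ k ∈ S, x k ≫ ι k

variable {Pr : D → Prop}

lemma WeakCptRel.of_retract {K X : D} (i : K ⟶ X) (r : X ⟶ K) (hir : i ≫ r = 𝟙 K)
    (hX : WeakCptRel.{w} Pr X) : WeakCptRel.{w} Pr K := by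
  intro κ E W ι hc hE g
  obtain ⟨S, x, hx⟩ := hX κ E W ι hc hE (r ≫ g)
  refine ⟨S, fun k => i ≫ x k, ?_⟩
  have : g = i ≫ r ≫ g := by rw [← Category.assoc, hir, Category.id_comp]
  rw [this, hx, Preadditive.comp_sum]
  apply Finset.sum_congr rfl
  intro k _
  rw [Category.assoc]

lemma WeakCptRel.of_iso {K X : D} (e : K ≅ X) (hX : WeakCptRel.{w} Pr X) :
    WeakCptRel.{w} Pr K :=
  WeakCptRel.of_retract e.hom e.inv e.hom_inv_id hX

lemma WeakCptRel.of_isZero {K : D} (hK : IsZero K) : WeakCptRel.{w} Pr K := by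
  intro κ E W ι hc _ g
  exact ⟨∅, fun k => 0, by simpa using hK.eq_of_src g 0⟩

lemma WeakCptRel.biprod {K L : D} [HasBinaryBiproduct K L] (hK : WeakCptRel.{w} Pr K)
    (hL : WeakCptRel.{w} Pr L) : WeakCptRel.{w} Pr (K ⊞ L) := by
  classical
  intro κ E W ι hc hE g
  obtain ⟨S, x, hx⟩ := hK κ E W ι hc hE (biprod.inl ≫ g)
  obtain ⟨S', x', hx'⟩ := hL κ E W ι hc hE (biprod.inr ≫ g)
  refine ⟨S ∪ S', fun k => (if k ∈ S then biprod.fst ≫ x k else 0) +
    (if k ∈ S' then biprod.snd ≫ x' k else 0), ?_⟩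
  have hg : g = biprod.fst ≫ biprod.inl ≫ g + biprod.snd ≫ biprod.inr ≫ g := by
    rw [← Category.assoc, ← Category.assoc, ← Preadditive.add_comp, biprod.total,
      Category.id_comp]
  conv_lhs => rw [hg, hx, hx', Preadditive.comp_sum, Preadditive.comp_sum]
  simp only [Preadditive.add_comp, Finset.sum_add_distrib]
  congr 1
  · rw [← Finset.sum_subset (Finset.subset_union_left (s₂ := S'))]
    · apply Finset.sum_congr rfl
      intro k hk
      rw [if_pos hk, Category.assoc]
    · intro k _ hk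
      rw [if_neg hk, zero_comp]
  · rw [← Finset.sum_subset (Finset.subset_union_right (s₁ := S))]
    · apply Finset.sum_congr rfl
      intro k hk
      rw [if_pos hk, Category.assoc]
    · intro k _ hk
      rw [if_neg hk, zero_comp]

end Basic

section Adj

variable {C : Type u} [Category.{v} C] [Preadditive C] {D : Type u'} [Category.{v'} D]
  [Preadditive D] {PrC : C → Prop} {PrD : D → Prop}

/-- a left adjoint whose right adjoint preserves the relevant coproducts preserves relatively
weakly compact objects -/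
lemma WeakCptRel.of_adj {S : C ⥤ D} {S' : D ⥤ C} (adj : S ⊣ S') [S.Additive]
    (hPr : ∀ Y, PrD Y → PrC (S'.obj Y))
    (hS' : ∀ (κ : Type w) (E : κ → D) (W : D) (ι : ∀ k, E k ⟶ W), IsColimit (Cofan.mk W ι) →
      (∀ k, PrD (E k)) → Nonempty (IsColimit (Cofan.mk (S'.obj W) (fun k => S'.map (ι k)))))
    {K : C} (hK : WeakCptRel.{w} PrC K) : WeakCptRel.{w} PrD (S.obj K) := by
  intro κ E W ι hc hE f
  obtain ⟨hc'⟩ := hS' κ E W ι hc hE
  obtain ⟨T, g, hg⟩ := hK κ (fun k => S'.obj (E k)) _ _ hc' (fun k => hPr _ (hE k))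
    (adj.homEquiv _ _ f)
  refine ⟨T, fun k => S.map (g k) ≫ adj.counit.app (E k), ?_⟩
  have h3 : f = S.map (adj.homEquiv _ _ f) ≫ adj.counit.app _ := by
    rw [Adjunction.homEquiv_unit]
    simp
  rw [h3, hg, Functor.map_sum, Preadditive.sum_comp]
  apply Finset.sum_congr rfl
  intro k _
  rw [Functor.map_comp, Category.assoc, Category.assoc]
  congr 1
  exact adj.counit_naturality (ι k)

end Adj

section Triang

variable {D : Type u} [Category.{v} D] [Preadditive D] [HasZeroObject D] [HasShift D ℤ]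
  [∀ n : ℤ, (shiftFunctor D n).Additive] [Pretriangulated D] {Pr : D → Prop}

lemma WeakCptRel.shift (hPr : ∀ (Y : D) (n : ℤ), Pr Y → Pr (Y⟦n⟧)) {K : D}
    (hK : WeakCptRel.{w} Pr K) (n : ℤ) : WeakCptRel.{w} Pr (K⟦n⟧) := by
  have : (shiftEquiv D n).functor.Additive := inferInstanceAs (shiftFunctor D n).Additive
  refine WeakCptRel.of_adj (shiftEquiv D n).toAdjunction (fun Y hY => hPr Y (-n) hY) ?_ hK
  intro κ E W ι hc _
  exact ⟨isColimitCofanMkObjOfIsColimit (shiftEquiv D n).inverse _ ι hc⟩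

lemma WeakCptRel.ext₂ (T : Triangle D) (hT : T ∈ distTriang D)
    (h₁ : WeakCptRel.{w} Pr T.obj₁) (h₃ : WeakCptRel.{w} Pr T.obj₃) :
    WeakCptRel.{w} Pr T.obj₂ := by
  classical
  intro κ E W ι hc hE f
  obtain ⟨S, g, hg⟩ := h₁ κ E W ι hc hE (T.mor₁ ≫ f)
  let fS : T.obj₂ ⟶ W := ∑ k ∈ S, (f ≫ proj ι hc k) ≫ ι k
  have h1 : T.mor₁ ≫ fS = T.mor₁ ≫ f := by
    have hgk : ∀ k ∈ S, (T.mor₁ ≫ f) ≫ proj ι hc k = g k := by
      intro k hk
      rw [hg, Preadditive.sum_comp, Finset.sum_eq_single k]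
      · rw [Category.assoc, inj_proj_self, Category.comp_id]
      · intro j _ hj
        rw [Category.assoc, inj_proj_ne ι hc hj, comp_zero]
      · intro h
        exact absurd hk h
    rw [Preadditive.comp_sum]
    conv_rhs => rw [hg]
    apply Finset.sum_congr rfl
    intro k hk
    rw [← Category.assoc, ← Category.assoc, hgk k hk]
  have h2 : T.mor₁ ≫ (f - fS) = 0 := by
    rw [Preadditive.comp_sub, h1, sub_self]
  obtain ⟨f'', hf''⟩ := Triangle.yoneda_exact₂ T hT (f - fS) h2
  obtain ⟨S', z, hz⟩ := h₃ κ E W ι hc hE f''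
  have h3 : f = fS + T.mor₂ ≫ f'' := by rw [← hf'']; abel
  refine ⟨S ∪ S', fun k => (if k ∈ S then f ≫ proj ι hc k else 0) +
    (if k ∈ S' then T.mor₂ ≫ z k else 0), ?_⟩
  conv_lhs => rw [h3, hz, Preadditive.comp_sum]
  simp only [Preadditive.add_comp, Finset.sum_add_distrib]
  congr 1
  · rw [← Finset.sum_subset (Finset.subset_union_left (s₂ := S'))]
    · apply Finset.sum_congr rfl
      intro k hk
      rw [if_pos hk]
    · intro k _ hk
      rw [if_neg hk, zero_comp]
  · rw [← Finset.sum_subset (Finset.subset_union_right (s₁ := S))]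
    · apply Finset.sum_congr rfl
      intro k hk
      rw [if_pos hk, Category.assoc]
    · intro k _ hk
      rw [if_neg hk, zero_comp]

/-- the third vertex of a triangle whose first two vertices are relatively weakly compact is so -/
lemma WeakCptRel.ext₃ (hPr : ∀ (Y : D) (n : ℤ), Pr Y → Pr (Y⟦n⟧)) (T : Triangle D)
    (hT : T ∈ distTriang D) (h₁ : WeakCptRel.{w} Pr T.obj₁) (h₂ : WeakCptRel.{w} Pr T.obj₂) :
    WeakCptRel.{w} Pr T.obj₃ :=
  WeakCptRel.ext₂ T.rotate (rot_of_distTriang _ hT) h₂ (WeakCptRel.shift hPr h₁ 1)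

end Triang

section Bridge

variable {D : Type u} [Category.{v} D] [Preadditive D] {Pr : D → Prop}

lemma homSum_of (K : D) {κ : Type w} (X : κ → D) [HasCoproduct X] [DecidableEq κ] (k : κ)
    (f : K ⟶ X k) :
    PerfAux.homSumToHomCoprod K X (DirectSum.of (fun i => K ⟶ X i) k f) = f ≫ Sigma.ι X k := by
  unfold PerfAux.homSumToHomCoprod
  convert DirectSum.toAddMonoid_of (fun i => Preadditive.rightComp K (Sigma.ι X i)) k f
  rfl

lemma homSum_eq_sum (K : D) {κ : Type w} (X : κ → D) [HasCoproduct X] [DecidableEq κ]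
    [∀ k (x : K ⟶ X k), Decidable (x ≠ 0)] (x : DirectSum κ (fun k => K ⟶ X k)) :
    PerfAux.homSumToHomCoprod K X x = ∑ k ∈ x.support, x k ≫ Sigma.ι X k := by
  conv_lhs => rw [← DirectSum.sum_support_of x, map_sum]
  apply Finset.sum_congr rfl
  intro k _
  rw [homSum_of]

/-- relative weak compactness implies relative compactness in the sense of the prelude -/
theorem isCompactObjRel_of_weakCptRel {K : D} (hK : WeakCptRel.{w} Pr K) :
    PerfAux.IsCompactObjRel.{w} Pr K := by
  classical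
  intro κ X _ hX
  have hc : IsColimit (Cofan.mk (∐ X) (Sigma.ι X)) := coproductIsCoproduct X
  constructor
  · rw [injective_iff_map_eq_zero]
    intro x hx
    apply DFinsupp.ext
    intro k
    have h1 : PerfAux.homSumToHomCoprod K X x ≫ proj (Sigma.ι X) hc k = x k := by
      rw [homSum_eq_sum, Preadditive.sum_comp]
      by_cases hk : k ∈ x.support
      · rw [Finset.sum_eq_single k]
        · rw [Category.assoc, inj_proj_self, Category.comp_id]
        · intro j _ hj
          rw [Category.assoc, inj_proj_ne _ hc hj, comp_zero]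
        · intro h
          exact absurd hk h
      · rw [Finset.sum_eq_zero]
        · simp only [DFinsupp.mem_support_toFun, ne_eq, not_not] at hk
          exact hk.symm
        · intro j hj
          have : j ≠ k := fun h => hk (h ▸ hj)
          rw [Category.assoc, inj_proj_ne _ hc this, comp_zero]
    rw [← h1, hx, zero_comp]
    rfl
  · intro f
    obtain ⟨S, g, hg⟩ := hK κ X (∐ X) (Sigma.ι X) hc hX f
    refine ⟨∑ k ∈ S, DirectSum.of (fun k => K ⟶ X k) k (g k), ?_⟩
    rw [map_sum, hg]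
    apply Finset.sum_congr rfl
    intro k _
    rw [homSum_of]

/-- relative compactness in the sense of the prelude implies relative weak compactness -/
theorem weakCptRel_of_isCompactObjRel {K : D} (hK : PerfAux.IsCompactObjRel.{w} Pr K) :
    WeakCptRel.{w} Pr K := by
  classical
  intro κ E W ι hc hE g
  have : HasCoproduct E := ⟨⟨⟨_, hc⟩⟩⟩
  let e : ∐ E ≅ W := (colimit.isColimit _).coconePointUniqueUpToIso hc
  have he : ∀ k, Sigma.ι E k ≫ e.hom = ι k := fun k =>
    IsColimit.comp_coconePointUniqueUpToIso_hom (colimit.isColimit _) hc ⟨k⟩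
  obtain ⟨x, hx⟩ := (hK κ E hE).2 (g ≫ e.inv)
  refine ⟨x.support, fun k => x k, ?_⟩
  have : g = (g ≫ e.inv) ≫ e.hom := by rw [Category.assoc, e.inv_hom_id, Category.comp_id]
  rw [this, ← hx, homSum_eq_sum, Preadditive.sum_comp]
  apply Finset.sum_congr rfl
  intro k _
  rw [Category.assoc, he]

end Bridge

end Groth.Agent.Lib.Helper5.BvdB
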