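import Mathlib
import Groth.Prelude.Def_DCoh3
import Groth.Agent.Lib.Helper5.BvdB.Adj2
import Groth.Agent.Lib.Helper5.BvdB.Cpt
import Groth.Agent.Lib.Helper5.Gen.Compact
import Groth.Agent.Lib.Helper5.Perf.CountHomAff
import Groth.Agent.Lib.Helper5.QC.SpecMain
import Groth.Agent.Lib.Helper5.QC.LpullQC
import Groth.Agent.Lib.Helper5.TildePC.Main

/-!
# Perfect objects on affine schemes are compact relative to `D_QCoh` (helper5)
-/
set_option autoImplicit false
set_option linter.unusedSectionVars false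
set_option linter.unusedVariables false
universe u
open CategoryTheory CategoryTheory.Limits AlgebraicGeometry
attribute [local instance] HasDerivedCategory.standard

namespace Groth.Agent.Lib.Helper5.BvdB

open Groth.Agent.Lib.Helper5 Helper5.Gen Groth.Agent.Lib.Helper5.QC
  Groth.Agent.Lib.Helper5.TildePC Groth.Agent.Lib.Helper5.PerfTri
  Groth.Agent.Lib.Helper5.CountHom Groth.Agent.Lib.Helper5.HomVanish
  Groth.Agent.Helper3.CptGen

section FF

variable {C : Type*} [Category C] [Preadditive C] {D : Type*} [Category D] [Preadditive D]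
  {PrC : C → Prop} {PrD : D → Prop}

/-- relative weak compactness is reflected by fully faithful additive functors preserving the
relevant coproducts -/
theorem WeakCptRel.of_fullyFaithful (F : C ⥤ D) [F.Additive] [F.Full] [F.Faithful]
    (hF : PresCoprod.{u} F) (hPr : ∀ Y, PrC Y → PrD (F.obj Y)) {K : C}
    (hK : WeakCptRel.{u} PrD (F.obj K)) : WeakCptRel.{u} PrC K := by
  intro κ E W ι hc hE g
  obtain ⟨hc'⟩ := hF κ E W ι hc
  obtain ⟨S, x, hx⟩ := hK κ (fun k => F.obj (E k)) _ _ hc' (fun k => hPr _ (hE k)) (F.map g)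
  refine ⟨S, fun k => F.preimage (x k), ?_⟩
  apply F.map_injective
  rw [hx, Functor.map_sum]
  apply Finset.sum_congr rfl
  intro k _
  rw [Functor.map_comp, Functor.map_preimage]

end FF

section Spec

variable (R : CommRingCat.{u})

/-- perfect objects on `Spec R` are compact relative to `D_QCoh` -/
theorem weakCptRel_spec (E : DCoh.D (Spec (CommRingCat.of R))) (hE : DCoh.IsPerfect E) :
    WeakCptRel.{u} (DCoh.IsQCohD (X := Spec (CommRingCat.of R))) E := by
  classical
  intro κ F W ι hc hF g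
  obtain ⟨P, ⟨eP⟩⟩ := ((tildeD_main R).2.2 E).1 (isQCohD_of_isPerfect E hE)
  haveI : (DCoh.tildeD R).Full := (tildeD_main R).1
  have hP : DRing.IsPerfect R P := (isPerfect_tildeD_iff R P).1 (isPerfect_of_iso eP.symm hE)
  choose N hN using fun k => ((tildeD_main R).2.2 (F k)).1 (hF k)
  let eN : ∀ k, (DCoh.tildeD R).obj (N k) ≅ F k := fun k => (hN k).some
  haveI : HasCoproductsOfShape κ (DerivedCategory (ModuleCat.{u} R)) :=
    Groth.Agent.Helper3.DCoprod.hasCoproductsOfShape
  have hcN : IsColimit (Cofan.mk (∐ N) (Sigma.ι N)) := coproductIsCoproduct N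
  haveI : PreservesColimitsOfSize.{u, u} (tilde.functor R) :=
    (tilde.adjunction (R := R)).leftAdjoint_preservesColimits
  obtain ⟨hcT⟩ := nonempty_isColimit_mapDerivedCategory (tilde.functor R) hcN
  have hc' : IsColimit (Cofan.mk W (fun k => (eN k).hom ≫ ι k)) :=
    isColimitCofanOfIso (fun k => (eN k).symm) (Iso.refl W) (fun k => by simp) hc
  let eW : (DCoh.tildeD R).obj (∐ N) ≅ W := IsColimit.coconePointUniqueUpToIso hcT hc'
  have heW : ∀ k, (DCoh.tildeD R).map (Sigma.ι N k) ≫ eW.hom = (eN k).hom ≫ ι k := fun k =>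
    IsColimit.comp_coconePointUniqueUpToIso_hom hcT hc' ⟨k⟩
  obtain ⟨f, hf⟩ := (DCoh.tildeD R).map_surjective (eP.hom ≫ g ≫ eW.inv)
  obtain ⟨S, x, hx⟩ := weakCpt_of_isPerfect (R := R) P hP κ N (∐ N) (Sigma.ι N) hcN f
  refine ⟨S, fun k => eP.inv ≫ (DCoh.tildeD R).map (x k) ≫ (eN k).hom, ?_⟩
  have hg : g = eP.inv ≫ (DCoh.tildeD R).map f ≫ eW.hom := by
    rw [hf]
    simp
  rw [hg, hx, Functor.map_sum, Preadditive.sum_comp, Preadditive.comp_sum]
  apply Finset.sum_congr rfl
  intro k _
  rw [Functor.map_comp, Category.assoc, heW]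
  simp

end Spec

section Affine

variable {U : Scheme.{u}} [IsAffine U]

/-- perfect objects on an affine scheme are compact relative to `D_QCoh` -/
theorem weakCptRel_affine (E : DCoh.D U) (hE : DCoh.IsPerfect E) :
    WeakCptRel.{u} (DCoh.IsQCohD (X := U)) E := by
  let φ : Spec (CommRingCat.of Γ(U, ⊤)) ≅ U := U.isoSpec.symm
  haveI : (DCoh.restrictD φ.hom).IsEquivalence := inferInstance
  refine WeakCptRel.of_fullyFaithful (DCoh.restrictD φ.hom) (presCoprod_restrictD φ.hom)
    (fun Y hY => isQCohD_restrictJ φ.hom Y hY) ?_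
  exact weakCptRel_spec Γ(U, ⊤) _ (isPerfect_restrictJ φ.hom E hE)

end Affine

end Groth.Agent.Lib.Helper5.BvdB
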