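import Mathlib
import Groth.Prelude.Def_DCoh3
import Groth.Agent.Lib.Helper5.BvdB.AffCpt
import Groth.Agent.Lib.Helper5.Shriek.BCGen
import Groth.Agent.Lib.Helper5.DRing.PerfRes

/-!
# On an affine scheme the perfect objects detect the vanishing of objects of `D_QCoh` (helper5)
-/
set_option autoImplicit false
set_option linter.unusedSectionVars false
set_option linter.unusedVariables false
universe u
open CategoryTheory CategoryTheory.Limits AlgebraicGeometry
attribute [local instance] HasDerivedCategory.standard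

namespace Groth.Agent.Lib.Helper5.BvdB

open Groth.Agent.Lib.Helper5 Groth.Agent.Lib.Helper5.QC
  Groth.Agent.Lib.Helper5.TildePC Groth.Agent.Lib.Helper5.PerfTri
  Groth.Agent.Lib.Helper5.CountHom Groth.Agent.Lib.Helper5.HomVanish

section Ring

variable (R : Type u) [CommRing R]

/-- the ring, placed in degree zero, is a perfect object -/
theorem isPerfect_inD_self : DRing.IsPerfect R (Dual.inD R R) := by
  refine ⟨(HomologicalComplex.single (ModuleCat.{u} R) (ComplexShape.up ℤ) 0).obj
    (ModuleCat.of R R), 0, 0, ?_, ?_, ⟨?_⟩⟩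
  · intro i hi
    exact HomologicalComplex.isZero_single_obj_X _ _ _ _ (by omega)
  · intro i
    by_cases hi : i = 0
    · subst hi
      let e := (HomologicalComplex.singleObjXSelf (ComplexShape.up ℤ) (0 : ℤ)
        (ModuleCat.of R R)).toLinearEquiv
      exact ⟨Module.Finite.equiv e.symm, Module.Projective.of_equiv e.symm⟩
    · have hz : IsZero (((HomologicalComplex.single (ModuleCat.{u} R) (ComplexShape.up ℤ) 0).obj
          (ModuleCat.of R R)).X i) := HomologicalComplex.isZero_single_obj_X _ _ _ _ hi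
      haveI := ModuleCat.subsingleton_of_isZero hz
      exact ⟨inferInstance, inferInstance⟩
  · exact ((DerivedCategory.singleFunctorIsoCompQ (ModuleCat.{u} R) 0).app
      (ModuleCat.of R R)).symm

/-- an object of `D(R)` receiving no nonzero map from a perfect object vanishes -/
theorem isZero_of_hom_perfect (M : Dual.D R)
    (h : ∀ P : Dual.D R, DRing.IsPerfect R P → ∀ k : P ⟶ M, k = 0) : IsZero M := by
  apply Helper5.Shriek.isZero_of_unit_hom_subsingleton
  intro j k
  let adjS := (shiftEquiv (Dual.D R) j).symm.toAdjunction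
  have hP : DRing.IsPerfect R ((Dual.inD R R)⟦-j⟧) :=
    Groth.Agent.Helper5.PerfRes.perfect_shift _ _ (isPerfect_inD_self R)
  have h1 : (adjS.homEquiv (Dual.inD R R) M).symm k = 0 := h _ hP _
  have h2 : k = adjS.homEquiv (Dual.inD R R) M ((adjS.homEquiv (Dual.inD R R) M).symm k) :=
    (Equiv.apply_symm_apply _ _).symm
  rw [h2, h1]
  haveI : (shiftEquiv (Dual.D R) j).symm.functor.Additive :=
    inferInstanceAs (shiftFunctor (Dual.D R) (-j)).Additive
  exact map_zero (adjS.homAddEquiv (Dual.inD R R) M)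

end Ring

section Spec

variable (R : CommRingCat.{u})

theorem isZero_of_hom_perfect_spec (Z : DCoh.D (Spec (CommRingCat.of R))) (hZ : DCoh.IsQCohD Z)
    (h : ∀ g : DCoh.D (Spec (CommRingCat.of R)), DCoh.IsPerfect g → ∀ φ : g ⟶ Z, φ = 0) :
    IsZero Z := by
  obtain ⟨M, ⟨e⟩⟩ := ((tildeD_main R).2.2 Z).1 hZ
  haveI : (DCoh.tildeD R).Faithful := (tildeD_main R).2.1
  have hM : IsZero M := by
    apply isZero_of_hom_perfect
    intro P hP k
    have h1 : (DCoh.tildeD R).map k ≫ e.hom = 0 :=
      h _ ((isPerfect_tildeD_iff R P).2 hP) _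
    have h2 : (DCoh.tildeD R).map k = 0 := by
      rw [← cancel_mono e.hom, h1, zero_comp]
    apply (DCoh.tildeD R).map_injective
    rw [h2, Functor.map_zero]
  exact IsZero.of_iso ((DCoh.tildeD R).map_isZero hM) e.symm

end Spec

section Affine

variable {S : Scheme.{u}} [IsAffine S]

/-- **on an affine scheme, perfect objects detect vanishing in `D_QCoh`** -/
theorem isZero_of_hom_perfect_affine (Z : DCoh.D S) (hZ : DCoh.IsQCohD Z)
    (h : ∀ g : DCoh.D S, DCoh.IsPerfect g → ∀ φ : g ⟶ Z, φ = 0) : IsZero Z := by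
  let φ : Spec (CommRingCat.of Γ(S, ⊤)) ≅ S := S.isoSpec.symm
  let E := restrictDEquiv φ
  have h1 : IsZero (E.functor.obj Z) := by
    apply isZero_of_hom_perfect_spec Γ(S, ⊤) _ (isQCohD_restrictJ φ.hom Z hZ)
    intro g hg ψ
    have h2 : E.inverse.map ψ ≫ E.unitIso.inv.app Z = 0 :=
      h _ (isPerfect_restrictJ φ.inv g hg) _
    have h3 : E.inverse.map ψ = 0 :=
      (cancel_mono (E.unitIso.inv.app Z)).1 (h2.trans zero_comp.symm)
    apply E.inverse.map_injective
    rw [h3, Functor.map_zero]
  exact IsZero.of_iso (E.inverse.map_isZero h1) (E.unitIso.app Z)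

end Affine

end Groth.Agent.Lib.Helper5.BvdB
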