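import Mathlib
import Groth.Agent.Lib.Helper5.BvdB.KoszulRing
import Groth.Agent.Lib.Helper5.DRing.PerfRes
import Groth.Agent.Lib.Helper5.BvdB.AffDetect

/-!
# The Koszul generator of torsion complexes over a ring (helper5)

For a finite list `fs` of elements of `R` there is a perfect complex `K`, annihilated by powers
of the elements of `fs`, which detects the vanishing of complexes whose cohomology is `f`-power
torsion for all `f ∈ fs`.
-/
set_option autoImplicit false
set_option linter.unusedSectionVars false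
set_option linter.unusedVariables false
universe u
open CategoryTheory CategoryTheory.Limits Pretriangulated
attribute [local instance] HasDerivedCategory.standard

namespace Groth.Agent.Lib.Helper5.BvdB

open DerivedCategory Groth.Agent.Helper5.DRingCone

variable {R : Type u} [CommRing R]

/-- all maps from shifts of `P` to `N` vanish -/
def Det (P N : Dual.D R) : Prop := ∀ (n : ℤ) (ψ : P⟦n⟧ ⟶ N), ψ = 0

theorem det_of_cone (f : R) (N : Dual.D R) (hN : PowTors f N) (P C : Dual.D R)
    (hP : DRing.IsPerfect R P) (ι : P ⟶ C) (δ : C ⟶ P⟦(1 : ℤ)⟧)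
    (hT : Triangle.mk (f • 𝟙 P) ι δ ∈ distTriang (Dual.D R)) (h : Det C N) : Det P N := by
  intro n ψ
  have step : ∀ ψ' : P⟦n⟧ ⟶ N, f • ψ' = 0 → ψ' = 0 := by
    intro ψ' h0
    have hTn := Triangle.shift_distinguished _ hT n
    have h1 : ((Triangle.shiftFunctor _ n).obj (Triangle.mk (f • 𝟙 P) ι δ)).mor₁ ≫ ψ' = 0 := by
      show (n.negOnePow • (f • 𝟙 P)⟦n⟧') ≫ ψ' = 0
      rw [Functor.map_smul, CategoryTheory.Functor.map_id, Units.smul_def,
        Preadditive.zsmul_comp, Linear.smul_comp, Category.id_comp, h0, smul_zero]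
    obtain ⟨ψ'', hψ''⟩ := Triangle.yoneda_exact₂ _ hTn ψ' h1
    have h2 : ψ'' = 0 := h n ψ''
    rw [hψ'', h2]
    exact comp_zero
  obtain ⟨e, he⟩ := exists_pow_smul_eq_zero f (P⟦n⟧)
    (Groth.Agent.Helper5.PerfRes.perfect_shift P n hP) N hN ψ
  induction e with
  | zero => simpa using he
  | succ e ih =>
    apply ih
    apply step
    rw [← mul_smul, ← pow_succ']
    exact he

/-- the Koszul-type generator -/
theorem exists_koszul (fs : List R) :
    ∃ K : Dual.D R, DRing.IsPerfect R K ∧ (∀ f ∈ fs, ∃ a : ℕ, (f ^ a) • 𝟙 K = 0) ∧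
      ∀ N : Dual.D R, (∀ f ∈ fs, PowTors f N) → Det K N → Det (Dual.inD R R) N := by
  induction fs with
  | nil =>
    refine ⟨Dual.inD R R, ?_, fun f hf => absurd hf (List.not_mem_nil), fun N _ h => h⟩
    exact isPerfect_inD_self R
  | cons f fs ih =>
    obtain ⟨K, hK, hann, hdet⟩ := ih
    obtain ⟨C, ι, δ, hT⟩ := distinguished_cocone_triangle (f • 𝟙 K)
    have hC : DRing.IsPerfect R C := (perfect_two_of_three _ hT).1 hK hK
    refine ⟨C, hC, ?_, ?_⟩
    · have hrot := rot_of_distTriang _ hT
      intro g hg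
      rcases List.mem_cons.1 hg with rfl | hg'
      · refine ⟨1 + 1, ?_⟩
        have h2 : ((g ^ 1) • 𝟙 C) ≫ δ = 0 := by
          have h3 : δ ≫ (g • 𝟙 K)⟦(1 : ℤ)⟧' = 0 := comp_distTriang_mor_zero₃₁ _ hT
          rw [Functor.map_smul, CategoryTheory.Functor.map_id, Linear.comp_smul,
            Category.comp_id] at h3
          rw [pow_one, Linear.smul_comp, Category.id_comp]
          exact h3
        obtain ⟨θ, hθ⟩ : ∃ θ : C ⟶ K, (g ^ 1) • 𝟙 C = θ ≫ ι :=
          Triangle.coyoneda_exact₃ _ hT _ h2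
        have h4 : (g • 𝟙 K) ≫ ι = 0 := comp_distTriang_mor_zero₁₂ _ hT
        have h5 : (g ^ 1) • ι = 0 := by
          rw [Linear.smul_comp, Category.id_comp] at h4
          rw [pow_one]
          exact h4
        rw [pow_add, mul_smul, hθ, ← Linear.comp_smul, h5, comp_zero]
      · obtain ⟨a, ha⟩ := hann g hg'
        refine ⟨a + a, ?_⟩
        have := smul_id_mid_eq_zero _ hrot (g ^ a) (g ^ a) ha
          (smul_id_shift_eq_zero K (g ^ a) ha 1)
        rw [pow_add]
        exact this
    · intro N hN hCN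
      apply hdet N (fun g hg => hN g (List.mem_cons_of_mem _ hg))
      exact det_of_cone f N (hN f List.mem_cons_self) K C hK ι δ hT hCN

theorem isZero_of_det_unit (N : Dual.D R) (h : Det (Dual.inD R R) N) : IsZero N := by
  apply Helper5.Shriek.isZero_of_unit_hom_subsingleton
  intro j k
  let adjS := (shiftEquiv (Dual.D R) j).symm.toAdjunction
  have h1 : (adjS.homEquiv (Dual.inD R R) N).symm k = 0 := h (-j) _
  have h2 : k = adjS.homEquiv (Dual.inD R R) N ((adjS.homEquiv (Dual.inD R R) N).symm k) :=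
    (Equiv.apply_symm_apply _ _).symm
  rw [h2, h1]
  haveI : (shiftEquiv (Dual.D R) j).symm.functor.Additive :=
    inferInstanceAs (shiftFunctor (Dual.D R) (-j)).Additive
  exact map_zero (adjS.homAddEquiv (Dual.inD R R) N)

/-- **the Koszul generator**: a perfect complex killed by powers of the `f ∈ fs` detecting the
vanishing of complexes with `fs`-power torsion cohomology -/
theorem exists_koszul_gen (fs : List R) :
    ∃ K : Dual.D R, DRing.IsPerfect R K ∧ (∀ f ∈ fs, ∃ a : ℕ, (f ^ a) • 𝟙 K = 0) ∧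
      ∀ N : Dual.D R, (∀ f ∈ fs, PowTors f N) → Det K N → IsZero N := by
  obtain ⟨K, hK, hann, hdet⟩ := exists_koszul fs
  exact ⟨K, hK, hann, fun N hN h => isZero_of_det_unit N (hdet N hN h)⟩

end Groth.Agent.Lib.Helper5.BvdB
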