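import Mathlib
import Groth.Agent.Lib.Helper5.BvdB.Cpt

/-!
# Right adjoints of functors preserving (relatively) compact generators preserve coproducts
(helper5)
-/
set_option autoImplicit false
set_option linter.unusedSectionVars false
set_option linter.unusedVariables false
universe w v u v' u'

open CategoryTheory CategoryTheory.Limits CategoryTheory.Pretriangulated

namespace Groth.Agent.Lib.Helper5.BvdB

open Groth.Agent.Helper3.CptGen

/-- `G` preserves coproducts (indexed by types in `Type w`) of families satisfying `Pr` -/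
def PresCoprodRel {C : Type*} [Category C] {D : Type*} [Category D] (Pr : D → Prop)
    (G : D ⥤ C) : Prop :=
  ∀ (J : Type w) (X : J → D) (P : D) (g : ∀ j, X j ⟶ P), IsColimit (Cofan.mk P g) →
    (∀ j, Pr (X j)) → Nonempty (IsColimit (Cofan.mk (G.obj P) (fun j => G.map (g j))))

section

variable {C : Type u} [Category.{v} C] [Preadditive C] [HasZeroObject C] [HasShift C ℤ]
  [∀ n : ℤ, (shiftFunctor C n).Additive] [Pretriangulated C]
  {D : Type u'} [Category.{v'} D] [Preadditive D]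
  {L : C ⥤ D} {G : D ⥤ C} (adj : L ⊣ G) [L.Additive]
  (PrC : C → Prop) (PrD : D → Prop) (gen : C → Prop)

include adj in
/-- a right adjoint `G` of a functor `L` sending a generating family of relatively compact
objects to relatively compact objects preserves coproducts -/
theorem presCoprodRel_rightAdjoint
    (hshift : ∀ (g : C) (n : ℤ), gen g → gen (g⟦n⟧))
    (hdetect : ∀ Z : C, PrC Z → (∀ g : C, gen g → ∀ φ : g ⟶ Z, φ = 0) → IsZero Z)
    (hcptC : ∀ g : C, gen g → WeakCptRel.{w} PrC g)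
    (hcptD : ∀ g : C, gen g → WeakCptRel.{w} PrD (L.obj g))
    (hG : ∀ Y : D, PrD Y → PrC (G.obj Y))
    (hcoprodC : ∀ (J : Type w) (X : J → C) (P : C) (g : ∀ j, X j ⟶ P),
      IsColimit (Cofan.mk P g) → (∀ j, PrC (X j)) → PrC P)
    (hcoprodD : ∀ (J : Type w) (X : J → D) (P : D) (g : ∀ j, X j ⟶ P),
      IsColimit (Cofan.mk P g) → (∀ j, PrD (X j)) → PrD P)
    (hcone : ∀ T ∈ distTriang C, PrC T.obj₁ → PrC T.obj₂ → PrC T.obj₃)
    [∀ J : Type w, HasCoproductsOfShape J C] : PresCoprodRel.{w} PrD G := by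
  classical
  intro J X P g hc hX
  let Y : J → C := fun j => G.obj (X j)
  let κ : ∐ Y ⟶ G.obj P := Sigma.desc (fun j => G.map (g j))
  have hκ : ∀ j, Sigma.ι Y j ≫ κ = G.map (g j) := fun j => Sigma.ι_desc _ j
  have hS : IsColimit (Cofan.mk (∐ Y) (Sigma.ι Y)) := coproductIsCoproduct Y
  have hY : ∀ j, PrC (Y j) := fun j => hG _ (hX j)
  -- injectivity and surjectivity on maps out of the generators
  have hinj : ∀ γ : C, gen γ → ∀ b : γ ⟶ ∐ Y, b ≫ κ = 0 → b = 0 := by
    intro γ hγ b h0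
    obtain ⟨S, x, hx⟩ := hcptC γ hγ J Y (∐ Y) (Sigma.ι Y) hS hY b
    have h1 : ∑ j ∈ S, (adj.homAddEquiv _ _).symm (x j) ≫ g j = 0 := by
      have h2 : (adj.homAddEquiv _ _).symm (b ≫ κ) = 0 := by rw [h0, map_zero]
      rw [hx, Preadditive.sum_comp, map_sum] at h2
      rw [← h2]
      apply Finset.sum_congr rfl
      intro j _
      rw [Category.assoc, hκ]
      exact (adj.homEquiv_naturality_right_symm (x j) (g j)).symm
    have h3 : ∀ k ∈ S, x k = 0 := by
      intro k hk
      have h4 := congrArg (fun t => t ≫ proj g hc k) h1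
      simp only [Preadditive.sum_comp, zero_comp, Category.assoc] at h4
      rw [Finset.sum_eq_single k] at h4
      · rw [inj_proj_self, Category.comp_id] at h4
        exact (adj.homAddEquiv _ _).symm.injective (h4.trans (map_zero _).symm)
      · intro j _ hj
        rw [inj_proj_ne g hc hj, comp_zero]
      · intro h
        exact absurd hk h
    rw [hx]
    apply Finset.sum_eq_zero
    intro k hk
    rw [h3 k hk, zero_comp]
  have hsurj : ∀ γ : C, gen γ → ∀ b : γ ⟶ G.obj P, ∃ a : γ ⟶ ∐ Y, a ≫ κ = b := by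
    intro γ hγ b
    obtain ⟨S, y, hy⟩ := hcptD γ hγ J X P g hc hX ((adj.homEquiv _ _).symm b)
    refine ⟨∑ j ∈ S, adj.homEquiv _ _ (y j) ≫ Sigma.ι Y j, ?_⟩
    have h1 : b = adj.homAddEquiv _ _ (∑ j ∈ S, y j ≫ g j) := by
      rw [← hy]
      exact ((adj.homEquiv _ _).apply_symm_apply b).symm
    rw [h1, map_sum, Preadditive.sum_comp]
    apply Finset.sum_congr rfl
    intro j _
    rw [Category.assoc, hκ]
    exact (adj.homEquiv_naturality_right (y j) (g j)).symm
  -- the cone of `κ` vanishes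
  obtain ⟨Z, π, δ, hT⟩ := distinguished_cocone_triangle κ
  have hPY : PrC (∐ Y) := hcoprodC J Y (∐ Y) (Sigma.ι Y) hS hY
  have hPP : PrC (G.obj P) := hG _ (hcoprodD J X P g hc hX)
  have hZ : PrC Z := hcone _ hT hPY hPP
  have hZ0 : IsZero Z := by
    apply hdetect Z hZ
    intro γ hγ φ
    have h1 : (φ ≫ δ) ≫ κ⟦(1 : ℤ)⟧' = 0 := by
      rw [Category.assoc]
      have h0 : δ ≫ κ⟦(1 : ℤ)⟧' = 0 := comp_distTriang_mor_zero₃₁ _ hT
      rw [h0, comp_zero]
    have h2 : φ ≫ δ = 0 := by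
      let adjS := (shiftEquiv C (1 : ℤ)).symm.toAdjunction
      haveI : (shiftEquiv C (1 : ℤ)).symm.functor.Additive :=
        inferInstanceAs (shiftFunctor C (-(1 : ℤ))).Additive
      let k : γ⟦-(1 : ℤ)⟧ ⟶ ∐ Y := (adjS.homEquiv γ (∐ Y)).symm (φ ≫ δ)
      have hk : adjS.homEquiv γ (∐ Y) k = φ ≫ δ := Equiv.apply_symm_apply _ _
      have h3 : adjS.homEquiv γ (G.obj P) (k ≫ κ) = 0 := by
        rw [Adjunction.homEquiv_naturality_right, hk]
        exact h1
      have h4 : k ≫ κ = 0 := by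
        apply (adjS.homAddEquiv γ (G.obj P)).injective
        exact h3.trans (map_zero (adjS.homAddEquiv γ (G.obj P))).symm
      have h5 : k = 0 := hinj _ (hshift γ (-1) hγ) k h4
      rw [← hk, h5]
      exact map_zero (adjS.homAddEquiv γ (∐ Y))
    obtain ⟨ψ, hψ⟩ := Triangle.coyoneda_exact₃ _ hT φ h2
    obtain ⟨a, ha⟩ := hsurj γ hγ ψ
    have h6 : κ ≫ π = 0 := comp_distTriang_mor_zero₁₂ _ hT
    have h7 : φ = ψ ≫ π := hψ
    have h8 : (a ≫ κ) ≫ π = 0 := (Category.assoc a κ π).trans (by rw [h6, comp_zero])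
    rw [h7, ← ha]
    exact h8
  haveI : IsIso κ := (Triangle.isZero₃_iff_isIso₁ _ hT).1 hZ0
  refine ⟨IsColimit.ofIsoColimit hS (Cofan.ext (asIso κ) ?_)⟩
  intro j
  exact hκ j

end

end Groth.Agent.Lib.Helper5.BvdB
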