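import Mathlib
import Groth.Prelude.Def_DCoh3
import Groth.Agent.Lib.Helper5.BvdB.AffCpt
import Groth.Agent.Lib.Helper5.MV.MVShriekTri
import Groth.Agent.Lib.Helper5.QC.QcqsInd
import Groth.Agent.Lib.Helper5.QC.DQCTri
import Groth.Agent.Lib.Helper5.QC.RpushQC

/-!
# Perfect objects on quasi-compact quasi-separated schemes are compact relative to `D_QCoh`
(helper5)
-/
set_option autoImplicit false
set_option linter.unusedSectionVars false
set_option linter.unusedVariables false
universe u
open CategoryTheory CategoryTheory.Limits AlgebraicGeometry Pretriangulated TopologicalSpace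
attribute [local instance] HasDerivedCategory.standard

namespace Groth.Agent.Lib.Helper5.BvdB

open Groth.Agent.Lib.Helper5 Helper5.Gen Groth.Agent.Lib.Helper5.QC
  Groth.Agent.Lib.Helper5.PerfTri Groth.Agent.Lib.Helper5.CountHom
  Groth.Agent.Lib.Helper5.HomVanish Groth.Agent.Lib.Helper5.MVShriek Groth.Agent.Lib.Helper5.MV

attribute [local instance] preservesFiniteLimits_extZero

variable {X : Scheme.{u}}

theorem isQCohD_shift_all (Y : DCoh.D X) (n : ℤ) (hY : DCoh.IsQCohD Y) : DCoh.IsQCohD (Y⟦n⟧) :=
  isQCohD_shift Y hY n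

/-- extension by zero from an open preserves relative compactness -/
theorem weakCptRel_extZeroD (V : X.Opens) (K : DCoh.D (V : Scheme.{u}))
    (hK : WeakCptRel.{u} (DCoh.IsQCohD (X := (V : Scheme.{u}))) K) :
    WeakCptRel.{u} (DCoh.IsQCohD (X := X)) ((CxOX.extZeroD V.ι).obj K) :=
  WeakCptRel.of_adj (shriekAdj V) (fun Y hY => isQCohD_restrictJ V.ι Y hY)
    (fun κ E W ι hc _ => presCoprod_restrictD V.ι κ E W ι hc) hK

variable (K : CochainComplex X.Modules ℤ)

/-- the property propagated by the induction -/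
def PCpt (O : X.Opens) : Prop :=
  WeakCptRel.{u} (DCoh.IsQCohD (X := X)) (DerivedCategory.Q.obj ((LC O).obj K))

theorem pCpt_base (hK : DCoh.IsPerfect (DerivedCategory.Q.obj K)) (O : X.Opens)
    (hO : IsAffineOpen O) : PCpt K O := by
  haveI : IsAffine (O : Scheme.{u}) := hO
  refine WeakCptRel.of_iso (vertexIso K O _ (Iso.refl _)) ?_
  exact weakCptRel_extZeroD O _ (weakCptRel_affine _ (isPerfect_restrictJ O.ι _ hK))

theorem pCpt_mv (T U V W : X.Opens) (D : MVData T U V W) (hU : PCpt K U) (hV : PCpt K V)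
    (hW : PCpt K W) : PCpt K T := by
  have hS := shCx_shortExact D K
  have hT := DerivedCategory.triangleOfSES_distinguished hS
  haveI : PreservesBinaryBiproducts (DerivedCategory.Q (C := X.Modules)) :=
    preservesBinaryBiproducts_of_preservesBiproducts _
  have h2 : WeakCptRel.{u} (DCoh.IsQCohD (X := X)) (DerivedCategory.triangleOfSES hS).obj₂ :=
    WeakCptRel.of_iso
      ((DerivedCategory.Q (C := X.Modules)).mapBiprod ((LC U).obj K) ((LC V).obj K))
      (WeakCptRel.biprod hU hV)
  exact WeakCptRel.ext₃ isQCohD_shift_all _ hT hW h2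

/-- **perfect objects on a quasi-compact quasi-separated scheme are compact relative to
`D_QCoh`** -/
theorem weakCptRel_of_isPerfect [CompactSpace X] [QuasiSeparatedSpace X] (E : DCoh.D X)
    (hE : DCoh.IsPerfect E) : WeakCptRel.{u} (DCoh.IsQCohD (X := X)) E := by
  let K : CochainComplex X.Modules ℤ := DerivedCategory.Q.objPreimage E
  let eE : DerivedCategory.Q.obj K ≅ E := DerivedCategory.Q.objObjPreimageIso E
  have hK : DCoh.IsPerfect (DerivedCategory.Q.obj K) := isPerfect_of_iso eE.symm hE
  have h := qcqs_induction (PCpt K) (pCpt_base K hK) (pCpt_mv K) (⊤ : X.Opens)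
    (by simpa using isCompact_univ)
  exact WeakCptRel.of_iso (eE.symm ≪≫ DerivedCategory.Q.mapIso (topIso K).symm) h

end Groth.Agent.Lib.Helper5.BvdB
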