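import Mathlib
import Groth.Prelude.Def_DCoh3
import Groth.Agent.Lib.Helper5.BvdB.ShriekCpt
import Groth.Agent.Lib.Helper5.BvdB.AffDetect
import Groth.Agent.Lib.Helper5.BvdB.RAdjCoprod
import Groth.Agent.Lib.Helper5.QC.CoprodQC
import Groth.Agent.Lib.Helper5.QC.RpushQC
import Groth.Agent.Lib.Helper5.QC.RpushBound
import Groth.Agent.Lib.Helper5.Perf.LpullPerf
import Groth.Agent.Lib.Helper5.MV.RpushTri
import Groth.Agent.Lib.Helper5.Stalk.RpushRes

/-!
# `Rf_*` commutes with direct sums on `D_QCoh` for quasi-compact quasi-separated `f` (helper5)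
-/
set_option autoImplicit false
set_option linter.unusedSectionVars false
set_option linter.unusedVariables false
universe u
open CategoryTheory CategoryTheory.Limits AlgebraicGeometry Pretriangulated TopologicalSpace
attribute [local instance] HasDerivedCategory.standard

namespace Groth.Agent.Lib.Helper5.BvdB

open Groth.Agent.Lib.Helper5 Helper5.Gen Groth.Agent.Lib.Helper5.QC
  Groth.Agent.Lib.Helper5.PerfTri Groth.Agent.Lib.Helper5.CountHom
  Groth.Agent.Lib.Helper5.HomVanish Groth.Agent.Lib.Helper5.LpullLib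
  Groth.Agent.Lib.Helper5.MV Groth.Agent.Lib.Helper5.RpushRes
  Groth.Agent.Lib.Helper5.RpushSupp

variable {X S : Scheme.{u}}

/-- the vertex of a colimit cofan of objects of `D_QCoh` is in `D_QCoh` -/
theorem isQCohD_of_isColimit {J : Type u} (K : J → DCoh.D X) (P : DCoh.D X) (g : ∀ j, K j ⟶ P)
    (hc : IsColimit (Cofan.mk P g)) (hK : ∀ j, DCoh.IsQCohD (K j)) : DCoh.IsQCohD P := by
  have : HasCoproduct K := ⟨⟨⟨_, hc⟩⟩⟩
  exact isQCohD_of_iso ((colimit.isColimit _).coconePointUniqueUpToIso hc) (isQCohD_sigma K hK)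

instance hasCoproductsOfShape_D (J : Type u) (Z : Scheme.{u}) :
    HasCoproductsOfShape J (DCoh.D Z) :=
  Groth.Agent.Helper3.DCoprod.hasCoproductsOfShape

/-- the affine case -/
theorem presCoprodRel_rpush_affine (f : X ⟶ S) [IsAffine S] [QuasiCompact f] [QuasiSeparated f]
    [DCoh.HasRpush f] : PresCoprodRel.{u} (DCoh.IsQCohD (X := X)) (DCoh.Rpush f) := by
  haveI : CompactSpace X := HasAffineProperty.iff_of_isAffine.mp ‹QuasiCompact f›
  haveI : QuasiSeparatedSpace X := HasAffineProperty.iff_of_isAffine.mp ‹QuasiSeparated f›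
  haveI : DCoh.HasLpull f := hasLpull f
  haveI := additive_rpush f
  haveI : (DCoh.Lpull f).Additive := (lpullRpushAdj f).left_adjoint_additive
  refine presCoprodRel_rightAdjoint (lpullRpushAdj f) (DCoh.IsQCohD (X := S))
    (DCoh.IsQCohD (X := X)) (fun g => DCoh.IsPerfect g) (fun g n hg => isPerfect_shift hg n)
    (fun Z hZ h => isZero_of_hom_perfect_affine Z hZ h)
    (fun g hg => weakCptRel_of_isPerfect g hg)
    (fun g hg => weakCptRel_of_isPerfect _ (isPerfect_Lpull f g hg))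
    (fun Y hY => isQCohD_rpush f Y hY)
    (fun J K P g hc hK => isQCohD_of_isColimit K P g hc hK)
    (fun J K P g hc hK => isQCohD_of_isColimit K P g hc hK)
    (fun T hT h1 h2 => isQCohD_of_triangle_right T hT h1 h2)

section Formal

variable {C : Type*} [Category C] {D : Type*} [Category D] {E : Type*} [Category E]

theorem PresCoprodRel.of_iso {Pr : D → Prop} {G G' : D ⥤ C} (e : G ≅ G')
    (hG : PresCoprodRel.{u} Pr G) : PresCoprodRel.{u} Pr G' := by
  intro J X P g hc hX
  obtain ⟨h1⟩ := hG J X P g hc hX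
  refine ⟨(IsColimit.precomposeHomEquiv (Discrete.natIso fun j => e.app (X j.as)) _).1
    (IsColimit.ofIsoColimit h1 (Cocone.ext (e.app P) ?_))⟩
  rintro ⟨j⟩
  simp

theorem PresCoprodRel.comp {Pr : D → Prop} {Pr' : E → Prop} {F : D ⥤ E} {G : E ⥤ C}
    (hF : PresCoprod.{u} F) (hPr : ∀ Y, Pr Y → Pr' (F.obj Y))
    (hG : PresCoprodRel.{u} Pr' G) : PresCoprodRel.{u} Pr (F ⋙ G) := by
  intro J X P g hc hX
  obtain ⟨h1⟩ := hF J X P g hc
  exact hG J _ _ _ h1 (fun j => hPr _ (hX j))

theorem isIso_of_isColimit_of_isColimit {J : Type*} {X : J → C} {P P' : C} {g : ∀ j, X j ⟶ P}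
    {g' : ∀ j, X j ⟶ P'} (hc : IsColimit (Cofan.mk P g)) (hc' : IsColimit (Cofan.mk P' g'))
    (κ : P ⟶ P') (h : ∀ j, g j ≫ κ = g' j) : IsIso κ := by
  have : κ = (hc.coconePointUniqueUpToIso hc').hom := by
    refine Cofan.IsColimit.hom_ext hc _ _ (fun j => ?_)
    exact (h j).trans (IsColimit.comp_coconePointUniqueUpToIso_hom hc hc' ⟨j⟩).symm
  rw [this]
  infer_instance

end Formal

/-- a morphism of `D(O_S)` which is an isomorphism over the members of an open cover is an
isomorphism -/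
theorem isIso_of_isIso_restrictD {M N : DCoh.D S} (κ : M ⟶ N) {ι : Type*} (V : ι → S.Opens)
    (hV : ⨆ i, V i = ⊤) (h : ∀ i, IsIso ((DCoh.restrictD (V i).ι).map κ)) : IsIso κ := by
  obtain ⟨Z, π, δ, hT⟩ := distinguished_cocone_triangle κ
  have hZ : IsZero Z := by
    apply isZero_of_forall_isZero_HD
    intro n
    apply isZero_of_cover (DCoh.HD Z n) V hV
    intro i
    have hT' := (DCoh.restrictD (V i).ι).map_distinguished _ hT
    haveI := h i
    have hz : IsZero ((DCoh.restrictD (V i).ι).obj Z) :=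
      (Triangle.isZero₃_iff_isIso₁ _ hT').2 (h i)
    exact IsZero.of_iso
      ((DerivedCategory.homologyFunctor _ n).map_isZero hz) (hdRestrictDIso Z (V i) n)
  exact (Triangle.isZero₃_iff_isIso₁ _ hT).1 hZ

/-- **`Rf_*` commutes with direct sums on `D_QCoh`** for quasi-compact quasi-separated `f` -/
theorem presCoprodRel_rpush (f : X ⟶ S) [QuasiCompact f] [QuasiSeparated f]
    [DCoh.HasRpush f] : PresCoprodRel.{u} (DCoh.IsQCohD (X := X)) (DCoh.Rpush f) := by
  intro J K P g hc hK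
  let Y : J → DCoh.D S := fun j => (DCoh.Rpush f).obj (K j)
  let κ : ∐ Y ⟶ (DCoh.Rpush f).obj P := Sigma.desc (fun j => (DCoh.Rpush f).map (g j))
  have hκ : ∀ j, Sigma.ι Y j ≫ κ = (DCoh.Rpush f).map (g j) := fun j => Sigma.ι_desc _ j
  have hS : IsColimit (Cofan.mk (∐ Y) (Sigma.ι Y)) := coproductIsCoproduct Y
  haveI : IsIso κ := by
    refine isIso_of_isIso_restrictD κ (fun V : S.affineOpens => V.1) ?_ (fun V => ?_)
    · exact iSup_affineOpens_eq_top S
    · haveI : IsAffine (V.1 : Scheme.{u}) := V.2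
      haveI : DCoh.HasRpush (f ∣_ V.1) :=
        Groth.Agent.Helper3.KInjDer.hasRightDerivedFunctor (DCoh.pushKh (f ∣_ V.1))
      have h1 : PresCoprodRel.{u} (DCoh.IsQCohD (X := X))
          (DCoh.Rpush f ⋙ DCoh.restrictD V.1.ι) :=
        PresCoprodRel.of_iso (rpushRestrictIso f V.1).symm
          (PresCoprodRel.comp (presCoprod_restrictD (f ⁻¹ᵁ V.1).ι)
            (fun Y hY => isQCohD_restrictJ (f ⁻¹ᵁ V.1).ι Y hY)
            (presCoprodRel_rpush_affine (f ∣_ V.1)))
      obtain ⟨c1⟩ := h1 J K P g hc hK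
      obtain ⟨c2⟩ := presCoprod_restrictD V.1.ι J Y (∐ Y) (Sigma.ι Y) hS
      refine isIso_of_isColimit_of_isColimit c2 c1 _ (fun j => ?_)
      rw [← Functor.map_comp, hκ]
      rfl
  refine ⟨IsColimit.ofIsoColimit hS (Cofan.ext (asIso κ) ?_)⟩
  intro j
  exact hκ j

end Groth.Agent.Lib.Helper5.BvdB
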