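import Mathlib
import Groth.Prelude.Def_DCoh3
import Groth.Agent.Lib.Helper5.BvdB.RpushCoprod
import Groth.Agent.Lib.Helper5.DRing.AmpPerf
import Groth.Agent.Lib.Helper3.CptMain
import Groth.Agent.Lib.Helper3.CptMod

/-!
# Compact objects of `D_QCoh` are perfect (helper5)
-/
set_option autoImplicit false
set_option linter.unusedSectionVars false
set_option linter.unusedVariables false
universe u
open CategoryTheory CategoryTheory.Limits AlgebraicGeometry Pretriangulated TopologicalSpace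
attribute [local instance] HasDerivedCategory.standard

namespace Groth.Agent.Lib.Helper5.BvdB

open Groth.Agent.Lib.Helper5 Helper5.Gen Groth.Agent.Lib.Helper5.QC
  Groth.Agent.Lib.Helper5.TildePC Groth.Agent.Lib.Helper5.PerfTri
  Groth.Agent.Lib.Helper5.CountHom Groth.Agent.Lib.Helper5.HomVanish
  Groth.Agent.Helper3.CptGen Groth.Agent.Helper5.Summand

section Ring

variable {R : Type u} [CommRing R]

/-- retracts of perfect objects are perfect -/
theorem perfect_of_retract {K X : Dual.D R} (i : K ⟶ X) (r : X ⟶ K) (hir : i ≫ r = 𝟙 K)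
    (hX : DRing.IsPerfect R X) : DRing.IsPerfect R K := by
  rw [amp_iff] at hX ⊢
  obtain ⟨a, b, hab, h⟩ := hX
  exact ⟨a, b, hab, Amp.retract hyp_fp hab i r hir h⟩

/-- compact objects of `D(R)` are perfect -/
theorem isPerfect_of_weakCpt (M : Dual.D R) (hM : WeakCpt.{u} M) : DRing.IsPerfect R M := by
  obtain ⟨L, a, b, hz, hL, ⟨ρ⟩⟩ := Groth.Agent.Helper3.CptMain.main
    ({ModuleCat.of R R} : Set (ModuleCat.{u} R)) (Groth.Agent.Helper3.CptMod.exists_epi R)
    (fun E hE ι => by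
      have : E = ModuleCat.of R R := hE
      subst this
      infer_instance) M hM
  refine perfect_of_retract ρ.i ρ.r ρ.retract ⟨L, a, b, hz, fun i => ?_, ⟨Iso.refl _⟩⟩
  obtain ⟨n, E, hE, ⟨e⟩⟩ := hL i
  have hE' : ∀ j, E j = ModuleCat.of R R := fun j => hE j
  have hfin : ∀ j, Module.Finite R (E j) := fun j => by rw [hE' j]; exact Module.Finite.self R
  have hfree : ∀ j, Module.Free R (E j) := fun j => by rw [hE' j]; exact Module.Free.self R
  let e' : (L.X i) ≃ₗ[R] (⨁ E : ModuleCat.{u} R) := e.toLinearEquiv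
  let e'' : (⨁ E : ModuleCat.{u} R) ≃ₗ[R] (∀ j, E j) :=
    ((ModuleCat.biproductIsoPi E)).toLinearEquiv
  exact ⟨Module.Finite.equiv (e'.trans e'').symm, Module.Projective.of_equiv (e'.trans e'').symm⟩

end Ring

section Spec

variable (R : CommRingCat.{u})

theorem isPerfect_of_weakCptRel_spec (E : DCoh.D (Spec (CommRingCat.of R)))
    (hE : DCoh.IsQCohD E)
    (h : WeakCptRel.{u} (DCoh.IsQCohD (X := Spec (CommRingCat.of R))) E) : DCoh.IsPerfect E := by
  obtain ⟨M, ⟨e⟩⟩ := ((tildeD_main R).2.2 E).1 hE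
  haveI : (DCoh.tildeD R).Full := (tildeD_main R).1
  haveI : (DCoh.tildeD R).Faithful := (tildeD_main R).2.1
  haveI : PreservesColimitsOfSize.{u, u} (tilde.functor R) :=
    (tilde.adjunction (R := R)).leftAdjoint_preservesColimits
  have h1 : WeakCptRel.{u} (fun _ : Dual.D R => True) M := by
    refine WeakCptRel.of_fullyFaithful (DCoh.tildeD R)
      (fun J X P g hc => nonempty_isColimit_mapDerivedCategory (tilde.functor R) hc)
      (fun Y _ => ((tildeD_main R).2.2 _).2 ⟨Y, ⟨Iso.refl _⟩⟩) (WeakCptRel.of_iso e h)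
  have h2 : WeakCpt.{u} M := fun κ F W ι hc g => h1 κ F W ι hc (fun _ => trivial) g
  exact isPerfect_of_iso e ((isPerfect_tildeD_iff R M).2 (isPerfect_of_weakCpt M h2))

end Spec

section Affine

variable {U : Scheme.{u}} [IsAffine U]

theorem isPerfect_of_weakCptRel_affine (E : DCoh.D U) (hE : DCoh.IsQCohD E)
    (h : WeakCptRel.{u} (DCoh.IsQCohD (X := U)) E) : DCoh.IsPerfect E := by
  let φ : Spec (CommRingCat.of Γ(U, ⊤)) ≅ U := U.isoSpec.symm
  let Eq := restrictDEquiv φ
  have h1 : WeakCptRel.{u} (DCoh.IsQCohD (X := Spec (CommRingCat.of Γ(U, ⊤))))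
      (Eq.functor.obj E) := by
    haveI : Eq.functor.Additive := inferInstanceAs (DCoh.restrictD φ.hom).Additive
    refine WeakCptRel.of_adj Eq.toAdjunction (fun Y hY => isQCohD_restrictJ φ.inv Y hY)
      (fun κ F W ι hc _ => presCoprod_restrictD φ.inv κ F W ι hc) h
  have h2 : DCoh.IsPerfect (Eq.functor.obj E) :=
    isPerfect_of_weakCptRel_spec Γ(U, ⊤) _ (isQCohD_restrictJ φ.hom E hE) h1
  exact isPerfect_of_iso (Eq.unitIso.app E).symm (isPerfect_restrictJ φ.inv _ h2)

end Affine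

variable {X : Scheme.{u}}

/-- perfectness is local -/
theorem isPerfect_of_restrict_cover (K : DCoh.D X)
    (h : ∀ x : X, ∃ T : X.Opens, x ∈ T ∧ DCoh.IsPerfect ((DCoh.restrictD T.ι).obj K)) :
    DCoh.IsPerfect K := by
  apply isPerfect_of_LPD
  intro x
  obtain ⟨T, hxT, hT⟩ := h x
  obtain ⟨V, hxV, hV⟩ := exists_LPD_of_isPerfect hT ⟨x, hxT⟩
  refine ⟨V, V.ι ≫ T.ι, inferInstance, ⟨⟨⟨x, hxT⟩, hxV⟩, rfl⟩, ?_⟩
  obtain ⟨E, hE, ⟨i⟩⟩ := hV
  exact ⟨E, hE, ⟨restrictDCompObjIso V.ι T.ι K ≪≫ i⟩⟩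

attribute [local instance] HomVanish.hasRpush'

/-- **compact objects of `D_QCoh` on a quasi-compact quasi-separated scheme are perfect** -/
theorem isPerfect_of_weakCptRel [QuasiSeparatedSpace X] (K : DCoh.D X) (hK : DCoh.IsQCohD K)
    (h : WeakCptRel.{u} (DCoh.IsQCohD (X := X)) K) : DCoh.IsPerfect K := by
  apply isPerfect_of_restrict_cover
  intro x
  obtain ⟨_, ⟨T₀, hT, rfl⟩, hxT, -⟩ := X.isBasis_affineOpens.exists_subset_of_mem_open
    (Set.mem_univ x) isOpen_univ
  let T : X.Opens := T₀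
  refine ⟨T, hxT, ?_⟩
  haveI : IsAffine (T : Scheme.{u}) := hT
  haveI : (DCoh.restrictD T.ι).Additive := inferInstance
  apply isPerfect_of_weakCptRel_affine _ (isQCohD_restrictJ T.ι K hK)
  exact WeakCptRel.of_adj (resAdj T.ι) (fun Y hY => isQCohD_rpush T.ι Y hY)
    (fun κ F W ι hc hF => presCoprodRel_rpush T.ι κ F W ι hc hF) h

end Groth.Agent.Lib.Helper5.BvdB
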