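import Mathlib
import Groth.Prelude.Def_DCoh3
import Groth.Agent.Lib.Helper5.BvdB.KoszulRing
import Groth.Agent.Lib.Helper5.Stalk.RpushSupp
import Groth.Agent.Lib.Helper5.Perf.ExactHom
import Groth.Agent.Lib.Helper5.Perf.PCCohNoeth
import Groth.Agent.Lib.Helper5.QC.TildeExact

/-!
# Pointwise vanishing of objects of `D(O_X)`; torsion complexes and `M ↦ M~` (helper5)
-/
set_option autoImplicit false
set_option linter.unusedSectionVars false
set_option linter.unusedVariables false
universe u
open CategoryTheory CategoryTheory.Limits AlgebraicGeometry TopologicalSpace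
attribute [local instance] HasDerivedCategory.standard

namespace Groth.Agent.Lib.Helper5.BvdB

open Groth.Agent.Lib.Helper5.RpushSupp Groth.Agent.Lib.Helper5.ExactHom
  Groth.Agent.Lib.Helper5.QC

section VanishOn

variable {X : Scheme.{u}}

/-- all cohomology sheaves of `K` have vanishing stalks at the points of `S` -/
def VanishOn (K : DCoh.D X) (S : Set X) : Prop :=
  ∀ x ∈ S, ∀ n : ℤ, Subsingleton ((DCoh.HD K n).presheaf.stalk x)

theorem subsingleton_stalk_of_iso {M N : X.Modules} (e : M ≅ N) (x : X)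
    (h : Subsingleton (M.presheaf.stalk x)) : Subsingleton (N.presheaf.stalk x) := by
  let e' := (Scheme.Modules.toPresheaf X ⋙ TopCat.Presheaf.stalkFunctor AddCommGrpCat.{u} x).mapIso e
  exact @Equiv.subsingleton _ _ (e'.symm.addCommGroupIsoToAddEquiv.toEquiv) h

theorem VanishOn.of_iso {K L : DCoh.D X} (e : K ≅ L) {S : Set X} (h : VanishOn K S) :
    VanishOn L S := fun x hx n =>
  subsingleton_stalk_of_iso ((DerivedCategory.homologyFunctor _ n).mapIso e) x (h x hx n)

theorem VanishOn.mono {K : DCoh.D X} {S S' : Set X} (h : VanishOn K S) (hS : S' ⊆ S) :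
    VanishOn K S' := fun x hx n => h x (hS hx) n

theorem isZero_restrictD_iff_vanishOn (U : X.Opens) (K : DCoh.D X) :
    IsZero ((DCoh.restrictD U.ι).obj K) ↔ VanishOn K (U : Set X) := by
  constructor
  · intro h x hx n
    have h1 : IsZero ((DCoh.HD K n).restrict U.ι) :=
      IsZero.of_iso ((DerivedCategory.homologyFunctor _ n).map_isZero h) (hdRestrictDIso K U n)
    exact subsingleton_stalk_of_isZero_restrict _ U h1 x hx
  · intro h
    apply isZero_of_forall_isZero_HD
    intro n
    exact IsZero.of_iso (isZero_restrict_of_stalks _ U (fun x hx => h x hx n))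
      (hdRestrictDIso K U n).symm

/-- the stalks of the restriction along an open immersion -/
theorem vanishOn_restrictD_iff {U : Scheme.{u}} (j : U ⟶ X) [IsOpenImmersion j] (K : DCoh.D X)
    (S : Set U) : VanishOn ((DCoh.restrictD j).obj K) S ↔ VanishOn K (j.base '' S) := by
  have key : ∀ (y : U) (n : ℤ),
      Subsingleton ((DCoh.HD ((DCoh.restrictD j).obj K) n).presheaf.stalk y) ↔
        Subsingleton ((DCoh.HD K n).presheaf.stalk (j.base y)) := by
    intro y n
    let e1 := (Scheme.Modules.toPresheaf U ⋙ TopCat.Presheaf.stalkFunctor AddCommGrpCat.{u} y).mapIso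
      (Groth.Agent.Lib.Helper5.PCCoh.hdRestrictJIso j K n)
    let e2 := (Scheme.Modules.restrictStalkNatIso j y).app (DCoh.HD K n)
    let e := (e1 ≪≫ e2).addCommGroupIsoToAddEquiv.toEquiv
    exact ⟨fun h => @Equiv.subsingleton _ _ e.symm h, fun h => @Equiv.subsingleton _ _ e h⟩
  constructor
  · rintro h _ ⟨y, hy, rfl⟩ n
    exact (key y n).1 (h y hy n)
  · intro h y hy n
    exact (key y n).2 (h _ ⟨y, hy, rfl⟩ n)

end VanishOn

section Tilde

variable (R : CommRingCat.{u})

theorem tildeToStalkLoc (H : ModuleCat.{u} R) (x : PrimeSpectrum.Top R) :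
    IsLocalizedModule x.asIdeal.primeCompl (tilde.toStalk H x).hom := inferInstance

/-- the stalk of `H~` at a prime not containing `f` vanishes if `H` is killed by a power of
`f` -/
theorem subsingleton_stalk_tilde (H : ModuleCat.{u} R) (f : R) (a : ℕ)
    (hH : ∀ h : H, f ^ a • h = 0) (x : PrimeSpectrum.Top R) (hx : f ∉ x.asIdeal) :
    Subsingleton ((tilde H).presheaf.stalk x) := by
  haveI : IsLocalizedModule x.asIdeal.primeCompl (tilde.toStalk H x).hom := inferInstance
  refine ⟨fun y z => ?_⟩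
  suffices h0 : ∀ y : (tilde H).presheaf.stalk x, y = 0 by rw [h0 y, h0 z]
  intro y
  obtain ⟨⟨m, s⟩, hms⟩ := IsLocalizedModule.surj x.asIdeal.primeCompl (tilde.toStalk H x).hom y
  have hfa : f ^ a ∈ x.asIdeal.primeCompl := fun h => hx (x.isPrime.mem_of_pow_mem a h)
  have h1 : (tilde.toStalk H x).hom m = 0 :=
    (IsLocalizedModule.eq_zero_iff x.asIdeal.primeCompl (tilde.toStalk H x).hom).2
      ⟨⟨f ^ a, hfa⟩, hH m⟩
  have h2 : s • y = 0 := hms.trans h1
  exact (IsLocalizedModule.smul_injective (tilde.toStalk H x).hom s) (h2.trans (smul_zero s).symm)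

/-- if the stalks of `H~` vanish on `D(f)`, every element of `H` is killed by a power of `f` -/
theorem exists_pow_smul_eq_zero_of_stalks (H : ModuleCat.{u} R) (f : R)
    (hst : ∀ x : PrimeSpectrum.Top R, f ∉ x.asIdeal → Subsingleton ((tilde H).presheaf.stalk x))
    (m : H) : ∃ e : ℕ, f ^ e • m = 0 := by
  by_contra hne
  push Not at hne
  let I : Ideal R := LinearMap.ker (LinearMap.toSpanSingleton R H m)
  have hI : ∀ r : R, r ∈ I ↔ r • m = 0 := fun r => by
    show LinearMap.toSpanSingleton R H m r = 0 ↔ _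
    rw [LinearMap.toSpanSingleton_apply]
  have hdisj : Disjoint (I : Set R) (Submonoid.powers f : Set R) := by
    rw [Set.disjoint_left]
    rintro r hr ⟨e, rfl⟩
    exact hne e ((hI _).1 hr)
  obtain ⟨p, hp, hIp, hpf⟩ := Ideal.exists_le_prime_disjoint I (Submonoid.powers f) hdisj
  let x : PrimeSpectrum.Top R := ⟨p, hp⟩
  have hfx : f ∉ x.asIdeal := fun h =>
    (Set.disjoint_left.1 hpf) h ⟨1, pow_one f⟩
  haveI := hst x hfx
  haveI : IsLocalizedModule x.asIdeal.primeCompl (tilde.toStalk H x).hom :=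
    tildeToStalkLoc R H x
  have h1 : (tilde.toStalk H x).hom m = 0 := Subsingleton.elim _ _
  obtain ⟨s, hs⟩ := (IsLocalizedModule.eq_zero_iff x.asIdeal.primeCompl
    (tilde.toStalk H x).hom).1 h1
  exact s.2 (hIp ((hI _).2 hs))

/-- the cohomology sheaves of `M~` -/
noncomputable def hdTildeDIso (M : Dual.D R) (n : ℤ) :
    DCoh.HD ((DCoh.tildeD R).obj M) n ≅ tilde ((DerivedCategory.homologyFunctor (ModuleCat.{u} R) n).obj M) :=
  (derivedHomologyIso (tilde.functor R) n).app M

theorem smul_HD_eq_zero (N : Dual.D R) (s : R) (h : s • 𝟙 N = 0) (n : ℤ)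
    (m : Dual.HD R N n) : s • m = 0 := by
  let φ := Groth.Agent.Helper3.HomUnit.unitEquiv N n
  obtain ⟨ψ, rfl⟩ := φ.surjective m
  rw [← map_smul]
  have : s • ψ = ψ ≫ (s • 𝟙 (N⟦n⟧)) := by rw [Linear.comp_smul, Category.comp_id]
  rw [this, smul_id_shift_eq_zero N s h n, comp_zero, map_zero]

theorem vanishOn_tildeD (N : Dual.D R) (S : Set (Spec (CommRingCat.of R)))
    (h : ∀ x ∈ S, ∃ f : R, f ∉ (x : PrimeSpectrum.Top R).asIdeal ∧ ∃ a : ℕ, (f ^ a) • 𝟙 N = 0) :
    VanishOn ((DCoh.tildeD R).obj N) S := by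
  intro x hx n
  obtain ⟨f, hfx, a, ha⟩ := h x hx
  refine subsingleton_stalk_of_iso (hdTildeDIso R N n).symm x ?_
  exact subsingleton_stalk_tilde R _ f a (fun m => smul_HD_eq_zero R N _ ha n m) x hfx

theorem powTors_of_vanishOn (M : Dual.D R) (f : R)
    (h : VanishOn ((DCoh.tildeD R).obj M)
      {x : Spec (CommRingCat.of R) | f ∉ (x : PrimeSpectrum.Top R).asIdeal}) :
    PowTors f M := by
  intro n m
  refine exists_pow_smul_eq_zero_of_stalks R _ f (fun x hx => ?_) m
  exact subsingleton_stalk_of_iso (hdTildeDIso R M n) x (h x hx n)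

end Tilde

end Groth.Agent.Lib.Helper5.BvdB
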