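import Mathlib
import Groth.Prelude.Def_DCoh3
import Groth.Agent.Lib.Helper5.BvdB.TildeTors
import Groth.Agent.Lib.Helper5.BvdB.CptPerf

/-!
# Thomason's extension of maps from quasi-compact opens of affine schemes (helper5)
-/
set_option autoImplicit false
set_option linter.unusedSectionVars false
set_option linter.unusedVariables false
universe u
open CategoryTheory CategoryTheory.Limits AlgebraicGeometry Pretriangulated TopologicalSpace
attribute [local instance] HasDerivedCategory.standard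

namespace Groth.Agent.Lib.Helper5.BvdB

open Groth.Agent.Lib.Helper5 Groth.Agent.Lib.Helper5.QC
  Groth.Agent.Lib.Helper5.TildePC Groth.Agent.Lib.Helper5.PerfTri
  Groth.Agent.Lib.Helper5.CountHom Groth.Agent.Lib.Helper5.HomVanish

section Tri

variable {C : Type*} [Category C] [Preadditive C] [HasZeroObject C] [HasShift C ℤ]
  [∀ n : ℤ, (shiftFunctor C n).Additive] [Pretriangulated C]

/-- replacing the middle vertex of a distinguished triangle by an isomorphic object -/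
theorem dist_of_iso_mid {A B B' Z : C} (a : A ⟶ B) (b : B ⟶ Z) (c : Z ⟶ A⟦(1 : ℤ)⟧)
    (h : Triangle.mk a b c ∈ distTriang C) (e : B ≅ B') :
    Triangle.mk (a ≫ e.hom) (e.inv ≫ b) c ∈ distTriang C := by
  refine isomorphic_distinguished _ h _
    (Triangle.isoMk _ _ (Iso.refl _) e.symm (Iso.refl _) ?_ ?_ ?_)
  · show (a ≫ e.hom) ≫ e.inv = 𝟙 A ≫ a
    rw [Category.assoc, e.hom_inv_id, Category.comp_id, Category.id_comp]
  · show (e.inv ≫ b) ≫ 𝟙 Z = e.inv ≫ b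
    rw [Category.comp_id]
  · show c ≫ (shiftFunctor C (1 : ℤ)).map (𝟙 A) = 𝟙 Z ≫ c
    rw [CategoryTheory.Functor.map_id, Category.comp_id, Category.id_comp]

end Tri

section Spec

variable (R : CommRingCat.{u})

theorem exists_fibre_spec (U : (Spec (CommRingCat.of R)).Opens)
    (hU : IsCompact (U : Set (Spec (CommRingCat.of R))))
    (E C : DCoh.D (Spec (CommRingCat.of R))) (hE : DCoh.IsPerfect E) (hC : DCoh.IsQCohD C)
    (hCU : VanishOn C (U : Set (Spec (CommRingCat.of R)))) (ψ : E ⟶ C) :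
    ∃ (E₁ N : DCoh.D (Spec (CommRingCat.of R))) (β : E₁ ⟶ E) (ι : E ⟶ N)
      (δ : N ⟶ E₁⟦(1 : ℤ)⟧), Triangle.mk β ι δ ∈ distTriang _ ∧ DCoh.IsPerfect E₁ ∧
      DCoh.IsPerfect N ∧ VanishOn N (U : Set (Spec (CommRingCat.of R))) ∧ β ≫ ψ = 0 := by
  classical
  obtain ⟨P, ⟨eP⟩⟩ := ((tildeD_main R).2.2 E).1 (isQCohD_of_isPerfect E hE)
  obtain ⟨M, ⟨eC⟩⟩ := ((tildeD_main R).2.2 C).1 hC
  haveI : (DCoh.tildeD R).Full := (tildeD_main R).1
  have hP : DRing.IsPerfect R P := (isPerfect_tildeD_iff R P).1 (isPerfect_of_iso eP.symm hE)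
  let US : Set (PrimeSpectrum R) := U.1
  obtain ⟨t, ht⟩ := PrimeSpectrum.isCompact_isOpen_iff.1
    (⟨hU, U.2⟩ : IsCompact US ∧ IsOpen US)
  have hmem : ∀ x : PrimeSpectrum R, x ∈ US ↔ ∃ f ∈ t, f ∉ x.asIdeal := by
    intro x
    rw [← ht, Set.mem_compl_iff, PrimeSpectrum.mem_zeroLocus, Set.not_subset]
    simp
  have hM : ∀ f ∈ t.toList, PowTors f M := by
    intro f hf
    apply powTors_of_vanishOn R M f
    refine VanishOn.mono (VanishOn.of_iso eC.symm hCU) ?_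
    intro x hx
    exact (hmem x).2 ⟨f, Finset.mem_toList.1 hf, hx⟩
  obtain ⟨ψ₀, hψ₀⟩ := (DCoh.tildeD R).map_surjective (eP.hom ≫ ψ ≫ eC.inv)
  obtain ⟨P₁, N₀, β₀, ι₀, δ₀, hT, hP₁, hN₀, hβψ, hann⟩ := exists_fibre t.toList M hM P hP ψ₀
  have hT' := (DCoh.tildeD R).map_distinguished _ hT
  refine ⟨(DCoh.tildeD R).obj P₁, (DCoh.tildeD R).obj N₀, (DCoh.tildeD R).map β₀ ≫ eP.hom,
    eP.inv ≫ (DCoh.tildeD R).map ι₀, _, dist_of_iso_mid _ _ _ hT' eP,
    (isPerfect_tildeD_iff R P₁).2 hP₁, (isPerfect_tildeD_iff R N₀).2 hN₀, ?_, ?_⟩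
  · apply vanishOn_tildeD R N₀
    intro x hx
    obtain ⟨f, hf, hfx⟩ := (hmem x).1 hx
    exact ⟨f, hfx, hann f (Finset.mem_toList.2 hf)⟩
  · have h1 : (DCoh.tildeD R).map β₀ ≫ (DCoh.tildeD R).map ψ₀ = 0 := by
      rw [← Functor.map_comp, hβψ, Functor.map_zero]
    have h2 : eP.hom ≫ ψ = (DCoh.tildeD R).map ψ₀ ≫ eC.hom := by
      rw [hψ₀]
      simp
    rw [Category.assoc, h2, ← Category.assoc, h1, zero_comp]

end Spec

section Affine

variable {X : Scheme.{u}} [IsAffine X]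

theorem exists_fibre_affine (U : X.Opens) (hU : IsCompact (U : Set X))
    (E C : DCoh.D X) (hE : DCoh.IsPerfect E) (hC : DCoh.IsQCohD C)
    (hCU : VanishOn C (U : Set X)) (ψ : E ⟶ C) :
    ∃ (E₁ N : DCoh.D X) (β : E₁ ⟶ E) (ι : E ⟶ N) (δ : N ⟶ E₁⟦(1 : ℤ)⟧),
      Triangle.mk β ι δ ∈ distTriang _ ∧ DCoh.IsPerfect E₁ ∧ DCoh.IsPerfect N ∧
      VanishOn N (U : Set X) ∧ β ≫ ψ = 0 := by
  let φ : Spec (CommRingCat.of Γ(X, ⊤)) ≅ X := X.isoSpec.symm
  let Eq := restrictDEquiv φ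
  let F := DCoh.restrictD φ.hom
  let G := DCoh.restrictD φ.inv
  let U' : (Spec (CommRingCat.of Γ(X, ⊤))).Opens := φ.hom ⁻¹ᵁ U
  have hU' : IsCompact (U' : Set (Spec (CommRingCat.of Γ(X, ⊤)))) := by
    have : (U' : Set (Spec (CommRingCat.of Γ(X, ⊤)))) = (Scheme.homeoOfIso φ) ⁻¹' (U : Set X) :=
      rfl
    rw [this, Homeomorph.isCompact_preimage]
    exact hU
  have hFC : VanishOn (F.obj C) (U' : Set (Spec (CommRingCat.of Γ(X, ⊤)))) := by
    rw [vanishOn_restrictD_iff]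
    refine VanishOn.mono hCU ?_
    rintro _ ⟨y, hy, rfl⟩
    exact hy
  obtain ⟨E₁', N', β', ι', δ', hT', hE₁', hN', hN'U, hβ'⟩ := exists_fibre_spec Γ(X, ⊤) U' hU'
    (F.obj E) (F.obj C) (isPerfect_restrictJ φ.hom E hE) (isQCohD_restrictJ φ.hom C hC) hFC
    (F.map ψ)
  have hT := G.map_distinguished _ hT'
  let uE : E ≅ G.obj (F.obj E) := Eq.unitIso.app E
  let uC : C ≅ G.obj (F.obj C) := Eq.unitIso.app C
  have hnat : ψ ≫ uC.hom = uE.hom ≫ G.map (F.map ψ) := Eq.unitIso.hom.naturality ψ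
  refine ⟨G.obj E₁', G.obj N', G.map β' ≫ uE.inv, uE.hom ≫ G.map ι', _,
    dist_of_iso_mid _ _ _ hT uE.symm, isPerfect_restrictJ φ.inv _ hE₁',
    isPerfect_restrictJ φ.inv _ hN', ?_, ?_⟩
  · rw [vanishOn_restrictD_iff]
    refine VanishOn.mono hN'U ?_
    rintro _ ⟨x, hx, rfl⟩
    show φ.hom.base (φ.inv.base x) ∈ U
    have : φ.hom.base (φ.inv.base x) = x := by
      rw [← Scheme.Hom.comp_apply, φ.inv_hom_id]
      rfl
    rw [this]
    exact hx
  · have h1 : G.map β' ≫ G.map (F.map ψ) = 0 := by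
      rw [← Functor.map_comp, hβ', Functor.map_zero]
    rw [← cancel_mono uC.hom, zero_comp, Category.assoc, Category.assoc, hnat,
      Iso.inv_hom_id_assoc, h1]

attribute [local instance] HomVanish.hasRpush'

/-- **Thomason's extension of maps**: on an affine scheme `X` with a quasi-compact open `U`,
a map `α : E|_U ⟶ E'|_U` with `E` perfect and `E' ∈ D_QCoh` extends to `X` after replacing
`E` by a perfect `E₁ ⟶ E` which is an isomorphism over `U` -/
theorem thomason_extension (U : X.Opens) (hU : IsCompact (U : Set X)) (E E' : DCoh.D X)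
    (hE : DCoh.IsPerfect E) (hE' : DCoh.IsQCohD E')
    (α : (DCoh.restrictD U.ι).obj E ⟶ (DCoh.restrictD U.ι).obj E') :
    ∃ (E₁ : DCoh.D X) (β : E₁ ⟶ E) (γ : E₁ ⟶ E'), DCoh.IsPerfect E₁ ∧
      IsIso ((DCoh.restrictD U.ι).map β) ∧
      (DCoh.restrictD U.ι).map β ≫ α = (DCoh.restrictD U.ι).map γ := by
  haveI : CompactSpace ↥(U : Scheme.{u}) := isCompact_iff_compactSpace.mp hU
  let adj := resAdj U.ι
  let η := adj.unit.app E'
  obtain ⟨C, π, δ, hT⟩ := distinguished_cocone_triangle η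
  have hC : DCoh.IsQCohD C := isQCohD_of_triangle_right _ hT hE'
    (isQCohD_rpush U.ι _ (isQCohD_restrictJ U.ι E' hE'))
  have hηU : IsIso ((DCoh.restrictD U.ι).map η) := by
    have h1 : (DCoh.restrictD U.ι).map η ≫ adj.counit.app ((DCoh.restrictD U.ι).obj E') = 𝟙 _ :=
      adj.left_triangle_components E'
    have h2 : IsIso ((DCoh.restrictD U.ι).map η ≫
        adj.counit.app ((DCoh.restrictD U.ι).obj E')) := by
      rw [h1]
      infer_instance
    exact IsIso.of_isIso_comp_right _ (adj.counit.app ((DCoh.restrictD U.ι).obj E'))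
  have hCU : VanishOn C (U : Set X) := by
    rw [← isZero_restrictD_iff_vanishOn]
    exact (Triangle.isZero₃_iff_isIso₁ _ ((DCoh.restrictD U.ι).map_distinguished _ hT)).2 hηU
  let α' : E ⟶ (DCoh.Rpush U.ι).obj ((DCoh.restrictD U.ι).obj E') := adj.homEquiv E _ α
  obtain ⟨E₁, N, β, ι, δ', hT₁, hE₁, hN, hNU, hβ⟩ :=
    exists_fibre_affine U hU E C hE hC hCU (α' ≫ π)
  have h0 : (β ≫ α') ≫ π = 0 := by rw [Category.assoc]; exact hβ
  obtain ⟨γ, hγ⟩ : ∃ γ : E₁ ⟶ E', β ≫ α' = γ ≫ η := Triangle.coyoneda_exact₂ _ hT _ h0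
  refine ⟨E₁, β, γ, hE₁, ?_, ?_⟩
  · have hz : IsZero ((DCoh.restrictD U.ι).obj N) := (isZero_restrictD_iff_vanishOn U N).2 hNU
    exact (Triangle.isZero₃_iff_isIso₁ _ ((DCoh.restrictD U.ι).map_distinguished _ hT₁)).1 hz
  · apply (adj.homEquiv E₁ _).injective
    rw [Adjunction.homEquiv_naturality_left]
    have h3 : adj.homEquiv E₁ _ ((DCoh.restrictD U.ι).map γ) = γ ≫ η := by
      have := Adjunction.homEquiv_naturality_left adj γ (𝟙 ((DCoh.restrictD U.ι).obj E'))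
      rw [Category.comp_id] at this
      rw [this, Adjunction.homEquiv_id]
    rw [h3]
    exact hγ

end Affine

end Groth.Agent.Lib.Helper5.BvdB
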