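import Mathlib
import Groth.Prelude.Def_DCoh3
import Groth.Agent.Lib.Helper5.BvdB.KoszulGen
import Groth.Agent.Lib.Helper5.BvdB.ExtMap

/-!
# The Koszul generator of complexes supported on a closed subset of an affine scheme (helper5)
-/
set_option autoImplicit false
set_option linter.unusedSectionVars false
set_option linter.unusedVariables false
universe u
open CategoryTheory CategoryTheory.Limits AlgebraicGeometry Pretriangulated TopologicalSpace
attribute [local instance] HasDerivedCategory.standard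

namespace Groth.Agent.Lib.Helper5.BvdB

open Groth.Agent.Lib.Helper5 Groth.Agent.Lib.Helper5.QC
  Groth.Agent.Lib.Helper5.TildePC Groth.Agent.Lib.Helper5.PerfTri
  Groth.Agent.Lib.Helper5.CountHom Groth.Agent.Lib.Helper5.HomVanish

section Spec

variable (R : CommRingCat.{u})

theorem exists_koszul_spec (S : (Spec (CommRingCat.of R)).Opens)
    (hS : IsCompact (S : Set (Spec (CommRingCat.of R)))) :
    ∃ K : DCoh.D (Spec (CommRingCat.of R)), DCoh.IsPerfect K ∧
      VanishOn K (S : Set (Spec (CommRingCat.of R))) ∧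
      ∀ C : DCoh.D (Spec (CommRingCat.of R)), DCoh.IsQCohD C →
        VanishOn C (S : Set (Spec (CommRingCat.of R))) →
        (∀ (n : ℤ) (φ : K⟦n⟧ ⟶ C), φ = 0) → IsZero C := by
  classical
  let SS : Set (PrimeSpectrum R) := S.1
  obtain ⟨t, ht⟩ := PrimeSpectrum.isCompact_isOpen_iff.1
    (⟨hS, S.2⟩ : IsCompact SS ∧ IsOpen SS)
  have hmem : ∀ x : PrimeSpectrum R, x ∈ SS ↔ ∃ f ∈ t, f ∉ x.asIdeal := by
    intro x
    rw [← ht, Set.mem_compl_iff, PrimeSpectrum.mem_zeroLocus, Set.not_subset]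
    simp
  obtain ⟨K₀, hK₀, hann, hdet⟩ := exists_koszul_gen (R := R) t.toList
  haveI : (DCoh.tildeD R).Faithful := (tildeD_main R).2.1
  refine ⟨(DCoh.tildeD R).obj K₀, (isPerfect_tildeD_iff R K₀).2 hK₀, ?_, ?_⟩
  · apply vanishOn_tildeD R K₀
    intro x hx
    obtain ⟨f, hf, hfx⟩ := (hmem x).1 hx
    exact ⟨f, hfx, hann f (Finset.mem_toList.2 hf)⟩
  · intro C hC hCS hφ
    obtain ⟨N, ⟨e⟩⟩ := ((tildeD_main R).2.2 C).1 hC
    have hN : ∀ f ∈ t.toList, PowTors f N := by
      intro f hf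
      apply powTors_of_vanishOn R N f
      refine VanishOn.mono (VanishOn.of_iso e.symm hCS) ?_
      intro x hx
      exact (hmem x).2 ⟨f, Finset.mem_toList.1 hf, hx⟩
    have hNz : IsZero N := by
      apply hdet N hN
      intro n ψ
      have h1 : ((DCoh.tildeD R).commShiftIso n).inv.app K₀ ≫ (DCoh.tildeD R).map ψ ≫ e.hom = 0 :=
        hφ n _
      have h2 : (DCoh.tildeD R).map ψ = 0 := by
        have h3 := congrArg (fun t => ((DCoh.tildeD R).commShiftIso n).hom.app K₀ ≫ t ≫ e.inv) h1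
        simpa using h3
      apply (DCoh.tildeD R).map_injective
      rw [h2, Functor.map_zero]
    exact IsZero.of_iso ((DCoh.tildeD R).map_isZero hNz) e.symm

end Spec

section Affine

variable {V₀ : Scheme.{u}} [IsAffine V₀]

theorem exists_koszul_affine (S : V₀.Opens) (hS : IsCompact (S : Set V₀)) :
    ∃ K : DCoh.D V₀, DCoh.IsPerfect K ∧ VanishOn K (S : Set V₀) ∧
      ∀ C : DCoh.D V₀, DCoh.IsQCohD C → VanishOn C (S : Set V₀) →
        (∀ (n : ℤ) (φ : K⟦n⟧ ⟶ C), φ = 0) → IsZero C := by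
  let φ : Spec (CommRingCat.of Γ(V₀, ⊤)) ≅ V₀ := V₀.isoSpec.symm
  let Eq := restrictDEquiv φ
  let F := DCoh.restrictD φ.hom
  let G := DCoh.restrictD φ.inv
  let S' : (Spec (CommRingCat.of Γ(V₀, ⊤))).Opens := φ.hom ⁻¹ᵁ S
  have hS' : IsCompact (S' : Set (Spec (CommRingCat.of Γ(V₀, ⊤)))) := by
    have : (S' : Set (Spec (CommRingCat.of Γ(V₀, ⊤)))) = (Scheme.homeoOfIso φ) ⁻¹' (S : Set V₀) :=
      rfl
    rw [this, Homeomorph.isCompact_preimage]
    exact hS
  obtain ⟨K', hK', hK'S, hdet⟩ := exists_koszul_spec Γ(V₀, ⊤) S' hS'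
  have himg : ∀ x : V₀, x ∈ S → φ.hom.base (φ.inv.base x) ∈ S := by
    intro x hx
    have : φ.hom.base (φ.inv.base x) = x := by
      rw [← Scheme.Hom.comp_apply, φ.inv_hom_id]
      rfl
    rw [this]
    exact hx
  refine ⟨G.obj K', isPerfect_restrictJ φ.inv K' hK', ?_, ?_⟩
  · rw [vanishOn_restrictD_iff]
    refine VanishOn.mono hK'S ?_
    rintro _ ⟨x, hx, rfl⟩
    exact himg x hx
  · intro C hC hCS hφ
    have hFC : IsZero (F.obj C) := by
      apply hdet (F.obj C) (isQCohD_restrictJ φ.hom C hC)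
      · rw [vanishOn_restrictD_iff]
        refine VanishOn.mono hCS ?_
        rintro _ ⟨y, hy, rfl⟩
        exact hy
      · intro n ψ
        have h1 : (G.commShiftIso n).inv.app K' ≫ G.map ψ ≫ Eq.unitIso.inv.app C = 0 := hφ n _
        have h2 : G.map ψ = 0 := by
          have h3 : G.map ψ ≫ Eq.unitIso.inv.app C = 0 := by
            have h4 := congrArg (fun t => (G.commShiftIso n).hom.app K' ≫ t) h1
            simpa using h4
          exact (cancel_mono (Eq.unitIso.inv.app C)).1 (h3.trans zero_comp.symm)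
        apply G.map_injective
        rw [h2, Functor.map_zero]
    exact IsZero.of_iso (G.map_isZero hFC) (Eq.unitIso.app C)

end Affine

end Groth.Agent.Lib.Helper5.BvdB
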