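import Mathlib
import Groth.Prelude.Def_DRing2
import Groth.Agent.Lib.Helper3.HomUnit
import Groth.Agent.Lib.Helper5.DRing.AmpPerf
import Groth.Agent.Lib.Helper5.DRing.AmpTop
import Groth.Agent.Lib.Helper5.DRing.LocSq
import Groth.Agent.Lib.Helper5.TorAmp.BaseChange
import Groth.Agent.Lib.Helper5.Perf.ExactHom

/-!
# Localisation at one element: torsion and finiteness (helper5)
-/
set_option autoImplicit false
set_option linter.unusedSectionVars false
set_option linter.unusedVariables false
universe u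
open CategoryTheory CategoryTheory.Limits Pretriangulated
attribute [local instance] HasDerivedCategory.standard

namespace Groth.Agent.Lib.Helper5.BvdB

open DerivedCategory Groth.Agent.Helper5.Summand Groth.Agent.Helper5.FlatBC

section Mod

variable {R : Type u} [CommRing R] (f : R) (R' : Type u) [CommRing R'] [Algebra R R']
  [IsLocalization.Away f R']
variable {N N' : Type u} [AddCommGroup N] [Module R N] [AddCommGroup N'] [Module R N']
  (ℓ : N →ₗ[R] N') [hℓ : IsLocalizedModule (Submonoid.powers f) ℓ]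
include hℓ

theorem tors_of_subsingleton_loc (h : Subsingleton N') (x : N) : ∃ e : ℕ, f ^ e • x = 0 := by
  have h1 : ℓ x = ℓ 0 := Subsingleton.elim _ _
  obtain ⟨⟨_, n, rfl⟩, hc⟩ := (IsLocalizedModule.eq_iff_exists (Submonoid.powers f) ℓ).1 h1
  refine ⟨n, ?_⟩
  simpa [Submonoid.smul_def] using hc

theorem subsingleton_loc_of_tors (h : ∀ x : N, ∃ e : ℕ, f ^ e • x = 0) : Subsingleton N' := by
  refine ⟨fun a b => ?_⟩
  suffices h0 : ∀ y : N', y = 0 by rw [h0 a, h0 b]
  intro y
  obtain ⟨⟨x, s⟩, rfl⟩ := IsLocalizedModule.mk'_surjective (Submonoid.powers f) ℓ y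
  obtain ⟨e, he⟩ := h x
  show IsLocalizedModule.mk' ℓ x s = 0
  rw [IsLocalizedModule.mk'_eq_zero']
  exact ⟨⟨f ^ e, e, rfl⟩, he⟩

theorem exists_finset_of_finite_loc [Module R' N'] [IsScalarTower R R' N']
    (H : Module.Finite R' N') :
    ∃ s : Finset N, ∀ x : N, ∃ e : ℕ, f ^ e • x ∈ Submodule.span R (s : Set N) := by
  classical
  obtain ⟨s₁, s₂⟩ := H.1
  refine ⟨IsLocalizedModule.finsetIntegerMultiple (Submonoid.powers f) ℓ s₁, fun x => ?_⟩
  obtain ⟨⟨_, n₁, rfl⟩, hn₁⟩ := multiple_mem_span_of_mem_localization_span (Submonoid.powers f) R'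
    (s₁ : Set N') (ℓ x) (by rw [s₂]; trivial)
  rw [Submonoid.smul_def, ← map_smul] at hn₁
  obtain ⟨⟨_, n₂, rfl⟩, hn₂⟩ := IsLocalizedModule.smul_mem_finsetIntegerMultiple_span
    (Submonoid.powers f) ℓ _ s₁ hn₁
  rw [Submonoid.smul_def] at hn₂
  refine ⟨n₂ + n₁, ?_⟩
  rw [pow_add, mul_smul]
  exact hn₂

end Mod

section Der

variable {R : Type u} [CommRing R] (f : R) (R' : Type u) [CommRing R'] [Algebra R R']
  [IsLocalization.Away f R'] [Module.Flat R R']

open Groth.Agent.Lib.Helper5.ExactHom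

theorem isZero_HD_Ed_of_tors (C : Dual.D R) (i : ℤ)
    (h : ∀ x : Dual.HD R C i, ∃ e : ℕ, f ^ e • x = 0) :
    IsZero ((homologyFunctor (ModuleCat.{u} R') i).obj ((Ed R').obj C)) := by
  let H : ModuleCat.{u} R := (homologyFunctor (ModuleCat.{u} R) i).obj C
  let ℓ : ↑H →ₗ[R] ↑(N' R' H) :=
    ((ModuleCat.extendRestrictScalarsAdj (algebraMap R R')).unit.app H).hom
  haveI : IsLocalizedModule (Submonoid.powers f) ℓ :=
    Groth.Agent.Helper5.LocSq.isLocalizedModule_unit f R' H
  have h1 : Subsingleton (N' R' H) := subsingleton_loc_of_tors f ℓ h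
  have h2 : IsZero ((Ef R').obj H) := by
    haveI : Subsingleton ((Ef R').obj H) := h1
    exact ModuleCat.isZero_of_subsingleton _
  exact h2.of_iso ((derivedHomologyIso (Ef R') i).app C)

theorem tors_of_isZero_HD_Ed (C : Dual.D R) (i : ℤ)
    (h : IsZero ((homologyFunctor (ModuleCat.{u} R') i).obj ((Ed R').obj C)))
    (x : Dual.HD R C i) : ∃ e : ℕ, f ^ e • x = 0 := by
  let H : ModuleCat.{u} R := (homologyFunctor (ModuleCat.{u} R) i).obj C
  let ℓ : ↑H →ₗ[R] ↑(N' R' H) :=
    ((ModuleCat.extendRestrictScalarsAdj (algebraMap R R')).unit.app H).hom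
  haveI : IsLocalizedModule (Submonoid.powers f) ℓ :=
    Groth.Agent.Helper5.LocSq.isLocalizedModule_unit f R' H
  have h2 : IsZero ((Ef R').obj H) := h.of_iso ((derivedHomologyIso (Ef R') i).app C).symm
  have h1' : Subsingleton ((Ef R').obj H) := ModuleCat.subsingleton_of_isZero h2
  have h1 : Subsingleton (N' R' H) := h1'
  exact tors_of_subsingleton_loc f ℓ h1 x

theorem exists_finset_of_finite_HD_Ed (C : Dual.D R) (i : ℤ)
    (h : Module.Finite R' (Dual.HD R' ((Ed R').obj C) i)) :
    ∃ s : Finset (Dual.HD R C i), ∀ x : Dual.HD R C i,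
      ∃ e : ℕ, f ^ e • x ∈ Submodule.span R (s : Set (Dual.HD R C i)) := by
  let H : ModuleCat.{u} R := (homologyFunctor (ModuleCat.{u} R) i).obj C
  let ℓ : ↑H →ₗ[R] ↑(N' R' H) :=
    ((ModuleCat.extendRestrictScalarsAdj (algebraMap R R')).unit.app H).hom
  haveI : IsLocalizedModule (Submonoid.powers f) ℓ :=
    Groth.Agent.Helper5.LocSq.isLocalizedModule_unit f R' H
  have h0 : Module.Finite R'
      ↑(((Ef R').mapDerivedCategory ⋙ homologyFunctor (ModuleCat.{u} R') i).obj C) := h
  have h1 : Module.Finite R' ((Ef R').obj H) :=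
    Module.Finite.equiv ((derivedHomologyIso (Ef R') i).app C).toLinearEquiv
  have h2 : Module.Finite R' (N' R' H) := h1
  exact exists_finset_of_finite_loc f R' ℓ h2

end Der

section Top

variable {R : Type u} [CommRing R]

/-- the top cohomology of a perfect complex is a finite module -/
theorem finite_top_of_amp (n : ℤ) : ∀ (k : ℕ) (a b : ℤ) (K : Dual.D R), b ≤ n + k → a < n →
    Amp (FP R) a b K →
    (∀ i, n < i → IsZero ((homologyFunctor (ModuleCat.{u} R) i).obj K)) →
    Module.Finite R (Dual.HD R K n) := by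
  intro k
  induction k with
  | zero =>
    intro a b K hb ha hK hz
    have hK' : Amp (FP R) a n K := hK.mono le_rfl (by simpa using hb)
    obtain ⟨E, h1, h2, ⟨e⟩⟩ := hK'
    have hb' : IsZero (E.X (n + 1)) := h2 _ (Or.inr (by omega))
    have hepi := Q_topι_homology_epi E n hb'
    let S := (HomologicalComplex.single (ModuleCat.{u} R) (ComplexShape.up ℤ) n).obj (E.X n)
    let e1 : (homologyFunctor (ModuleCat.{u} R) n).obj (Q.obj S) ≅ E.X n :=
      (homologyFunctorFactors (ModuleCat.{u} R) n).app S ≪≫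
        HomologicalComplex.singleObjHomologySelfIso (ComplexShape.up ℤ) n (E.X n)
    haveI : Module.Finite R (E.X n) := (h1 n).1
    haveI : Module.Finite R ((homologyFunctor (ModuleCat.{u} R) n).obj (Q.obj S)) :=
      Module.Finite.equiv e1.symm.toLinearEquiv
    have hsurj := (ModuleCat.epi_iff_surjective _).1 hepi
    haveI : Module.Finite R ((homologyFunctor (ModuleCat.{u} R) n).obj (Q.obj E)) :=
      Module.Finite.of_surjective _ hsurj
    exact Module.Finite.equiv ((homologyFunctor (ModuleCat.{u} R) n).mapIso e).toLinearEquiv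
  | succ k ih =>
    intro a b K hb ha hK hz
    by_cases hbn : b ≤ n + k
    · exact ih a b K hbn ha hK hz
    · have hb' : b = n + (k + 1 : ℕ) := by push_cast at hb ⊢; omega
      have hK' : Amp (FP R) a (b - 1) K :=
        Amp.truncTop hyp_fp.ker hK (by push_cast at hb'; omega) (hz b (by push_cast at hb'; omega))
      exact ih a (b - 1) K (by push_cast at hb'; omega) ha hK' hz

theorem finite_top_of_perfect (K : Dual.D R) (hK : DRing.IsPerfect R K) (n : ℤ)
    (hz : ∀ i, n < i → IsZero ((homologyFunctor (ModuleCat.{u} R) i).obj K)) :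
    Module.Finite R (Dual.HD R K n) := by
  obtain ⟨a, b, hab, hA⟩ := (amp_iff K).1 hK
  have hA' : Amp (FP R) (min a (n - 1)) (max b n) K :=
    hA.mono (min_le_left _ _) (le_max_left _ _)
  obtain ⟨k, hk⟩ : ∃ k : ℕ, max b n ≤ n + k :=
    ⟨(max b n - n).toNat, by have := le_max_right b n; omega⟩
  exact finite_top_of_amp n k _ _ K hk (by have := min_le_right a (n - 1); omega) hA' hz

end Top

section Tors

variable {R : Type u} [CommRing R]

theorem tors_hom_iff (f : R) (C : Dual.D R) (i : ℤ) :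
    (∀ z : Dual.inD R R ⟶ C⟦i⟧, ∃ e : ℕ, f ^ e • z = 0) ↔
      ∀ x : Dual.HD R C i, ∃ e : ℕ, f ^ e • x = 0 := by
  let φ := Groth.Agent.Helper3.HomUnit.unitEquiv C i
  constructor
  · intro h x
    obtain ⟨e, he⟩ := h (φ.symm x)
    refine ⟨e, ?_⟩
    have : f ^ e • x = φ (f ^ e • φ.symm x) := by rw [map_smul, LinearEquiv.apply_symm_apply]
    rw [this, he, map_zero]
  · intro h z
    obtain ⟨e, he⟩ := h (φ z)
    refine ⟨e, φ.injective ?_⟩
    rw [map_smul, he, map_zero]

end Tors

end Groth.Agent.Lib.Helper5.BvdB
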