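import Mathlib
import Groth.Agent.Lib.Helper5.BvdB.Cell
import Groth.Agent.Lib.Helper5.BvdB.LocFin
import Groth.Agent.Lib.Helper5.TorAmp.PerfBC
import Groth.Agent.Lib.Helper5.DRing.Classes

/-!
# The approximation tower over a ring (helper5)

`M ∈ D(R)` which becomes perfect after inverting each `f ∈ t`: for every `n` there is a perfect
`Z` (cells in degrees `≥ n - 1`) and a triangle `M ⟶ C ⟶ Z ⟶ M[1]` such that the cohomology of
`C` in degrees `≥ n` is `f`-power torsion for all `f ∈ t`.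
-/
set_option autoImplicit false
set_option linter.unusedSectionVars false
set_option linter.unusedVariables false
universe u
open CategoryTheory CategoryTheory.Limits Pretriangulated ZeroObject
attribute [local instance] HasDerivedCategory.standard

namespace Groth.Agent.Lib.Helper5.BvdB

open DerivedCategory Groth.Agent.Helper5.Summand Groth.Agent.Helper5.FlatBC
  Groth.Agent.Helper5.DRingCone

variable {R : Type u} [CommRing R]

/-- `M` becomes perfect after inverting each `f ∈ t` -/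
def LocPerf (t : Finset R) (M : Dual.D R) : Prop :=
  ∀ f ∈ t, DRing.IsPerfect (Localization.Away f) ((Ed (Localization.Away f)).obj M)

theorem perfect_Ed (R' : Type u) [CommRing R'] [Algebra R R'] [Module.Flat R R'] (Z : Dual.D R)
    (hZ : DRing.IsPerfect R Z) : DRing.IsPerfect R' ((Ed R').obj Z) := by
  let K := Q.objPreimage Z
  let e : DRing.toD K ≅ Z := Q.objObjPreimageIso Z
  have h1 : DRing.IsPerfect R (DRing.toD K) := Groth.Agent.Helper5.PerfRes.perfect_of_iso e.symm hZ
  have h2 := perfect_baseChange R' K h1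
  exact Groth.Agent.Helper5.PerfRes.perfect_of_iso ((EdQ R' K).symm ≪≫ (Ed R').mapIso e) h2

theorem amp_zero (a b : ℤ) (Z : Dual.D R) (hZ : IsZero Z) : Amp (FP R) a b Z := by
  refine ⟨0, fun i => ?_, fun i _ => ?_, ⟨?_⟩⟩
  · exact (FP R).prop_of_isZero (by
      show IsZero ((0 : CochainComplex (ModuleCat.{u} R) ℤ).X i)
      exact (HomologicalComplex.eval _ _ i).map_isZero (isZero_zero _))
  · exact (HomologicalComplex.eval _ _ i).map_isZero (isZero_zero _)
  · exact (Q.map_isZero (isZero_zero _)).iso hZ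

/-- one step down of the tower -/
theorem tower_step (t : Finset R) (M : Dual.D R) (hM : LocPerf t M) (n hi : ℤ) (hhi : n - 2 ≤ hi)
    (C Z : Dual.D R) (b : M ⟶ C) (c : C ⟶ Z) (d : Z ⟶ M⟦(1 : ℤ)⟧)
    (hT : Triangle.mk b c d ∈ distTriang (Dual.D R)) (hZ : Amp (FP R) (n - 1) hi Z)
    (htors : ∀ i, n ≤ i → TorsAt t C i) :
    ∃ (C' Z' : Dual.D R) (b' : M ⟶ C') (c' : C' ⟶ Z') (d' : Z' ⟶ M⟦(1 : ℤ)⟧),
      Triangle.mk b' c' d' ∈ distTriang (Dual.D R) ∧ Amp (FP R) (n - 2) hi Z' ∧
      ∀ i, n - 1 ≤ i → TorsAt t C' i := by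
  classical
  have hZperf : DRing.IsPerfect R Z := by
    rcases le_or_gt (n - 1) hi with h | h
    · exact (amp_iff Z).2 ⟨n - 1, hi, h, hZ⟩
    · exact (amp_iff Z).2 ⟨n - 1, n - 1, le_rfl, hZ.mono le_rfl (le_of_lt h)⟩
  -- finiteness after localisation
  have key : ∀ f ∈ t, ∃ s : Finset (Dual.HD R C (n - 1)), ∀ x : Dual.HD R C (n - 1),
      ∃ e : ℕ, f ^ e • x ∈ Submodule.span R (s : Set (Dual.HD R C (n - 1))) := by
    intro f hf
    let R' := Localization.Away f
    have hTf := (Ed R').map_distinguished _ hT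
    have hCf : DRing.IsPerfect R' ((Ed R').obj C) :=
      (perfect_two_of_three _ hTf).2.1 (hM f hf) (perfect_Ed R' Z hZperf)
    have hz : ∀ i, n - 1 < i →
        IsZero ((homologyFunctor (ModuleCat.{u} R') i).obj ((Ed R').obj C)) := by
      intro i hi'
      exact isZero_HD_Ed_of_tors f R' C i ((tors_hom_iff f C i).1 (htors i (by omega) f hf))
    have hfin := finite_top_of_perfect ((Ed R').obj C) hCf (n - 1) hz
    exact exists_finset_of_finite_HD_Ed f R' C (n - 1) hfin
  choose! s hs using key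
  let S : Finset (Dual.HD R C (n - 1)) := t.biUnion s
  let φ := Groth.Agent.Helper3.HomUnit.unitEquiv C (n - 1)
  let zs : Fin S.card → (Dual.inD R R ⟶ C⟦n - 1⟧) := fun j => φ.symm (S.equivFin.symm j).1
  have hzs : ∀ f ∈ t, ∀ z : Dual.inD R R ⟶ C⟦n - 1⟧,
      ∃ e : ℕ, f ^ e • z ∈ Submodule.span R (Set.range zs) := by
    intro f hf z
    obtain ⟨e, he⟩ := hs f hf (φ z)
    refine ⟨e, ?_⟩
    have h1 : f ^ e • φ z ∈ Submodule.span R (S : Set (Dual.HD R C (n - 1))) :=
      Submodule.span_mono (by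
        intro x hx
        exact Finset.mem_biUnion.2 ⟨f, hf, hx⟩) he
    have h2 : φ.symm (f ^ e • φ z) ∈ Submodule.map (φ.symm : _ →ₗ[R] _)
        (Submodule.span R (S : Set (Dual.HD R C (n - 1)))) := Submodule.mem_map_of_mem h1
    rw [map_smul, LinearEquiv.symm_apply_apply, Submodule.map_span] at h2
    refine Submodule.span_mono ?_ h2
    rintro _ ⟨x, hx, rfl⟩
    exact ⟨S.equivFin ⟨x, hx⟩, by simp [zs]⟩
  have hZ' : Amp (FP R) (n - 2) hi Z := hZ.mono (by omega) le_rfl
  obtain ⟨C', Z', b', c', d', hT', hZ'', htors'⟩ := attach_cells t M (n - 1) (n - 2) hi (by omega)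
    (by omega) S.card C Z b c d hT hZ' (fun i hi' => htors i (by omega)) zs hzs
  exact ⟨C', Z', b', c', d', hT', hZ'', htors'⟩

/-- the tower -/
theorem tower (t : Finset R) (M : Dual.D R) (hM : LocPerf t M) :
    ∃ n₀ : ℤ, ∀ k : ℕ, ∃ (C Z : Dual.D R) (b : M ⟶ C) (c : C ⟶ Z) (d : Z ⟶ M⟦(1 : ℤ)⟧),
      Triangle.mk b c d ∈ distTriang (Dual.D R) ∧ Amp (FP R) (n₀ - k - 1) (n₀ - 1) Z ∧
      ∀ i, n₀ - k ≤ i → TorsAt t C i := by
  classical
  -- a bound for the cohomology after localisation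
  have hb : ∀ f ∈ t, ∃ b : ℤ, ∀ i, b < i →
      IsZero ((homologyFunctor (ModuleCat.{u} (Localization.Away f)) i).obj
        ((Ed (Localization.Away f)).obj M)) := by
    intro f hf
    obtain ⟨a, b, hab, hA⟩ := (amp_iff _).1 (hM f hf)
    haveI := hA.isLE
    exact ⟨b, fun i hi => DerivedCategory.isZero_of_isLE _ b i hi⟩
  choose! bd hbd using hb
  obtain ⟨n₀, hn₀⟩ : ∃ n₀ : ℤ, ∀ f ∈ t, bd f < n₀ := by
    obtain ⟨B, hB⟩ := (t.image bd).exists_le
    exact ⟨B + 1, fun f hf => by have := hB _ (Finset.mem_image_of_mem bd hf); omega⟩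
  refine ⟨n₀, fun k => ?_⟩
  induction k with
  | zero =>
    refine ⟨M, 0, 𝟙 M, 0, 0, contractible_distinguished M, amp_zero _ _ _ (isZero_zero _), ?_⟩
    intro i hi f hf
    rw [tors_hom_iff]
    intro x
    exact tors_of_isZero_HD_Ed f (Localization.Away f) M i
      (hbd f hf i (by have := hn₀ f hf; push_cast at hi; omega)) x
  | succ k ih =>
    obtain ⟨C, Z, b, c, d, hT, hZ, htors⟩ := ih
    obtain ⟨C', Z', b', c', d', hT', hZ', htors'⟩ := tower_step t M hM (n₀ - k) (n₀ - 1)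
      (by omega) C Z b c d hT hZ htors
    refine ⟨C', Z', b', c', d', hT', hZ'.mono (by push_cast; omega) le_rfl, ?_⟩
    intro i hi
    exact htors' i (by push_cast at hi; omega)

end Groth.Agent.Lib.Helper5.BvdB
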