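import Mathlib
import Groth.Prelude.Def_DCoh3
import Groth.Agent.Lib.Helper5.BvdB.Tower
import Groth.Agent.Lib.Helper5.BvdB.ExtMap

/-!
# Approximating a perfect complex on a quasi-compact open of `Spec R` from `Spec R` (helper5)
-/
set_option autoImplicit false
set_option linter.unusedSectionVars false
set_option linter.unusedVariables false
universe u
open CategoryTheory CategoryTheory.Limits AlgebraicGeometry Pretriangulated TopologicalSpace
attribute [local instance] HasDerivedCategory.standard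

namespace Groth.Agent.Lib.Helper5.BvdB

open Groth.Agent.Lib.Helper5 Groth.Agent.Lib.Helper5.QC
  Groth.Agent.Lib.Helper5.TildePC Groth.Agent.Lib.Helper5.PerfTri
  Groth.Agent.Lib.Helper5.CountHom Groth.Agent.Lib.Helper5.HomVanish
  Groth.Agent.Helper5.Summand Groth.Agent.Helper5.FlatBC
  Groth.Agent.Lib.Helper5.RpushSupp

variable (R : CommRingCat.{u})

/-- the stalk of `H~` at a prime not containing `f` vanishes if `H` is `f`-power torsion -/
theorem subsingleton_stalk_tilde' (H : ModuleCat.{u} R) (f : R)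
    (hH : ∀ h : H, ∃ a : ℕ, f ^ a • h = 0) (x : PrimeSpectrum.Top R) (hx : f ∉ x.asIdeal) :
    Subsingleton ((tilde H).presheaf.stalk x) := by
  haveI : IsLocalizedModule x.asIdeal.primeCompl (tilde.toStalk H x).hom := inferInstance
  refine ⟨fun y z => ?_⟩
  suffices h0 : ∀ y : (tilde H).presheaf.stalk x, y = 0 by rw [h0 y, h0 z]
  intro y
  obtain ⟨⟨m, s⟩, hms⟩ := IsLocalizedModule.surj x.asIdeal.primeCompl (tilde.toStalk H x).hom y
  obtain ⟨a, ha⟩ := hH m
  have hfa : f ^ a ∈ x.asIdeal.primeCompl := fun h => hx (x.isPrime.mem_of_pow_mem a h)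
  have h1 : (tilde.toStalk H x).hom m = 0 :=
    (IsLocalizedModule.eq_zero_iff x.asIdeal.primeCompl (tilde.toStalk H x).hom).2
      ⟨⟨f ^ a, hfa⟩, ha⟩
  have h2 : s • y = 0 := hms.trans h1
  exact (IsLocalizedModule.smul_injective (tilde.toStalk H x).hom s) (h2.trans (smul_zero s).symm)

/-- perfection of `M~` on an open containing the `D(f)`, `f ∈ t`, gives perfection of the
localisations -/
theorem locPerf_of_isPerfect_restrict (U : (Spec (CommRingCat.of R)).Opens) (t : Finset R)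
    (ht : ∀ f ∈ t, (PrimeSpectrum.basicOpen f : Set (PrimeSpectrum R)) ⊆
      (U : Set (Spec (CommRingCat.of R))))
    (M : Dual.D R)
    (h : DCoh.IsPerfect ((DCoh.restrictD U.ι).obj ((DCoh.tildeD R).obj M))) : LocPerf t M := by
  intro f hf
  let K := DerivedCategory.Q.objPreimage M
  let e : DerivedCategory.Q.obj K ≅ M := DerivedCategory.Q.objObjPreimageIso M
  haveI : PreservesFiniteLimits (tilde.functor (CommRingCat.of (Localization.Away f))) :=
    Groth.Agent.Lib.Helper5.QC.preservesFiniteLimits_tilde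
  have hrange : Set.range (Spec.map (awayHom R f)) ⊆ Set.range U.ι := by
    rw [range_awayHom, Scheme.Opens.range_ι]
    exact ht f hf
  let c : Spec (CommRingCat.of (Localization.Away f)) ⟶ ↑U :=
    IsOpenImmersion.lift U.ι (Spec.map (awayHom R f)) hrange
  have hc : c ≫ U.ι = Spec.map (awayHom R f) := IsOpenImmersion.lift_fac _ _ _
  haveI : IsOpenImmersion (c ≫ U.ι) := by rw [hc]; infer_instance
  haveI : IsOpenImmersion c := IsOpenImmersion.of_comp c U.ι
  have h1 := isPerfect_restrictJ c _ h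
  have h2 : DCoh.IsPerfect ((DCoh.tildeD (CommRingCat.of (Localization.Away f))).obj
      (DerivedCategory.Q.obj ((extCx (awayHom R f)).obj K))) :=
    isPerfect_of_iso ((restrictDCompObjIso c U.ι _).symm ≪≫
      restrictDCongrObjIso hc _ ≪≫
      (DCoh.restrictD (Spec.map (awayHom R f))).mapIso ((DCoh.tildeD R).mapIso e.symm) ≪≫
      resTildeDIso (awayHom R f) K) h1
  have h3 := (isPerfect_tildeD_iff (CommRingCat.of (Localization.Away f)) _).1 h2
  exact Groth.Agent.Helper5.PerfRes.perfect_of_iso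
    ((EdQ (Localization.Away f) K).symm ≪≫ (Ed (Localization.Away f)).mapIso e) h3

attribute [local instance] HomVanish.hasRpush'

/-- **approximation from `Spec R`**: a perfect complex `E` on a quasi-compact open `U` of
`Spec R` receives, for every `n`, a map from the restriction of a perfect complex of `Spec R`
with cells in degrees `≥ n' ` (`n' ≤ n`) whose cone lives in degrees `< n'`. -/
theorem exists_approx_spec (U : (Spec (CommRingCat.of R)).Opens)
    (hU : IsCompact (U : Set (Spec (CommRingCat.of R))))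
    (E : DCoh.D (U : Scheme.{u})) (hE : DCoh.IsPerfect E) (n : ℤ) :
    ∃ (Z : Dual.D R) (n' hi : ℤ) (C : DCoh.D (U : Scheme.{u}))
      (a : (DCoh.restrictD U.ι).obj ((DCoh.tildeD R).obj (Z⟦(-1 : ℤ)⟧)) ⟶ E) (b : E ⟶ C)
      (c : C ⟶ ((DCoh.restrictD U.ι).obj ((DCoh.tildeD R).obj (Z⟦(-1 : ℤ)⟧)))⟦(1 : ℤ)⟧),
      Triangle.mk a b c ∈ distTriang _ ∧ n' ≤ n ∧ Amp (FP R) (n' - 1) hi Z ∧ DCoh.IsQCohD C ∧
      ∀ i, n' ≤ i → IsZero (DCoh.HD C i) := by
  classical
  haveI : CompactSpace ↥(U : Scheme.{u}) := isCompact_iff_compactSpace.mp hU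
  have hEq : DCoh.IsQCohD E := isQCohD_of_isPerfect E hE
  let adj := resAdj U.ι
  let N := (DCoh.Rpush U.ι).obj E
  have hN : DCoh.IsQCohD N := isQCohD_rpush U.ι E hEq
  obtain ⟨M, ⟨eM⟩⟩ := ((tildeD_main R).2.2 N).1 hN
  let ε : (DCoh.restrictD U.ι).obj N ≅ E := asIso (adj.counit.app E)
  let e₀ : (DCoh.restrictD U.ι).obj ((DCoh.tildeD R).obj M) ≅ E :=
    (DCoh.restrictD U.ι).mapIso eM ≪≫ ε
  let US : Set (PrimeSpectrum R) := U.1
  obtain ⟨t, ht⟩ := PrimeSpectrum.isCompact_isOpen_iff.1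
    (⟨hU, U.2⟩ : IsCompact US ∧ IsOpen US)
  have hmem : ∀ x : PrimeSpectrum R, x ∈ US ↔ ∃ f ∈ t, f ∉ x.asIdeal := by
    intro x
    rw [← ht, Set.mem_compl_iff, PrimeSpectrum.mem_zeroLocus, Set.not_subset]
    simp
  have htU : ∀ f ∈ t, (PrimeSpectrum.basicOpen f : Set (PrimeSpectrum R)) ⊆
      (U : Set (Spec (CommRingCat.of R))) := fun f hf x hx => (hmem x).2 ⟨f, hf, hx⟩
  have hLP : LocPerf t M :=
    locPerf_of_isPerfect_restrict R U t htU M (isPerfect_of_iso e₀.symm hE)
  obtain ⟨n₀, htow⟩ := tower t M hLP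
  let n' : ℤ := min n n₀
  obtain ⟨C₀, Z, b, c, d, hT, hZ, htors⟩ := htow (n₀ - n').toNat
  have hk : ((n₀ - n').toNat : ℤ) = n₀ - n' := Int.toNat_of_nonneg (by
    have := min_le_right n n₀; omega)
  rw [hk] at hZ htors
  have hT1 := inv_rot_of_distTriang _ hT
  have hT2 := (DCoh.tildeD R).map_distinguished _ hT1
  have hT3 := (DCoh.restrictD U.ι).map_distinguished _ hT2
  refine ⟨Z, n', n₀ - 1, (DCoh.restrictD U.ι).obj ((DCoh.tildeD R).obj C₀), _, _, _,
    dist_of_iso_mid _ _ _ hT3 e₀, min_le_left _ _, hZ.mono (by omega) le_rfl,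
    isQCohD_restrictD U _ (((tildeD_main R).2.2 _).2 ⟨C₀, ⟨Iso.refl _⟩⟩), ?_⟩
  intro i hi
  refine IsZero.of_iso ?_ (hdRestrictDIso _ U i).symm
  apply isZero_restrict_of_stalks
  intro x hx
  obtain ⟨f, hf, hfx⟩ := (hmem x).1 hx
  refine subsingleton_stalk_of_iso (hdTildeDIso R C₀ i).symm x ?_
  exact subsingleton_stalk_tilde' R _ f
    ((tors_hom_iff f C₀ i).1 (htors i (by omega) f hf)) x hfx

end Groth.Agent.Lib.Helper5.BvdB
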