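import Mathlib
import Groth.Prelude.Def_DCoh3
import Groth.Agent.Lib.Helper5.BvdB.TowerSch

/-!
# `E ⊕ E[1]` extends (helper5)
-/
set_option autoImplicit false
set_option linter.unusedSectionVars false
set_option linter.unusedVariables false
universe u
open CategoryTheory CategoryTheory.Limits AlgebraicGeometry Pretriangulated TopologicalSpace
attribute [local instance] HasDerivedCategory.standard

namespace Groth.Agent.Lib.Helper5.BvdB

section Tri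

variable {D : Type*} [Category D] [Preadditive D] [HasZeroObject D] [HasShift D ℤ]
  [∀ n : ℤ, (shiftFunctor D n).Additive] [Pretriangulated D] [IsTriangulated D]

/-- if `E ⟶ C` vanishes in a distinguished triangle `A ⟶ E ⟶ C ⟶ A[1]`, then `E ⊕ E[1]` is the
cone of an endomorphism of `A` -/
theorem exists_cone_iso_biprod {A E C : D} (a : A ⟶ E) (b : E ⟶ C) (c : C ⟶ A⟦(1 : ℤ)⟧)
    (hT : Triangle.mk a b c ∈ distTriang D) (hb : b = 0) :
    ∃ (α : A ⟶ A) (G : D) (g : A ⟶ G) (h : G ⟶ A⟦(1 : ℤ)⟧),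
      Triangle.mk α g h ∈ distTriang D ∧ Nonempty (G ≅ E ⊞ E⟦(1 : ℤ)⟧) := by
  have hT' := inv_rot_of_distTriang _ hT
  have hz : (Triangle.mk a b c).invRotate.mor₃ = 0 := by
    show b ≫ _ = 0
    rw [hb, zero_comp]
  obtain ⟨e, he1, he2⟩ := exists_iso_binaryBiproduct_of_distTriang _ hT' hz
  -- `e : A ≅ B ⊞ E`, `B = C[-1]`
  let B : D := C⟦(-1 : ℤ)⟧
  have he2' : a = e.hom ≫ biprod.snd := he2
  let π : A ⟶ B := e.hom ≫ biprod.fst
  let w : B ⟶ A := biprod.inl ≫ e.inv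
  -- `h₂₃` : `B ⟶ A ⟶ E ⟶ B[1]`
  have h₂₃ : Triangle.mk w a (0 : E ⟶ B⟦(1 : ℤ)⟧) ∈ distTriang D := by
    have h1 := dist_of_iso_mid _ _ _ (binaryBiproductTriangle_distinguished B E) e.symm
    rw [he2']
    exact h1
  -- `h₁₂` : `A ⟶ B ⟶ E[1] ⟶ A[1]`
  let e' : A ≅ E ⊞ B := e ≪≫ biprod.braiding B E
  have h1 : Triangle.mk (biprod.inl ≫ e'.inv) π (0 : B ⟶ E⟦(1 : ℤ)⟧) ∈ distTriang D := by
    have h0 := dist_of_iso_mid _ _ _ (binaryBiproductTriangle_distinguished E B) e'.symm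
    have hπ : e'.hom ≫ (biprod.snd : E ⊞ B ⟶ B) = π := by
      show (e.hom ≫ (biprod.braiding B E).hom) ≫ biprod.snd = e.hom ≫ biprod.fst
      rw [Category.assoc]
      congr 1
      exact biprod.lift_snd _ _
    rw [← hπ]
    exact h0
  have h₁₂ := rot_of_distTriang _ h1
  obtain ⟨G, g, h, h₁₃⟩ := distinguished_cocone_triangle (π ≫ w)
  let o := Triangulated.someOctahedron (u₁₂ := π) (u₂₃ := w) (u₁₃ := π ≫ w) rfl h₁₂ h₂₃ h₁₃
  have hmem := o.mem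
  obtain ⟨e₃, -, -⟩ := exists_iso_binaryBiproduct_of_distTriang _ hmem (by
    show (0 : E ⟶ B⟦(1 : ℤ)⟧) ≫ _ = 0
    rw [zero_comp])
  exact ⟨π ≫ w, G, g, h, h₁₃, ⟨e₃ ≪≫ biprod.braiding _ _⟩⟩

end Tri

open Groth.Agent.Lib.Helper5 Groth.Agent.Lib.Helper5.QC
  Groth.Agent.Lib.Helper5.TildePC Groth.Agent.Lib.Helper5.PerfTri
  Groth.Agent.Lib.Helper5.CountHom Groth.Agent.Lib.Helper5.HomVanish
  Groth.Agent.Helper5.Summand

section Spec

variable (R : CommRingCat.{u})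

theorem isPerfect_tildeD_shift_of_amp (Z : Dual.D R) (a b : ℤ) (hZ : Amp (FP R) a b Z) (k : ℤ) :
    DCoh.IsPerfect ((DCoh.tildeD R).obj (Z⟦k⟧)) := by
  rw [isPerfect_tildeD_iff]
  have h := hZ.shift k
  rcases le_or_gt (a - k) (b - k) with h' | h'
  · exact (amp_iff _).2 ⟨_, _, h', h⟩
  · exact (amp_iff _).2 ⟨a - k, a - k, le_rfl, h.mono le_rfl (le_of_lt h')⟩

/-- **`E ⊕ E[1]` extends**, on `Spec R` -/
theorem extend_sum_shift_spec (U : (Spec (CommRingCat.of R)).Opens)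
    (hU : IsCompact (U : Set (Spec (CommRingCat.of R))))
    (E : DCoh.D (U : Scheme.{u})) (hE : DCoh.IsPerfect E) :
    ∃ P : DCoh.D (Spec (CommRingCat.of R)), DCoh.IsPerfect P ∧
      Nonempty ((DCoh.restrictD U.ι).obj P ≅ E ⊞ E⟦(1 : ℤ)⟧) := by
  haveI : CompactSpace ↥(U : Scheme.{u}) := isCompact_iff_compactSpace.mp hU
  haveI : QuasiSeparatedSpace ↥(U : Scheme.{u}) :=
    QuasiSeparatedSpace.of_isOpenEmbedding U.ι.isOpenEmbedding
  obtain ⟨a₀, b₀, hab, hvan⟩ := exists_range_of_isPerfect E hE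
  obtain ⟨Z, n', hi, C, a, b, c, hT, hn', hZ, hC, hz⟩ := exists_approx_spec R U hU E hE a₀
  have hb : b = 0 := hvan C hC (fun i hi _ => hz i (by omega)) b
  let P₀ : DCoh.D (Spec (CommRingCat.of R)) := (DCoh.tildeD R).obj (Z⟦(-1 : ℤ)⟧)
  have hP₀ : DCoh.IsPerfect P₀ := isPerfect_tildeD_shift_of_amp R Z _ _ hZ (-1)
  obtain ⟨α, G, g, h, hTG, ⟨eG⟩⟩ := exists_cone_iso_biprod a b c hT hb
  obtain ⟨P₁, β, γ, hP₁, hβ, hβγ⟩ := thomason_extension U hU P₀ P₀ hP₀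
    (isQCohD_of_isPerfect P₀ hP₀) α
  obtain ⟨K, k₁, k₂, hTK⟩ := distinguished_cocone_triangle γ
  have hK : DCoh.IsPerfect K := isPerfect_obj₃ _ hTK hP₁ hP₀
  have hTKU := (DCoh.restrictD U.ι).map_distinguished _ hTK
  haveI := hβ
  let iT := isoTriangleOfIso₁₂ _ _ hTKU hTG (@asIso _ _ _ _ _ hβ) (Iso.refl _) (by
    show (DCoh.restrictD U.ι).map γ ≫ 𝟙 _ = (DCoh.restrictD U.ι).map β ≫ α
    rw [Category.comp_id, hβγ])
  exact ⟨K, hK, ⟨Triangle.π₃.mapIso iT ≪≫ eG⟩⟩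

end Spec

section Affine

variable {X : Scheme.{u}} [IsAffine X]

/-- transport data between a quasi-compact open of an affine scheme and the corresponding open
of the spectrum of its global sections -/
theorem affine_transport (U : X.Opens) (hU : IsCompact (U : Set X)) :
    ∃ (U' : (Spec (CommRingCat.of Γ(X, ⊤))).Opens) (ψ : (U' : Scheme.{u}) ≅ (U : Scheme.{u})),
      IsCompact (U' : Set (Spec (CommRingCat.of Γ(X, ⊤)))) ∧
      U.ι ≫ X.isoSpec.hom = ψ.inv ≫ U'.ι := by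
  let f : Spec (CommRingCat.of Γ(X, ⊤)) ⟶ X := X.isoSpec.inv
  let U' : (Spec (CommRingCat.of Γ(X, ⊤))).Opens := f ⁻¹ᵁ U
  let ψ : (U' : Scheme.{u}) ≅ (U : Scheme.{u}) := f.preimageIso U
  refine ⟨U', ψ, ?_, ?_⟩
  · have : (U' : Set (Spec (CommRingCat.of Γ(X, ⊤)))) =
        (Scheme.homeoOfIso X.isoSpec.symm) ⁻¹' (U : Set X) := rfl
    rw [this, Homeomorph.isCompact_preimage]
    exact hU
  · have h1 : ψ.hom ≫ U.ι = U'.ι ≫ f := Scheme.Hom.preimageIso_hom_ι f U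
    have h2 : U.ι = ψ.inv ≫ U'.ι ≫ f := by rw [← h1, Iso.inv_hom_id_assoc]
    rw [h2, Category.assoc, Category.assoc]
    show ψ.inv ≫ U'.ι ≫ X.isoSpec.inv ≫ X.isoSpec.hom = _
    rw [Iso.inv_hom_id, Category.comp_id]

/-- **`F ⊕ F[1]` extends** from a quasi-compact open of an affine scheme -/
theorem extend_sum_shift_affine (U : X.Opens) (hU : IsCompact (U : Set X))
    (F : DCoh.D (U : Scheme.{u})) (hF : DCoh.IsPerfect F) :
    ∃ P : DCoh.D X, DCoh.IsPerfect P ∧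
      Nonempty ((DCoh.restrictD U.ι).obj P ≅ F ⊞ F⟦(1 : ℤ)⟧) := by
  obtain ⟨U', ψ, hU', hψ⟩ := affine_transport U hU
  let F' : DCoh.D (U' : Scheme.{u}) := (DCoh.restrictD ψ.hom).obj F
  have hF' : DCoh.IsPerfect F' := isPerfect_restrictJ ψ.hom F hF
  obtain ⟨P', hP', ⟨e'⟩⟩ := extend_sum_shift_spec (CommRingCat.of Γ(X, ⊤)) U' hU' F' hF'
  let P : DCoh.D X := (DCoh.restrictD X.isoSpec.hom).obj P'
  refine ⟨P, isPerfect_restrictJ X.isoSpec.hom P' hP', ⟨?_⟩⟩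
  haveI : IsOpenImmersion (ψ.inv ≫ U'.ι) := inferInstance
  let G := DCoh.restrictD ψ.inv
  let u : F ≅ G.obj F' := (restrictDEquiv ψ).unitIso.app F
  haveI : PreservesBinaryBiproducts G := preservesBinaryBiproducts_of_preservesBiproducts G
  exact (restrictDCompObjIso U.ι X.isoSpec.hom P').symm ≪≫ restrictDCongrObjIso hψ P' ≪≫
    restrictDCompObjIso ψ.inv U'.ι P' ≪≫ G.mapIso e' ≪≫ G.mapBiprod F' (F'⟦(1 : ℤ)⟧) ≪≫
    biprod.mapIso u.symm ((G.commShiftIso (1 : ℤ)).app F' ≪≫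
      (shiftFunctor _ (1 : ℤ)).mapIso u.symm)

end Affine

end Groth.Agent.Lib.Helper5.BvdB
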