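import Mathlib
import Groth.Prelude.Def_DCoh3
import Groth.Agent.Lib.Helper5.BvdB.Adj2
import Groth.Agent.Lib.Helper5.BvdB.TildeTors
import Groth.Agent.Lib.Helper5.Stalk.RpushRes
import Groth.Agent.Lib.Helper5.QC.RpushBound
import Groth.Agent.Lib.Helper5.Perf.HomVanishMV

/-!
# Extension by zero on derived categories: unit and restriction to other opens (helper5)
-/
set_option autoImplicit false
set_option linter.unusedSectionVars false
set_option linter.unusedVariables false
universe u
open CategoryTheory CategoryTheory.Limits AlgebraicGeometry Pretriangulated TopologicalSpace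
attribute [local instance] HasDerivedCategory.standard

namespace Groth.Agent.Lib.Helper5.BvdB

open Groth.Agent.Lib.Helper5 Groth.Agent.Lib.Helper5.QC Groth.Agent.Lib.Helper5.HomVanish
  Groth.Agent.Lib.Helper5.RpushSupp

variable {Y : Scheme.{u}}

attribute [local instance] preservesFiniteLimits_extZero
attribute [local instance] HomVanish.hasRpush'

/-- an object all of whose cohomology sheaves have vanishing stalks is zero -/
theorem isZero_of_vanishOn_univ (E : DCoh.D Y) (h : VanishOn E Set.univ) : IsZero E :=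
  isZero_of_forall_isZero_HD E (fun i => isZero_of_stalks _ (fun x => h x (Set.mem_univ x) i))

/-- restriction along an open immersion whose image lies in a set on which `K` vanishes -/
theorem isZero_restrictD_of_vanishOn {A : Scheme.{u}} (j : A ⟶ Y) [IsOpenImmersion j]
    (K : DCoh.D Y) (S : Set Y) (hK : VanishOn K S) (hj : Set.range j.base ⊆ S) :
    IsZero ((DCoh.restrictD j).obj K) := by
  apply isZero_of_vanishOn_univ
  rw [vanishOn_restrictD_iff]
  refine VanishOn.mono hK ?_
  rintro _ ⟨y, -, rfl⟩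
  exact hj ⟨y, rfl⟩

/-- the unit of `j_! ⊣ j^*` is an isomorphism -/
instance isIso_shriekAdj_unit (V : Y.Opens) : IsIso (shriekAdj V).unit := by
  let t : CategoryTheory.Adjunction.Triple (CxOX.extZeroD V.ι) (DCoh.restrictD V.ι)
      (DCoh.Rpush V.ι) := ⟨shriekAdj V, resAdj V.ι⟩
  exact t.isIso_unit_iff_isIso_counit.2 (isIso_resAdj_counit V.ι)

/-- `j_{V!} K` vanishes on `U` if `K` vanishes on `V ∩ U` -/
theorem isZero_restrictD_extZeroD (U V : Y.Opens) (K : DCoh.D (V : Scheme.{u}))
    (hK : VanishOn K ((V.ι ⁻¹ᵁ U : (V : Scheme.{u}).Opens) : Set ↥(V : Scheme.{u}))) :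
    IsZero ((DCoh.restrictD U.ι).obj ((CxOX.extZeroD V.ι).obj K)) := by
  let L := (CxOX.extZeroD V.ι).obj K
  let M := (DCoh.restrictD U.ι).obj L
  let N := (DCoh.Rpush U.ι).obj M
  let M' := (DCoh.restrictD (U.ι ⁻¹ᵁ V).ι).obj M
  let ρ : (DCoh.restrictD V.ι).obj N ≅ (DCoh.Rpush (U.ι ∣_ V)).obj M' :=
    (Groth.Agent.Lib.Helper5.RpushRes.rpushRestrictIso U.ι V).app M
  have hz : IsZero ((DCoh.restrictD (U.ι ∣_ V)).obj K) := by
    apply isZero_restrictD_of_vanishOn (U.ι ∣_ V) K _ hK
    rintro _ ⟨y, rfl⟩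
    show V.ι.base ((U.ι ∣_ V).base y) ∈ U
    rw [← Scheme.Hom.comp_apply, morphismRestrict_ι]
    exact (((U.ι ⁻¹ᵁ V).ι.base y)).2
  have h1 : Subsingleton ((DCoh.restrictD (U.ι ∣_ V)).obj K ⟶ M') :=
    ⟨fun a b => hz.eq_of_src a b⟩
  have h2 : Subsingleton (K ⟶ (DCoh.Rpush (U.ι ∣_ V)).obj M') :=
    ((resAdj (U.ι ∣_ V)).homEquiv K M').symm.subsingleton
  have h3 : Subsingleton (K ⟶ (DCoh.restrictD V.ι).obj N) :=
    ((Iso.homCongr (Iso.refl K) ρ)).subsingleton
  have h4 : Subsingleton (L ⟶ N) := ((shriekAdj V).homEquiv K N).subsingleton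
  have h5 : Subsingleton (M ⟶ M) := ((resAdj U.ι).homEquiv L M).subsingleton
  rw [IsZero.iff_id_eq_zero]
  exact Subsingleton.elim _ _

end Groth.Agent.Lib.Helper5.BvdB
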