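import Mathlib
import Groth.Prelude.Def_DCoh3
import Groth.Agent.Lib.Helper5.BvdB.Retract
import Groth.Agent.Lib.Helper5.BvdB.ShriekRes
import Groth.Agent.Lib.Helper5.BvdB.KoszulSch
import Groth.Agent.Lib.Helper5.MV.GlueApp

/-!
# The Mayer–Vietoris step for perfect generators (helper5)
-/
set_option autoImplicit false
set_option linter.unusedSectionVars false
set_option linter.unusedVariables false
universe u
open CategoryTheory CategoryTheory.Limits AlgebraicGeometry Pretriangulated TopologicalSpace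
open scoped ZeroObject
attribute [local instance] HasDerivedCategory.standard

namespace Groth.Agent.Lib.Helper5.BvdB

open Groth.Agent.Lib.Helper5 Groth.Agent.Lib.Helper5.QC
  Groth.Agent.Lib.Helper5.TildePC Groth.Agent.Lib.Helper5.PerfTri
  Groth.Agent.Lib.Helper5.CountHom Groth.Agent.Lib.Helper5.HomVanish

section Imm

variable {X A : Scheme.{u}} [IsAffine X]

/-- **`F ⊕ F[1]` extends** along a quasi-compact open immersion into an affine scheme -/
theorem extend_sum_shift_affine_imm (j : A ⟶ X) [IsOpenImmersion j] [CompactSpace A]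
    (F : DCoh.D A) (hF : DCoh.IsPerfect F) :
    ∃ P : DCoh.D X, DCoh.IsPerfect P ∧ Nonempty ((DCoh.restrictD j).obj P ≅ F ⊞ F⟦(1 : ℤ)⟧) := by
  let U : X.Opens := j.opensRange
  let κ : A ≅ (U : Scheme.{u}) := j.isoOpensRange
  have hκ : κ.hom ≫ U.ι = j := j.isoOpensRange_hom_ι
  have hU : IsCompact (U : Set X) := by
    show IsCompact (Set.range j.base)
    exact isCompact_range j.continuous
  let F₀ : DCoh.D (U : Scheme.{u}) := (DCoh.restrictD κ.inv).obj F
  have hF₀ : DCoh.IsPerfect F₀ := isPerfect_restrictJ κ.inv F hF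
  obtain ⟨P, hP, ⟨e⟩⟩ := extend_sum_shift_affine U hU F₀ hF₀
  refine ⟨P, hP, ⟨?_⟩⟩
  haveI : IsOpenImmersion (κ.hom ≫ U.ι) := inferInstance
  let G := DCoh.restrictD κ.hom
  let u : G.obj F₀ ≅ F := (restrictDEquiv κ).counitIso.app F
  haveI : PreservesBinaryBiproducts G := preservesBinaryBiproducts_of_preservesBiproducts G
  exact restrictDCongrObjIso hκ.symm P ≪≫ restrictDCompObjIso κ.hom U.ι P ≪≫ G.mapIso e ≪≫
    G.mapBiprod F₀ (F₀⟦(1 : ℤ)⟧) ≪≫
    biprod.mapIso u ((G.commShiftIso (1 : ℤ)).app F₀ ≪≫ (shiftFunctor _ (1 : ℤ)).mapIso u)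

end Imm

section Gen

variable {Y : Scheme.{u}}

/-- a perfect generator of `D_QCoh(Y)` -/
def IsPerfGen (P : DCoh.D Y) : Prop :=
  DCoh.IsPerfect P ∧ ∀ E : DCoh.D Y, DCoh.IsQCohD E →
    (∀ (n : ℤ) (φ : P⟦n⟧ ⟶ E), φ = 0) → IsZero E

theorem isPerfect_of_isZero (K : DCoh.D Y) (h : IsZero K) : DCoh.IsPerfect K := by
  apply isPerfect_of_LPD
  intro x
  exact ⟨Y, 𝟙 Y, inferInstance, ⟨x, rfl⟩,
    Groth.Agent.Lib.Helper5.RpushOpen.LPD_of_isZero (𝟙 Y) K (Functor.map_isZero _ h)⟩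

theorem isPerfect_biprod (A B : DCoh.D Y) (hA : DCoh.IsPerfect A) (hB : DCoh.IsPerfect B) :
    DCoh.IsPerfect (A ⊞ B) :=
  (two_of_three _ (binaryBiproductTriangle_distinguished A B)).2.1 hA hB

/-- vanishing of all maps `P⟦n⟧ ⟶ E` gives vanishing of all maps `P⟦n⟧ ⟶ E⟦m⟧` -/
theorem hom_shift_eq_zero {C : Type*} [Category C] [Preadditive C] [HasShift C ℤ]
    [∀ n : ℤ, (shiftFunctor C n).Additive] (P E : C)
    (h : ∀ (n : ℤ) (φ : P⟦n⟧ ⟶ E), φ = 0) (n m : ℤ) (θ : P⟦n⟧ ⟶ E⟦m⟧) : θ = 0 := by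
  have h1 := h (n + (-m)) ((shiftFunctorAdd' C n (-m) (n + (-m)) rfl).hom.app P ≫ θ⟦-m⟧' ≫
    (shiftFunctorCompIsoId C m (-m) (by simp)).hom.app E)
  have h2 : θ⟦-m⟧' = 0 := by
    have h3 := congrArg (fun t => (shiftFunctorAdd' C n (-m) (n + (-m)) rfl).inv.app P ≫ t ≫
      (shiftFunctorCompIsoId C m (-m) (by simp)).inv.app E) h1
    simpa using h3
  apply (shiftFunctor C (-m)).map_injective
  rw [h2, Functor.map_zero]

/-- perfect generators transport along isomorphisms of schemes -/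
theorem IsPerfGen.of_iso {X' : Scheme.{u}} (φ : Y ≅ X') (Q : DCoh.D X') (hQ : IsPerfGen Q) :
    IsPerfGen ((DCoh.restrictD φ.hom).obj Q) := by
  let Eq := restrictDEquiv φ
  let F := DCoh.restrictD φ.hom
  let G := DCoh.restrictD φ.inv
  refine ⟨isPerfect_restrictJ φ.hom Q hQ.1, ?_⟩
  intro E hE hφ
  have hGE : IsZero (G.obj E) := by
    apply hQ.2 (G.obj E) (isQCohD_restrictJ φ.inv E hE)
    intro n ψ
    have h1 : (F.commShiftIso n).inv.app Q ≫ F.map ψ ≫ Eq.counitIso.hom.app E = 0 := hφ n _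
    have h2 : F.map ψ = 0 := by
      have h3 : F.map ψ ≫ Eq.counitIso.hom.app E = 0 := by
        have h4 := congrArg (fun t => (F.commShiftIso n).hom.app Q ≫ t) h1
        simpa using h4
      exact (cancel_mono (Eq.counitIso.hom.app E)).1 (h3.trans zero_comp.symm)
    apply F.map_injective
    rw [h2, Functor.map_zero]
  exact IsZero.of_iso (F.map_isZero hGE) (Eq.counitIso.app E).symm

attribute [local instance] preservesFiniteLimits_extZero
attribute [local instance] HomVanish.hasRpush'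

/-- a retract `Q₁` of `M`: vanishing of maps from shifts of `M` gives the same for `Q₁` -/
theorem hom_retract_eq_zero {C : Type*} [Category C] [Preadditive C] [HasShift C ℤ]
    {Q M E : C} (i : Q ⟶ M) (r : M ⟶ Q) (hir : i ≫ r = 𝟙 Q)
    (h : ∀ (n : ℤ) (φ : M⟦n⟧ ⟶ E), φ = 0) (n : ℤ) (ψ : Q⟦n⟧ ⟶ E) : ψ = 0 := by
  have h1 : ψ = i⟦n⟧' ≫ r⟦n⟧' ≫ ψ := by
    rw [← Category.assoc, ← Functor.map_comp, hir, CategoryTheory.Functor.map_id,
      Category.id_comp]
  rw [h1, h n (r⟦n⟧' ≫ ψ)]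
  exact comp_zero

/-- **the Mayer–Vietoris step for perfect generators** -/
theorem isPerfGen_mv [QuasiSeparatedSpace Y] (U V : Y.Opens) (hUV : U ⊔ V = ⊤)
    (hU : IsCompact (U : Set Y)) (hV : IsAffineOpen V)
    (Q₁ : DCoh.D (U : Scheme.{u})) (hQ₁ : IsPerfGen Q₁) :
    ∃ G : DCoh.D Y, IsPerfGen G := by
  haveI : IsAffine (V : Scheme.{u}) := hV
  haveI : CompactSpace ↥(U : Scheme.{u}) := isCompact_iff_compactSpace.mp hU
  have hW : IsCompact ((U ⊓ V : Y.Opens) : Set Y) :=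
    QuasiSeparatedSpace.inter_isCompact _ _ U.isOpen hU V.isOpen hV.isCompact
  haveI : CompactSpace ↥((U ⊓ V : Y.Opens) : Scheme.{u}) := isCompact_iff_compactSpace.mp hW
  let jU := Y.homOfLE (inf_le_left : U ⊓ V ≤ U)
  let jV := Y.homOfLE (inf_le_right : U ⊓ V ≤ V)
  let GU := DCoh.restrictD jU
  let F := GU.obj Q₁
  have hF : DCoh.IsPerfect F := isPerfect_restrictJ jU Q₁ hQ₁.1
  obtain ⟨P₂, hP₂, ⟨e₂⟩⟩ := extend_sum_shift_affine_imm jV F hF
  let A := Q₁ ⊞ Q₁⟦(1 : ℤ)⟧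
  have hA : DCoh.IsPerfect A := isPerfect_biprod _ _ hQ₁.1 (isPerfect_shift hQ₁.1 1)
  haveI : PreservesBinaryBiproducts GU := preservesBinaryBiproducts_of_preservesBiproducts GU
  let c : GU.obj A ≅ (DCoh.restrictD jV).obj P₂ :=
    GU.mapBiprod Q₁ (Q₁⟦(1 : ℤ)⟧) ≪≫
      biprod.mapIso (Iso.refl F) ((GU.commShiftIso (1 : ℤ)).app Q₁) ≪≫ e₂.symm
  obtain ⟨Q', ⟨a₁⟩, ⟨a₂⟩⟩ := Groth.Agent.Lib.Helper5.MV.exists_glue' U V A P₂ c
  have hcov : ∀ x : Y, x ∈ U ∨ x ∈ V := by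
    intro x
    have : x ∈ (U ⊔ V : Y.Opens) := by rw [hUV]; trivial
    exact this
  have hQ' : DCoh.IsPerfect Q' := by
    apply isPerfect_of_restrict_cover
    intro x
    rcases hcov x with hx | hx
    · exact ⟨U, hx, isPerfect_of_iso a₁.symm hA⟩
    · exact ⟨V, hx, isPerfect_of_iso a₂.symm hP₂⟩
  -- the Koszul object supported on `V \ U`
  let S : (V : Scheme.{u}).Opens := V.ι ⁻¹ᵁ U
  have hS : IsCompact (S : Set ↥(V : Scheme.{u})) := by
    rw [V.ι.isOpenEmbedding.isInducing.isCompact_iff]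
    have : (fun x => V.ι.base x) '' (S : Set ↥(V : Scheme.{u})) = ((U ⊓ V : Y.Opens) : Set Y) := by
      ext y
      constructor
      · rintro ⟨x, hx, rfl⟩
        exact ⟨hx, x.2⟩
      · rintro ⟨hyU, hyV⟩
        exact ⟨⟨y, hyV⟩, hyU, rfl⟩
    rw [this]
    exact hW
  obtain ⟨K, hK, hKS, hdet⟩ := exists_koszul_affine S hS
  let K' := (CxOX.extZeroD V.ι).obj K
  have hK'U : IsZero ((DCoh.restrictD U.ι).obj K') := isZero_restrictD_extZeroD U V K hKS
  let eK : (DCoh.restrictD V.ι).obj K' ≅ K := (asIso ((shriekAdj V).unit.app K)).symm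
  have hK' : DCoh.IsPerfect K' := by
    apply isPerfect_of_restrict_cover
    intro x
    rcases hcov x with hx | hx
    · exact ⟨U, hx, isPerfect_of_isZero _ hK'U⟩
    · exact ⟨V, hx, isPerfect_of_iso eK.symm hK⟩
  refine ⟨Q' ⊞ K', isPerfect_biprod _ _ hQ' hK', ?_⟩
  intro E hE hφ
  have hφQ : ∀ (n : ℤ) (φ : Q'⟦n⟧ ⟶ E), φ = 0 :=
    hom_retract_eq_zero (biprod.inl : Q' ⟶ Q' ⊞ K') biprod.fst biprod.inl_fst hφ
  have hφK : ∀ (n : ℤ) (φ : K'⟦n⟧ ⟶ E), φ = 0 :=
    hom_retract_eq_zero (biprod.inr : K' ⟶ Q' ⊞ K') biprod.snd biprod.inr_snd hφ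
  let adj := resAdj U.ι
  let RU := DCoh.restrictD U.ι
  let RV := DCoh.restrictD V.ι
  let η : E ⟶ (DCoh.Rpush U.ι).obj (RU.obj E) := adj.unit.app E
  obtain ⟨D, π, δ, hT⟩ := distinguished_cocone_triangle η
  have hEU : DCoh.IsQCohD (RU.obj E) := isQCohD_restrictJ U.ι E hE
  have hD : DCoh.IsQCohD D := isQCohD_of_triangle_right _ hT hE (isQCohD_rpush U.ι _ hEU)
  have hηU : IsIso (RU.map η) := by
    have h1 : RU.map η ≫ adj.counit.app (RU.obj E) = 𝟙 _ := adj.left_triangle_components E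
    have h2 : IsIso (RU.map η ≫ adj.counit.app (RU.obj E)) := by
      rw [h1]
      infer_instance
    exact IsIso.of_isIso_comp_right _ (adj.counit.app (RU.obj E))
  have hDU : VanishOn D (U : Set Y) := by
    rw [← isZero_restrictD_iff_vanishOn]
    exact (Triangle.isZero₃_iff_isIso₁ _ (RU.map_distinguished _ hT)).2 hηU
  -- maps from shifts of `K'` to `D` vanish
  have hK'D : ∀ (n : ℤ) (φ : K'⟦n⟧ ⟶ D), φ = 0 := by
    intro n φ
    have h0 : φ ≫ δ = 0 := hom_shift_eq_zero K' E hφK n 1 (φ ≫ δ)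
    obtain ⟨v, hv⟩ : ∃ v : K'⟦n⟧ ⟶ (DCoh.Rpush U.ι).obj (RU.obj E), φ = v ≫ π :=
      Triangle.coyoneda_exact₃ _ hT φ h0
    have hz : IsZero (RU.obj (K'⟦n⟧)) :=
      IsZero.of_iso ((shiftFunctor _ n).map_isZero hK'U) ((RU.commShiftIso n).app K')
    have hsub : Subsingleton (K'⟦n⟧ ⟶ (DCoh.Rpush U.ι).obj (RU.obj E)) :=
      (adj.homEquiv (K'⟦n⟧) (RU.obj E)).subsingleton_congr.1
        ⟨fun a b => hz.eq_of_src a b⟩
    rw [hv, Subsingleton.elim v 0]
    exact zero_comp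
  have hDV : IsZero (RV.obj D) := by
    apply hdet (RV.obj D) (isQCohD_restrictJ V.ι D hD)
    · rw [vanishOn_restrictD_iff]
      refine VanishOn.mono hDU ?_
      rintro _ ⟨x, hx, rfl⟩
      exact hx
    · intro n ψ
      let sadj := shriekAdj V
      let ψ' : (CxOX.extZeroD V.ι).obj (K⟦n⟧) ⟶ D := (sadj.homEquiv (K⟦n⟧) D).symm ψ
      have h1 : ((CxOX.extZeroD V.ι).commShiftIso n).inv.app K ≫ ψ' = 0 := hK'D n _
      have h2 : ψ' = 0 := by
        have h3 := congrArg (fun t => ((CxOX.extZeroD V.ι).commShiftIso n).hom.app K ≫ t) h1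
        simpa using h3
      have h4 : ψ = sadj.homEquiv (K⟦n⟧) D ψ' := by simp [ψ']
      rw [h4, h2, Adjunction.homEquiv_unit, Functor.map_zero]
      exact comp_zero
  have hD0 : IsZero D := by
    apply isZero_of_vanishOn_univ
    intro x _ n
    rcases hcov x with hx | hx
    · exact hDU x hx n
    · exact ((isZero_restrictD_iff_vanishOn V D).1 hDV) x hx n
  have hη : IsIso η := (Triangle.isZero₃_iff_isIso₁ _ hT).1 hD0
  have hEU0 : IsZero (RU.obj E) := by
    apply hQ₁.2 (RU.obj E) hEU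
    refine hom_retract_eq_zero (biprod.inl ≫ a₁.inv : Q₁ ⟶ RU.obj Q') (a₁.hom ≫ biprod.fst)
      (by simp) ?_
    intro n φ
    let θ : RU.obj (Q'⟦n⟧) ⟶ RU.obj E := (RU.commShiftIso n).hom.app Q' ≫ φ
    let g : Q'⟦n⟧ ⟶ (DCoh.Rpush U.ι).obj (RU.obj E) := adj.homEquiv _ _ θ
    have hg : g = 0 := by
      have h1 : g ≫ inv η = 0 := hφQ n _
      exact (cancel_mono (inv η)).1 (h1.trans zero_comp.symm)
    have hθ : θ = 0 := by
      have h2 : θ = (adj.homEquiv _ _).symm g := by simp [g]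
      rw [h2, hg, Adjunction.homEquiv_counit, Functor.map_zero]
      exact zero_comp
    have h3 : φ = (RU.commShiftIso n).inv.app Q' ≫ θ := by simp [θ]
    rw [h3, hθ]
    exact comp_zero
  have hη0 : (η : E ⟶ (DCoh.Rpush U.ι).obj (RU.obj E)) = 0 := by
    have hsub : Subsingleton (E ⟶ (DCoh.Rpush U.ι).obj (RU.obj E)) :=
      (adj.homEquiv E (RU.obj E)).subsingleton_congr.1 ⟨fun a b => hEU0.eq_of_src a b⟩
    exact Subsingleton.elim _ _
  obtain ⟨ι', hι'⟩ : ∃ ι' : (DCoh.Rpush U.ι).obj (RU.obj E) ⟶ E, η ≫ ι' = 𝟙 E :=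
    ⟨inv η, IsIso.hom_inv_id η⟩
  rw [IsZero.iff_id_eq_zero, ← hι', hη0]
  exact zero_comp

end Gen

section Main

variable (X : Scheme.{u})

/-- every quasi-compact open of a quasi-separated scheme carries a perfect generator -/
theorem exists_perfGen_opens [QuasiSeparatedSpace X] (T : X.Opens)
    (hT : IsCompact (T : Set X)) : ∃ Q : DCoh.D (T : Scheme.{u}), IsPerfGen Q := by
  refine compact_open_induction_on
    (P := fun T : X.Opens => ∃ Q : DCoh.D (T : Scheme.{u}), IsPerfGen Q) T hT ?_ ?_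
  · haveI : IsEmpty ↥((⊥ : X.Opens) : Scheme.{u}) := by
      constructor
      rintro ⟨x, hx⟩
      exact hx
    exact ⟨0, fun x => isEmptyElim x,
      fun E _ _ => isZero_of_vanishOn_univ E (fun x => isEmptyElim x)⟩
  · rintro S hS U ⟨Q, hQ⟩
    let T' : X.Opens := S ⊔ U.1
    let U' : (T' : Scheme.{u}).Opens := T'.ι ⁻¹ᵁ S
    let V' : (T' : Scheme.{u}).Opens := T'.ι ⁻¹ᵁ U.1
    haveI : QuasiSeparatedSpace ↥(T' : Scheme.{u}) :=
      QuasiSeparatedSpace.of_isOpenEmbedding T'.ι.isOpenEmbedding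
    have hUV : U' ⊔ V' = ⊤ := by
      ext x
      constructor
      · intro _
        trivial
      · intro _
        have hx : x.1 ∈ S ⊔ U.1 := x.2
        exact hx
    have hU' : IsCompact (U' : Set ↥(T' : Scheme.{u})) := by
      rw [T'.ι.isOpenEmbedding.isInducing.isCompact_iff]
      have : (fun x => T'.ι.base x) '' (U' : Set ↥(T' : Scheme.{u})) = (S : Set X) := by
        ext y
        constructor
        · rintro ⟨x, hx, rfl⟩
          exact hx
        · intro hy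
          exact ⟨⟨y, Or.inl hy⟩, hy, rfl⟩
      rw [this]
      exact hS
    have hV' : IsAffineOpen V' := by
      apply U.2.preimage_of_isOpenImmersion T'.ι
      rw [Scheme.Opens.opensRange_ι]
      exact le_sup_right
    let φ : (U' : Scheme.{u}) ≅ (S : Scheme.{u}) := Scheme.Opens.isoOfLE le_sup_left
    exact isPerfGen_mv U' V' hUV hU' hV' _ (IsPerfGen.of_iso φ Q hQ)

/-- **Bondal–van den Bergh**: `D_QCoh` of a quasi-compact quasi-separated scheme has a perfect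
generator -/
theorem exists_perfGen [CompactSpace X] [QuasiSeparatedSpace X] :
    ∃ Q : DCoh.D X, IsPerfGen Q := by
  obtain ⟨Q, hQ⟩ := exists_perfGen_opens X ⊤ isCompact_univ
  exact ⟨_, IsPerfGen.of_iso X.topIso.symm Q hQ⟩

end Main

end Groth.Agent.Lib.Helper5.BvdB
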