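import Mathlib
import Groth.Prelude.Def_DCoh3
import Groth.Agent.Lib.Helper5.BvdB.ExtMapSupp
import Groth.Agent.Lib.Helper5.BvdB.Retract
import Groth.Agent.Lib.Helper5.Stalk.RpushRes
import Groth.Agent.Lib.Helper5.MV.RpushTri

/-!
# `F ⊕ F[1]` extends, with supports (helper5)
-/
set_option autoImplicit false
set_option linter.unusedSectionVars false
set_option linter.unusedVariables false
universe u
open CategoryTheory CategoryTheory.Limits AlgebraicGeometry Pretriangulated TopologicalSpace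
attribute [local instance] HasDerivedCategory.standard

namespace Groth.Agent.Lib.Helper5.BvdB

open Groth.Agent.Lib.Helper5 Groth.Agent.Lib.Helper5.QC
  Groth.Agent.Lib.Helper5.TildePC Groth.Agent.Lib.Helper5.PerfTri
  Groth.Agent.Lib.Helper5.CountHom Groth.Agent.Lib.Helper5.HomVanish
  Groth.Agent.Helper5.DRingCone

section Iter

variable {R : Type u} [CommRing R]
variable {𝒟 : Type*} [Category 𝒟] [Preadditive 𝒟] [HasZeroObject 𝒟] [HasShift 𝒟 ℤ]
  [∀ n : ℤ, (shiftFunctor 𝒟 n).Additive] [Pretriangulated 𝒟]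

/-- the Koszul iteration: killing the elements of a list on a perfect complex, while keeping a
given object as a retract of its image under a triangulated functor on which sufficiently high
powers of these elements act by zero -/
theorem koszul_iter (Φ : Dual.D R ⥤ 𝒟) [Φ.CommShift ℤ] [Φ.IsTriangulated]
    (Z : 𝒟 → Prop)
    (hZ : ∀ T : Triangle 𝒟, T ∈ distTriang 𝒟 → Z T.obj₁ → Z T.obj₂ → Z T.obj₃)
    (F : 𝒟) (gs : List R)
    (hkill : ∀ C : Dual.D R, DRing.IsPerfect R C → Z (Φ.obj C) → ∀ g ∈ gs,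
      ∃ e : ℕ, Φ.map ((g ^ e) • 𝟙 C) = 0) :
    ∀ (C : Dual.D R), DRing.IsPerfect R C → Z (Φ.obj C) →
      (∃ (i : F ⟶ Φ.obj C) (p : Φ.obj C ⟶ F), i ≫ p = 𝟙 F) →
      ∃ C' : Dual.D R, DRing.IsPerfect R C' ∧ Z (Φ.obj C') ∧
        (∃ (i : F ⟶ Φ.obj C') (p : Φ.obj C' ⟶ F), i ≫ p = 𝟙 F) ∧
        ∀ g ∈ gs, ∃ a : ℕ, (g ^ a) • 𝟙 C' = 0 := by
  induction gs with
  | nil =>
    intro C hC hZC hret
    exact ⟨C, hC, hZC, hret, fun g hg => absurd hg (List.not_mem_nil)⟩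
  | cons g gs ih =>
    intro C hC hZC hret
    obtain ⟨C₁, hC₁, hZC₁, ⟨i, p, hip⟩, hann⟩ :=
      ih (fun C hC hZ g' hg' => hkill C hC hZ g' (List.mem_cons_of_mem _ hg')) C hC hZC hret
    obtain ⟨e, he⟩ := hkill C₁ hC₁ hZC₁ g List.mem_cons_self
    obtain ⟨C', ι', δ, hT⟩ := distinguished_cocone_triangle ((g ^ e) • 𝟙 C₁)
    have hC' : DRing.IsPerfect R C' := (perfect_two_of_three _ hT).1 hC₁ hC₁
    have hΦT := Φ.map_distinguished _ hT
    have hZC' : Z (Φ.obj C') := hZ _ hΦT hZC₁ hZC₁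
    have hrotΦ := rot_of_distTriang _ hΦT
    have hz : (Φ.mapTriangle.obj (Triangle.mk ((g ^ e) • 𝟙 C₁) ι' δ)).rotate.mor₃ = 0 := by
      show -((Φ.map ((g ^ e) • 𝟙 C₁))⟦(1 : ℤ)⟧') = 0
      rw [he, Functor.map_zero, neg_zero]
    obtain ⟨e₂, he₂, -⟩ := exists_iso_binaryBiproduct_of_distTriang _ hrotΦ hz
    have he₂' : Φ.map ι' ≫ e₂.hom = biprod.inl := he₂
    refine ⟨C', hC', hZC', ⟨i ≫ Φ.map ι', e₂.hom ≫ biprod.fst ≫ p, ?_⟩, ?_⟩
    · have key : (Φ.map ι' ≫ e₂.hom) ≫ biprod.fst = 𝟙 (Φ.obj C₁) := by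
        rw [he₂']
        exact biprod.inl_fst
      have h1 : (i ≫ Φ.map ι') ≫ e₂.hom ≫ biprod.fst ≫ p =
          i ≫ ((Φ.map ι' ≫ e₂.hom) ≫ biprod.fst) ≫ p := by simp only [Category.assoc]
      rw [h1, key]
      exact (by rw [Category.id_comp, hip] : i ≫ 𝟙 (Φ.obj C₁) ≫ p = 𝟙 F)
    · have hrot := rot_of_distTriang _ hT
      intro g' hg'
      rcases List.mem_cons.1 hg' with rfl | hg''
      · refine ⟨e + e, ?_⟩
        have h2 : ((g' ^ e) • 𝟙 C') ≫ δ = 0 := by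
          have h3 : δ ≫ ((g' ^ e) • 𝟙 C₁)⟦(1 : ℤ)⟧' = 0 := comp_distTriang_mor_zero₃₁ _ hT
          rw [Functor.map_smul, CategoryTheory.Functor.map_id, Linear.comp_smul,
            Category.comp_id] at h3
          rw [Linear.smul_comp, Category.id_comp]
          exact h3
        obtain ⟨θ, hθ⟩ : ∃ θ : C' ⟶ C₁, (g' ^ e) • 𝟙 C' = θ ≫ ι' :=
          Triangle.coyoneda_exact₃ _ hT _ h2
        have h4 : ((g' ^ e) • 𝟙 C₁) ≫ ι' = 0 := comp_distTriang_mor_zero₁₂ _ hT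
        have h5 : (g' ^ e) • ι' = 0 := by
          rw [Linear.smul_comp, Category.id_comp] at h4
          exact h4
        rw [pow_add, mul_smul, hθ, ← Linear.comp_smul, h5, comp_zero]
      · obtain ⟨a, ha⟩ := hann g' hg''
        refine ⟨a + a, ?_⟩
        have := smul_id_mid_eq_zero _ hrot (g' ^ a) (g' ^ a) ha
          (smul_id_shift_eq_zero C₁ (g' ^ a) ha 1)
        rw [pow_add]
        exact this

end Iter

section Spec

variable (R : CommRingCat.{u})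

attribute [local instance] HomVanish.hasRpush'

/-- on a quasi-compact open `U` of `Spec R`, a power of `g` kills the restriction of a perfect
complex which is supported, over `U`, away from an open containing `D(g)` -/
theorem kill_on_open (U : (Spec (CommRingCat.of R)).Opens)
    (hU : IsCompact (U : Set (Spec (CommRingCat.of R))))
    (V : (Spec (CommRingCat.of R)).Opens) (g : R)
    (hgV : (PrimeSpectrum.basicOpen g : Set (PrimeSpectrum R)) ⊆
      (V : Set (Spec (CommRingCat.of R))))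
    (C : Dual.D R) (hC : DRing.IsPerfect R C)
    (hCW : IsZero ((DCoh.restrictD (U.ι ⁻¹ᵁ V).ι).obj
      ((DCoh.restrictD U.ι).obj ((DCoh.tildeD R).obj C)))) :
    ∃ e : ℕ, (DCoh.restrictD U.ι).map ((DCoh.tildeD R).map ((g ^ e) • 𝟙 C)) = 0 := by
  haveI : CompactSpace ↥(U : Scheme.{u}) := isCompact_iff_compactSpace.mp hU
  let adj := resAdj U.ι
  let K := (DCoh.restrictD U.ι).obj ((DCoh.tildeD R).obj C)
  let N := (DCoh.Rpush U.ι).obj K
  have hCq : DCoh.IsQCohD ((DCoh.tildeD R).obj C) := ((tildeD_main R).2.2 _).2 ⟨C, ⟨Iso.refl _⟩⟩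
  have hN : DCoh.IsQCohD N := isQCohD_rpush U.ι K (isQCohD_restrictD U _ hCq)
  obtain ⟨M, ⟨eM⟩⟩ := ((tildeD_main R).2.2 N).1 hN
  haveI : (DCoh.tildeD R).Full := (tildeD_main R).1
  let η := adj.unit.app ((DCoh.tildeD R).obj C)
  obtain ⟨η₀, hη₀⟩ := (DCoh.tildeD R).map_surjective (η ≫ eM.inv)
  have hNV : IsZero ((DCoh.restrictD V.ι).obj N) := by
    haveI := Groth.Agent.Lib.Helper5.MV.additive_rpush (U.ι ∣_ V)
    exact IsZero.of_iso ((DCoh.Rpush (U.ι ∣_ V)).map_isZero hCW)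
      ((Groth.Agent.Lib.Helper5.RpushRes.rpushRestrictIso U.ι V).app K)
  have hM : PowTors g M := by
    apply powTors_of_vanishOn R M g
    refine VanishOn.mono (VanishOn.of_iso eM.symm ((isZero_restrictD_iff_vanishOn V N).1 hNV)) ?_
    intro x hx
    exact hgV hx
  obtain ⟨e, he⟩ := exists_pow_smul_eq_zero g C hC M hM η₀
  refine ⟨e, ?_⟩
  apply (adj.homEquiv _ _).injective
  have h3 : adj.homEquiv _ _ ((DCoh.restrictD U.ι).map ((DCoh.tildeD R).map ((g ^ e) • 𝟙 C))) =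
      (DCoh.tildeD R).map ((g ^ e) • 𝟙 C) ≫ η := by
    have := Adjunction.homEquiv_naturality_left adj ((DCoh.tildeD R).map ((g ^ e) • 𝟙 C))
      (𝟙 ((DCoh.restrictD U.ι).obj ((DCoh.tildeD R).obj C)))
    rw [Category.comp_id] at this
    rw [this, Adjunction.homEquiv_id]
  have h4 : adj.homEquiv ((DCoh.tildeD R).obj C) K 0 = 0 := by
    have := Adjunction.homEquiv_naturality_left adj (0 : (DCoh.tildeD R).obj C ⟶ _)
      (𝟙 ((DCoh.restrictD U.ι).obj ((DCoh.tildeD R).obj C)))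
    rw [Functor.map_zero, zero_comp, zero_comp] at this
    exact this
  rw [h3, h4]
  have h5 : η = (DCoh.tildeD R).map η₀ ≫ eM.hom := by rw [hη₀]; simp
  rw [h5, ← Category.assoc, ← Functor.map_comp, Linear.smul_comp, Category.id_comp, he,
    Functor.map_zero, zero_comp]

theorem isZero_map_biprod_shift {𝒞 𝒟 : Type*} [Category 𝒞] [Category 𝒟] [Preadditive 𝒞]
    [Preadditive 𝒟] [HasShift 𝒞 ℤ] [HasShift 𝒟 ℤ] [HasZeroObject 𝒟]
    [∀ n : ℤ, (shiftFunctor 𝒟 n).Additive] (G : 𝒞 ⥤ 𝒟) [G.Additive]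
    [G.CommShift ℤ] (F : 𝒞) [HasBinaryBiproduct F (F⟦(1 : ℤ)⟧)] (hz1 : IsZero (G.obj F)) :
    IsZero (G.obj (F ⊞ F⟦(1 : ℤ)⟧)) := by
  have hz2 : IsZero (G.obj (F⟦(1 : ℤ)⟧)) :=
    IsZero.of_iso ((shiftFunctor 𝒟 (1 : ℤ)).map_isZero hz1) ((G.commShiftIso (1 : ℤ)).app F)
  rw [IsZero.iff_id_eq_zero, ← G.map_id, ← biprod.total, G.map_add, G.map_comp, G.map_comp,
    hz1.eq_of_src (G.map biprod.inl) 0, hz2.eq_of_src (G.map biprod.inr) 0, comp_zero, comp_zero,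
    add_zero]

/-- **`F ⊕ F[1]` extends with supports**, on `Spec R` -/
theorem extend_sum_shift_supp_spec (U : (Spec (CommRingCat.of R)).Opens)
    (hU : IsCompact (U : Set (Spec (CommRingCat.of R))))
    (V : (Spec (CommRingCat.of R)).Opens)
    (hV : IsCompact (V : Set (Spec (CommRingCat.of R))))
    (F : DCoh.D (U : Scheme.{u})) (hF : DCoh.IsPerfect F)
    (hFV : VanishOn F ((U.ι ⁻¹ᵁ V : (U : Scheme.{u}).Opens) : Set ↥(U : Scheme.{u}))) :
    ∃ P : DCoh.D (Spec (CommRingCat.of R)), DCoh.IsPerfect P ∧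
      VanishOn P (V : Set (Spec (CommRingCat.of R))) ∧
      Nonempty ((DCoh.restrictD U.ι).obj P ≅ F ⊞ F⟦(1 : ℤ)⟧) := by
  classical
  obtain ⟨P, hP, ⟨e⟩⟩ := extend_sum_shift_spec R U hU F hF
  obtain ⟨P₀, ⟨eP⟩⟩ := ((tildeD_main R).2.2 P).1 (isQCohD_of_isPerfect P hP)
  have hP₀ : DRing.IsPerfect R P₀ := (isPerfect_tildeD_iff R P₀).1 (isPerfect_of_iso eP.symm hP)
  let VS : Set (PrimeSpectrum R) := V.1
  obtain ⟨gs, hgs⟩ := PrimeSpectrum.isCompact_isOpen_iff.1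
    (⟨hV, V.2⟩ : IsCompact VS ∧ IsOpen VS)
  have hmemV : ∀ x : PrimeSpectrum R, x ∈ VS ↔ ∃ g ∈ gs, g ∉ x.asIdeal := by
    intro x
    rw [← hgs, Set.mem_compl_iff, PrimeSpectrum.mem_zeroLocus, Set.not_subset]
    simp
  let W : (U : Scheme.{u}).Opens := U.ι ⁻¹ᵁ V
  let Φ : Dual.D R ⥤ DCoh.D (U : Scheme.{u}) := DCoh.tildeD R ⋙ DCoh.restrictD U.ι
  let Z : DCoh.D (U : Scheme.{u}) → Prop := fun K => IsZero ((DCoh.restrictD W.ι).obj K)
  have hZ : ∀ T : Triangle (DCoh.D (U : Scheme.{u})), T ∈ distTriang _ → Z T.obj₁ → Z T.obj₂ →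
      Z T.obj₃ := by
    intro T hT h1 h2
    have hT' := (DCoh.restrictD W.ι).map_distinguished _ hT
    exact (Triangle.isZero₃_iff_isIso₁ _ hT').2 (isIso_of_isZero' h1 h2 _)
  have hkill : ∀ C : Dual.D R, DRing.IsPerfect R C → Z (Φ.obj C) → ∀ g ∈ gs.toList,
      ∃ e : ℕ, Φ.map ((g ^ e) • 𝟙 C) = 0 := by
    intro C hC hZC g hg
    exact kill_on_open R U hU V g (fun x hx => (hmemV x).2 ⟨g, Finset.mem_toList.1 hg, hx⟩)
      C hC hZC
  have hZF : IsZero ((DCoh.restrictD W.ι).obj F) := (isZero_restrictD_iff_vanishOn W F).2 hFV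
  let e₀ : Φ.obj P₀ ≅ F ⊞ F⟦(1 : ℤ)⟧ := (DCoh.restrictD U.ι).mapIso eP ≪≫ e
  have hZP₀ : Z (Φ.obj P₀) :=
    IsZero.of_iso (isZero_map_biprod_shift (DCoh.restrictD W.ι) F hZF)
      ((DCoh.restrictD W.ι).mapIso e₀)
  obtain ⟨C', hC', hZC', ⟨i, p, hip⟩, hann⟩ := koszul_iter Φ Z hZ F gs.toList hkill P₀ hP₀ hZP₀
    ⟨biprod.inl ≫ e₀.inv, e₀.hom ≫ biprod.fst, by simp⟩
  let E : DCoh.D (Spec (CommRingCat.of R)) := (DCoh.tildeD R).obj C'
  have hE : DCoh.IsPerfect E := (isPerfect_tildeD_iff R C').2 hC'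
  have hEV : VanishOn E (V : Set (Spec (CommRingCat.of R))) := by
    apply vanishOn_tildeD R C'
    intro x hx
    obtain ⟨g, hg, hgx⟩ := (hmemV x).1 hx
    exact ⟨g, hgx, hann g (Finset.mem_toList.2 hg)⟩
  obtain ⟨C'', b, c, hT⟩ := distinguished_cocone_triangle p
  have hb : b = 0 := by
    have h0 : p ≫ b = 0 := comp_distTriang_mor_zero₁₂ _ hT
    rw [← Category.id_comp b, ← hip, Category.assoc, h0, comp_zero]
  obtain ⟨α, G, g, h, hTG, ⟨eG⟩⟩ := exists_cone_iso_biprod p b c hT hb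
  obtain ⟨E₁, β, γ, hE₁, hE₁V, hβ, hβγ⟩ := thomason_extension_supp U hU V E E hE
    (isQCohD_of_isPerfect E hE) hEV α
  obtain ⟨K, k₁, k₂, hTK⟩ := distinguished_cocone_triangle γ
  have hK : DCoh.IsPerfect K := isPerfect_obj₃ _ hTK hE₁ hE
  have hKV : VanishOn K (V : Set (Spec (CommRingCat.of R))) := by
    rw [← isZero_restrictD_iff_vanishOn]
    have hT' := (DCoh.restrictD V.ι).map_distinguished _ hTK
    exact (Triangle.isZero₃_iff_isIso₁ _ hT').2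
      (isIso_of_isZero' ((isZero_restrictD_iff_vanishOn V E₁).2 hE₁V)
        ((isZero_restrictD_iff_vanishOn V E).2 hEV) _)
  have hTKU := (DCoh.restrictD U.ι).map_distinguished _ hTK
  let iT := isoTriangleOfIso₁₂ _ _ hTKU hTG (@asIso _ _ _ _ _ hβ) (Iso.refl _) (by
    show (DCoh.restrictD U.ι).map γ ≫ 𝟙 _ = (DCoh.restrictD U.ι).map β ≫ α
    rw [Category.comp_id, hβγ])
  exact ⟨K, hK, hKV, ⟨Triangle.π₃.mapIso iT ≪≫ eG⟩⟩

end Spec

section Affine

variable {X : Scheme.{u}} [IsAffine X]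

/-- **`F ⊕ F[1]` extends with supports** from a quasi-compact open of an affine scheme -/
theorem extend_sum_shift_supp_affine (U : X.Opens) (hU : IsCompact (U : Set X))
    (V : X.Opens) (hV : IsCompact (V : Set X))
    (F : DCoh.D (U : Scheme.{u})) (hF : DCoh.IsPerfect F)
    (hFV : VanishOn F ((U.ι ⁻¹ᵁ V : (U : Scheme.{u}).Opens) : Set ↥(U : Scheme.{u}))) :
    ∃ P : DCoh.D X, DCoh.IsPerfect P ∧ VanishOn P (V : Set X) ∧
      Nonempty ((DCoh.restrictD U.ι).obj P ≅ F ⊞ F⟦(1 : ℤ)⟧) := by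
  obtain ⟨U', ψ, hU', hψ⟩ := affine_transport U hU
  have hψ' : ψ.hom ≫ U.ι = U'.ι ≫ X.isoSpec.inv := by
    have h1 : ψ.hom ≫ U.ι ≫ X.isoSpec.hom = U'.ι := by rw [hψ, Iso.hom_inv_id_assoc]
    rw [← h1, Category.assoc, Category.assoc, Iso.hom_inv_id, Category.comp_id]
  let V' : (Spec (CommRingCat.of Γ(X, ⊤))).Opens := X.isoSpec.inv ⁻¹ᵁ V
  have hV' : IsCompact (V' : Set (Spec (CommRingCat.of Γ(X, ⊤)))) := by
    have : (V' : Set (Spec (CommRingCat.of Γ(X, ⊤)))) =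
        (Scheme.homeoOfIso X.isoSpec.symm) ⁻¹' (V : Set X) := rfl
    rw [this, Homeomorph.isCompact_preimage]
    exact hV
  let F' : DCoh.D (U' : Scheme.{u}) := (DCoh.restrictD ψ.hom).obj F
  have hF' : DCoh.IsPerfect F' := isPerfect_restrictJ ψ.hom F hF
  have hF'V' : VanishOn F'
      ((U'.ι ⁻¹ᵁ V' : (U' : Scheme.{u}).Opens) : Set ↥(U' : Scheme.{u})) := by
    rw [vanishOn_restrictD_iff]
    refine VanishOn.mono hFV ?_
    rintro _ ⟨y, hy, rfl⟩
    show U.ι.base (ψ.hom.base y) ∈ V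
    have h2 : U.ι.base (ψ.hom.base y) = X.isoSpec.inv.base (U'.ι.base y) := by
      rw [← Scheme.Hom.comp_apply, ← Scheme.Hom.comp_apply, hψ']
    rw [h2]
    exact hy
  obtain ⟨P', hP', hP'V', ⟨e'⟩⟩ :=
    extend_sum_shift_supp_spec (CommRingCat.of Γ(X, ⊤)) U' hU' V' hV' F' hF' hF'V'
  let P : DCoh.D X := (DCoh.restrictD X.isoSpec.hom).obj P'
  refine ⟨P, isPerfect_restrictJ X.isoSpec.hom P' hP', ?_, ⟨?_⟩⟩
  · rw [vanishOn_restrictD_iff]
    refine VanishOn.mono hP'V' ?_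
    rintro _ ⟨x, hx, rfl⟩
    show X.isoSpec.inv.base (X.isoSpec.hom.base x) ∈ V
    have : X.isoSpec.inv.base (X.isoSpec.hom.base x) = x := by
      rw [← Scheme.Hom.comp_apply, X.isoSpec.hom_inv_id]
      rfl
    rw [this]
    exact hx
  · haveI : IsOpenImmersion (ψ.inv ≫ U'.ι) := inferInstance
    let G := DCoh.restrictD ψ.inv
    let u : F ≅ G.obj F' := (restrictDEquiv ψ).unitIso.app F
    haveI : PreservesBinaryBiproducts G := preservesBinaryBiproducts_of_preservesBiproducts G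
    exact (restrictDCompObjIso U.ι X.isoSpec.hom P').symm ≪≫ restrictDCongrObjIso hψ P' ≪≫
      restrictDCompObjIso ψ.inv U'.ι P' ≪≫ G.mapIso e' ≪≫ G.mapBiprod F' (F'⟦(1 : ℤ)⟧) ≪≫
      biprod.mapIso u.symm ((G.commShiftIso (1 : ℤ)).app F' ≪≫
        (shiftFunctor _ (1 : ℤ)).mapIso u.symm)

end Affine

end Groth.Agent.Lib.Helper5.BvdB
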