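import Mathlib
import Groth.Prelude.Def_DCoh3
import Groth.Agent.Lib.Helper5.BvdB.GenMV
import Groth.Agent.Lib.Helper5.BvdB.SuppSum
import Groth.Agent.Lib.Helper5.Perf.RpushOpen

/-!
# Perfect generators with supports (helper5)
-/
set_option autoImplicit false
set_option linter.unusedSectionVars false
set_option linter.unusedVariables false
universe u
open CategoryTheory CategoryTheory.Limits AlgebraicGeometry Pretriangulated TopologicalSpace
open scoped ZeroObject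
attribute [local instance] HasDerivedCategory.standard

namespace Groth.Agent.Lib.Helper5.BvdB

open Groth.Agent.Lib.Helper5 Groth.Agent.Lib.Helper5.QC
  Groth.Agent.Lib.Helper5.TildePC Groth.Agent.Lib.Helper5.PerfTri
  Groth.Agent.Lib.Helper5.CountHom Groth.Agent.Lib.Helper5.HomVanish

section VanishLemmas

variable {Y : Scheme.{u}}

theorem isZero_biprod' {C : Type*} [Category C] [Preadditive C] {A B : C} [HasBinaryBiproduct A B]
    (hA : IsZero A) (hB : IsZero B) : IsZero (A ⊞ B) := by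
  rw [IsZero.iff_id_eq_zero]
  apply biprod.hom_ext
  · exact hA.eq_of_tgt _ _
  · exact hB.eq_of_tgt _ _

theorem VanishOn.biprod {A B : DCoh.D Y} (Z : Y.Opens) (hA : VanishOn A (Z : Set Y))
    (hB : VanishOn B (Z : Set Y)) : VanishOn (A ⊞ B) (Z : Set Y) := by
  rw [← isZero_restrictD_iff_vanishOn] at hA hB ⊢
  let G := DCoh.restrictD Z.ι
  haveI : PreservesBinaryBiproducts G := preservesBinaryBiproducts_of_preservesBiproducts G
  exact IsZero.of_iso (isZero_biprod' hA hB) (G.mapBiprod A B)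

theorem VanishOn.shift {A : DCoh.D Y} (Z : Y.Opens) (hA : VanishOn A (Z : Set Y)) (n : ℤ) :
    VanishOn (A⟦n⟧) (Z : Set Y) := by
  rw [← isZero_restrictD_iff_vanishOn] at hA ⊢
  let G := DCoh.restrictD Z.ι
  exact IsZero.of_iso ((shiftFunctor _ n).map_isZero hA) ((G.commShiftIso n).app A)

theorem vanishOn_of_isZero {A : DCoh.D Y} (hA : IsZero A) (S : Set Y) : VanishOn A S :=
  VanishOn.mono ((isZero_restrictD_iff_vanishOn (⊤ : Y.Opens) A).1
    (Functor.map_isZero _ hA)) (fun x _ => trivial)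

end VanishLemmas

section Imm

variable {X A : Scheme.{u}} [IsAffine X]

/-- **`F ⊕ F[1]` extends with supports** along a quasi-compact open immersion into an affine
scheme -/
theorem extend_sum_shift_supp_affine_imm (j : A ⟶ X) [IsOpenImmersion j] [CompactSpace A]
    (Z : X.Opens) (hZ : IsCompact (Z : Set X))
    (F : DCoh.D A) (hF : DCoh.IsPerfect F)
    (hFZ : VanishOn F ((j ⁻¹ᵁ Z : A.Opens) : Set A)) :
    ∃ P : DCoh.D X, DCoh.IsPerfect P ∧ VanishOn P (Z : Set X) ∧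
      Nonempty ((DCoh.restrictD j).obj P ≅ F ⊞ F⟦(1 : ℤ)⟧) := by
  let U : X.Opens := j.opensRange
  let κ : A ≅ (U : Scheme.{u}) := j.isoOpensRange
  have hκ : κ.hom ≫ U.ι = j := j.isoOpensRange_hom_ι
  have hκ' : κ.inv ≫ j = U.ι := Scheme.Hom.isoOpensRange_inv_comp j
  have hU : IsCompact (U : Set X) := by
    show IsCompact (Set.range j.base)
    exact isCompact_range j.continuous
  let F₀ : DCoh.D (U : Scheme.{u}) := (DCoh.restrictD κ.inv).obj F
  have hF₀ : DCoh.IsPerfect F₀ := isPerfect_restrictJ κ.inv F hF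
  have hF₀Z : VanishOn F₀ ((U.ι ⁻¹ᵁ Z : (U : Scheme.{u}).Opens) : Set ↥(U : Scheme.{u})) := by
    rw [vanishOn_restrictD_iff]
    refine VanishOn.mono hFZ ?_
    rintro _ ⟨y, hy, rfl⟩
    show j.base (κ.inv.base y) ∈ Z
    have h1 : j.base (κ.inv.base y) = U.ι.base y := by
      rw [← Scheme.Hom.comp_apply, hκ']
    rw [h1]
    exact hy
  obtain ⟨P, hP, hPZ, ⟨e⟩⟩ := extend_sum_shift_supp_affine U hU Z hZ F₀ hF₀ hF₀Z
  refine ⟨P, hP, hPZ, ⟨?_⟩⟩
  haveI : IsOpenImmersion (κ.hom ≫ U.ι) := inferInstance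
  let G := DCoh.restrictD κ.hom
  let u : G.obj F₀ ≅ F := (restrictDEquiv κ).counitIso.app F
  haveI : PreservesBinaryBiproducts G := preservesBinaryBiproducts_of_preservesBiproducts G
  exact restrictDCongrObjIso hκ.symm P ≪≫ restrictDCompObjIso κ.hom U.ι P ≪≫ G.mapIso e ≪≫
    G.mapBiprod F₀ (F₀⟦(1 : ℤ)⟧) ≪≫
    biprod.mapIso u ((G.commShiftIso (1 : ℤ)).app F₀ ≪≫ (shiftFunctor _ (1 : ℤ)).mapIso u)

end Imm

section Gen

variable {Y : Scheme.{u}}

/-- a perfect generator of the objects of `D_QCoh(Y)` vanishing on `Z` -/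
def IsPerfGenOn (Z : Set Y) (P : DCoh.D Y) : Prop :=
  DCoh.IsPerfect P ∧ VanishOn P Z ∧ ∀ E : DCoh.D Y, DCoh.IsQCohD E → VanishOn E Z →
    (∀ (n : ℤ) (φ : P⟦n⟧ ⟶ E), φ = 0) → IsZero E

/-- transport along isomorphisms of schemes -/
theorem IsPerfGenOn.of_iso {X' : Scheme.{u}} (φ : Y ≅ X') (Z : Set X') (Q : DCoh.D X')
    (hQ : IsPerfGenOn Z Q) :
    IsPerfGenOn ((fun y => φ.hom.base y) ⁻¹' Z) ((DCoh.restrictD φ.hom).obj Q) := by
  let Eq := restrictDEquiv φ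
  let F := DCoh.restrictD φ.hom
  let G := DCoh.restrictD φ.inv
  have himg : ∀ x : X', φ.hom.base (φ.inv.base x) = x := by
    intro x
    rw [← Scheme.Hom.comp_apply, φ.inv_hom_id]
    rfl
  refine ⟨isPerfect_restrictJ φ.hom Q hQ.1, ?_, ?_⟩
  · rw [vanishOn_restrictD_iff]
    refine VanishOn.mono hQ.2.1 ?_
    rintro _ ⟨y, hy, rfl⟩
    exact hy
  intro E hE hEZ hφ
  have hGE : IsZero (G.obj E) := by
    apply hQ.2.2 (G.obj E) (isQCohD_restrictJ φ.inv E hE)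
    · rw [vanishOn_restrictD_iff]
      refine VanishOn.mono hEZ ?_
      rintro _ ⟨x, hx, rfl⟩
      show φ.hom.base (φ.inv.base x) ∈ Z
      rw [himg x]
      exact hx
    intro n ψ
    have h1 : (F.commShiftIso n).inv.app Q ≫ F.map ψ ≫ Eq.counitIso.hom.app E = 0 := hφ n _
    have h2 : F.map ψ = 0 := by
      have h3 : F.map ψ ≫ Eq.counitIso.hom.app E = 0 := by
        have h4 := congrArg (fun t => (F.commShiftIso n).hom.app Q ≫ t) h1
        simpa using h4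
      exact (cancel_mono (Eq.counitIso.hom.app E)).1 (h3.trans zero_comp.symm)
    apply F.map_injective
    rw [h2, Functor.map_zero]
  exact IsZero.of_iso (F.map_isZero hGE) (Eq.counitIso.app E).symm

attribute [local instance] preservesFiniteLimits_extZero
attribute [local instance] HomVanish.hasRpush'

/-- **the Mayer–Vietoris step for perfect generators with supports** -/
theorem isPerfGenOn_mv [QuasiSeparatedSpace Y] (U V : Y.Opens) (hUV : U ⊔ V = ⊤)
    (hU : IsCompact (U : Set Y)) (hV : IsAffineOpen V) (Z : Y.Opens)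
    (hZ : IsCompact (Z : Set Y))
    (Q₁ : DCoh.D (U : Scheme.{u}))
    (hQ₁ : IsPerfGenOn ((U.ι ⁻¹ᵁ Z : (U : Scheme.{u}).Opens) : Set ↥(U : Scheme.{u})) Q₁) :
    ∃ G : DCoh.D Y, IsPerfGenOn (Z : Set Y) G := by
  haveI : IsAffine (V : Scheme.{u}) := hV
  haveI : CompactSpace ↥(U : Scheme.{u}) := isCompact_iff_compactSpace.mp hU
  have hW : IsCompact ((U ⊓ V : Y.Opens) : Set Y) :=
    QuasiSeparatedSpace.inter_isCompact _ _ U.isOpen hU V.isOpen hV.isCompact
  have hZV0 : IsCompact ((Z ⊓ V : Y.Opens) : Set Y) :=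
    QuasiSeparatedSpace.inter_isCompact _ _ Z.isOpen hZ V.isOpen hV.isCompact
  haveI : CompactSpace ↥((U ⊓ V : Y.Opens) : Scheme.{u}) := isCompact_iff_compactSpace.mp hW
  let jU := Y.homOfLE (inf_le_left : U ⊓ V ≤ U)
  let jV := Y.homOfLE (inf_le_right : U ⊓ V ≤ V)
  have hjU : jU ≫ U.ι = (U ⊓ V).ι := Y.homOfLE_ι _
  have hjV : jV ≫ V.ι = (U ⊓ V).ι := Y.homOfLE_ι _
  let ZU : (U : Scheme.{u}).Opens := U.ι ⁻¹ᵁ Z
  let ZV : (V : Scheme.{u}).Opens := V.ι ⁻¹ᵁ Z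
  have hcomp : ∀ (O : Y.Opens), IsCompact ((O ⊓ V : Y.Opens) : Set Y) →
      IsCompact ((V.ι ⁻¹ᵁ O : (V : Scheme.{u}).Opens) : Set ↥(V : Scheme.{u})) := by
    intro O hO
    rw [V.ι.isOpenEmbedding.isInducing.isCompact_iff]
    have : (fun x => V.ι.base x) '' ((V.ι ⁻¹ᵁ O : (V : Scheme.{u}).Opens) :
        Set ↥(V : Scheme.{u})) = ((O ⊓ V : Y.Opens) : Set Y) := by
      ext y
      constructor
      · rintro ⟨x, hx, rfl⟩
        exact ⟨hx, x.2⟩
      · rintro ⟨hyU, hyV⟩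
        exact ⟨⟨y, hyV⟩, hyU, rfl⟩
    rw [this]
    exact hO
  have hZV : IsCompact (ZV : Set ↥(V : Scheme.{u})) := hcomp Z hZV0
  let GU := DCoh.restrictD jU
  let F := GU.obj Q₁
  have hF : DCoh.IsPerfect F := isPerfect_restrictJ jU Q₁ hQ₁.1
  have hFZ : VanishOn F ((jV ⁻¹ᵁ ZV : ((U ⊓ V : Y.Opens) : Scheme.{u}).Opens) :
      Set ↥((U ⊓ V : Y.Opens) : Scheme.{u})) := by
    rw [vanishOn_restrictD_iff]
    refine VanishOn.mono hQ₁.2.1 ?_
    rintro _ ⟨x, hx, rfl⟩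
    show U.ι.base (jU.base x) ∈ Z
    have h1 : U.ι.base (jU.base x) = V.ι.base (jV.base x) := by
      rw [← Scheme.Hom.comp_apply, ← Scheme.Hom.comp_apply, hjU, hjV]
    rw [h1]
    exact hx
  obtain ⟨P₂, hP₂, hP₂Z, ⟨e₂⟩⟩ := extend_sum_shift_supp_affine_imm jV ZV hZV F hF hFZ
  let A := Q₁ ⊞ Q₁⟦(1 : ℤ)⟧
  have hA : DCoh.IsPerfect A := isPerfect_biprod _ _ hQ₁.1 (isPerfect_shift hQ₁.1 1)
  have hAZ : VanishOn A (ZU : Set ↥(U : Scheme.{u})) :=
    VanishOn.biprod ZU hQ₁.2.1 (VanishOn.shift ZU hQ₁.2.1 1)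
  haveI : PreservesBinaryBiproducts GU := preservesBinaryBiproducts_of_preservesBiproducts GU
  let c : GU.obj A ≅ (DCoh.restrictD jV).obj P₂ :=
    GU.mapBiprod Q₁ (Q₁⟦(1 : ℤ)⟧) ≪≫
      biprod.mapIso (Iso.refl F) ((GU.commShiftIso (1 : ℤ)).app Q₁) ≪≫ e₂.symm
  obtain ⟨Q', ⟨a₁⟩, ⟨a₂⟩⟩ := Groth.Agent.Lib.Helper5.MV.exists_glue' U V A P₂ c
  have hcov : ∀ x : Y, x ∈ U ∨ x ∈ V := by
    intro x
    have : x ∈ (U ⊔ V : Y.Opens) := by rw [hUV]; trivial
    exact this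
  have hQ' : DCoh.IsPerfect Q' := by
    apply isPerfect_of_restrict_cover
    intro x
    rcases hcov x with hx | hx
    · exact ⟨U, hx, isPerfect_of_iso a₁.symm hA⟩
    · exact ⟨V, hx, isPerfect_of_iso a₂.symm hP₂⟩
  -- vanishing on `Z` can be checked on `U` and on `V`
  have hvan : ∀ M : DCoh.D Y, VanishOn ((DCoh.restrictD U.ι).obj M) (ZU : Set ↥(U : Scheme.{u})) →
      VanishOn ((DCoh.restrictD V.ι).obj M) (ZV : Set ↥(V : Scheme.{u})) →
      VanishOn M (Z : Set Y) := by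
    intro M h1 h2 x hxZ n
    rcases hcov x with hx | hx
    · exact ((vanishOn_restrictD_iff U.ι M _).1 h1) x ⟨⟨x, hx⟩, hxZ, rfl⟩ n
    · exact ((vanishOn_restrictD_iff V.ι M _).1 h2) x ⟨⟨x, hx⟩, hxZ, rfl⟩ n
  have hQ'Z : VanishOn Q' (Z : Set Y) :=
    hvan Q' (VanishOn.of_iso a₁.symm hAZ) (VanishOn.of_iso a₂.symm hP₂Z)
  -- the Koszul object supported on `V \ (U ∪ Z)`
  let SU : (V : Scheme.{u}).Opens := V.ι ⁻¹ᵁ U
  let S : (V : Scheme.{u}).Opens := SU ⊔ ZV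
  have hS : IsCompact (S : Set ↥(V : Scheme.{u})) := by
    have h1 : (S : Set ↥(V : Scheme.{u})) = (SU : Set ↥(V : Scheme.{u})) ∪ (ZV : Set _) :=
      Opens.coe_sup SU ZV
    rw [h1]
    exact (hcomp U hW).union hZV
  obtain ⟨K, hK, hKS, hdet⟩ := exists_koszul_affine S hS
  have hKSU : VanishOn K (SU : Set ↥(V : Scheme.{u})) :=
    VanishOn.mono hKS (fun x hx => Or.inl hx)
  have hKZV : VanishOn K (ZV : Set ↥(V : Scheme.{u})) :=
    VanishOn.mono hKS (fun x hx => Or.inr hx)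
  let K' := (CxOX.extZeroD V.ι).obj K
  have hK'U : IsZero ((DCoh.restrictD U.ι).obj K') := isZero_restrictD_extZeroD U V K hKSU
  let eK : (DCoh.restrictD V.ι).obj K' ≅ K := (asIso ((shriekAdj V).unit.app K)).symm
  have hK' : DCoh.IsPerfect K' := by
    apply isPerfect_of_restrict_cover
    intro x
    rcases hcov x with hx | hx
    · exact ⟨U, hx, isPerfect_of_isZero _ hK'U⟩
    · exact ⟨V, hx, isPerfect_of_iso eK.symm hK⟩
  have hK'Z : VanishOn K' (Z : Set Y) := by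
    apply hvan K'
    · exact vanishOn_of_isZero hK'U _
    · exact VanishOn.of_iso eK.symm hKZV
  refine ⟨Q' ⊞ K', isPerfect_biprod _ _ hQ' hK', VanishOn.biprod Z hQ'Z hK'Z, ?_⟩
  intro E hE hEZ hφ
  have hφQ : ∀ (n : ℤ) (φ : Q'⟦n⟧ ⟶ E), φ = 0 :=
    hom_retract_eq_zero (biprod.inl : Q' ⟶ Q' ⊞ K') biprod.fst biprod.inl_fst hφ
  have hφK : ∀ (n : ℤ) (φ : K'⟦n⟧ ⟶ E), φ = 0 :=
    hom_retract_eq_zero (biprod.inr : K' ⟶ Q' ⊞ K') biprod.snd biprod.inr_snd hφ
  let adj := resAdj U.ι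
  let RU := DCoh.restrictD U.ι
  let RV := DCoh.restrictD V.ι
  let η : E ⟶ (DCoh.Rpush U.ι).obj (RU.obj E) := adj.unit.app E
  obtain ⟨D, π, δ, hT⟩ := distinguished_cocone_triangle η
  have hEU : DCoh.IsQCohD (RU.obj E) := isQCohD_restrictJ U.ι E hE
  have hEUZ : VanishOn (RU.obj E) (ZU : Set ↥(U : Scheme.{u})) := by
    rw [vanishOn_restrictD_iff]
    refine VanishOn.mono hEZ ?_
    rintro _ ⟨x, hx, rfl⟩
    exact hx
  have hD : DCoh.IsQCohD D := isQCohD_of_triangle_right _ hT hE (isQCohD_rpush U.ι _ hEU)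
  have hηU : IsIso (RU.map η) := by
    have h1 : RU.map η ≫ adj.counit.app (RU.obj E) = 𝟙 _ := adj.left_triangle_components E
    have h2 : IsIso (RU.map η ≫ adj.counit.app (RU.obj E)) := by
      rw [h1]
      infer_instance
    exact IsIso.of_isIso_comp_right _ (adj.counit.app (RU.obj E))
  have hDU : VanishOn D (U : Set Y) := by
    rw [← isZero_restrictD_iff_vanishOn]
    exact (Triangle.isZero₃_iff_isIso₁ _ (RU.map_distinguished _ hT)).2 hηU
  have hDZ : VanishOn D (Z : Set Y) := by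
    rw [← isZero_restrictD_iff_vanishOn]
    have h1 : IsZero ((DCoh.restrictD Z.ι).obj E) := (isZero_restrictD_iff_vanishOn Z E).2 hEZ
    have h2 : IsZero ((DCoh.restrictD Z.ι).obj ((DCoh.Rpush U.ι).obj (RU.obj E))) :=
      Groth.Agent.Lib.Helper5.RpushOpen.isZero_restrictD_rpush U.ι Z (RU.obj E)
        (fun k x hx => hEUZ x hx k)
    have h3 : IsIso ((DCoh.restrictD Z.ι).map η) := isIso_of_isZero' h1 h2 _
    exact (Triangle.isZero₃_iff_isIso₁ _ ((DCoh.restrictD Z.ι).map_distinguished _ hT)).2 h3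
  -- maps from shifts of `K'` to `D` vanish
  have hK'D : ∀ (n : ℤ) (φ : K'⟦n⟧ ⟶ D), φ = 0 := by
    intro n φ
    have h0 : φ ≫ δ = 0 := hom_shift_eq_zero K' E hφK n 1 (φ ≫ δ)
    obtain ⟨v, hv⟩ : ∃ v : K'⟦n⟧ ⟶ (DCoh.Rpush U.ι).obj (RU.obj E), φ = v ≫ π :=
      Triangle.coyoneda_exact₃ _ hT φ h0
    have hz : IsZero (RU.obj (K'⟦n⟧)) :=
      IsZero.of_iso ((shiftFunctor _ n).map_isZero hK'U) ((RU.commShiftIso n).app K')
    have hsub : Subsingleton (K'⟦n⟧ ⟶ (DCoh.Rpush U.ι).obj (RU.obj E)) :=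
      (adj.homEquiv (K'⟦n⟧) (RU.obj E)).subsingleton_congr.1
        ⟨fun a b => hz.eq_of_src a b⟩
    rw [hv, Subsingleton.elim v 0]
    exact zero_comp
  have hDV : IsZero (RV.obj D) := by
    apply hdet (RV.obj D) (isQCohD_restrictJ V.ι D hD)
    · rw [vanishOn_restrictD_iff]
      intro y hy n
      obtain ⟨x, hx, rfl⟩ := hy
      rcases hx with hx | hx
      · exact hDU _ hx n
      · exact hDZ _ hx n
    · intro n ψ
      let sadj := shriekAdj V
      let ψ' : (CxOX.extZeroD V.ι).obj (K⟦n⟧) ⟶ D := (sadj.homEquiv (K⟦n⟧) D).symm ψ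
      have h1 : ((CxOX.extZeroD V.ι).commShiftIso n).inv.app K ≫ ψ' = 0 := hK'D n _
      have h2 : ψ' = 0 := by
        have h3 := congrArg (fun t => ((CxOX.extZeroD V.ι).commShiftIso n).hom.app K ≫ t) h1
        simpa using h3
      have h4 : ψ = sadj.homEquiv (K⟦n⟧) D ψ' := by simp [ψ']
      rw [h4, h2, Adjunction.homEquiv_unit, Functor.map_zero]
      exact comp_zero
  have hD0 : IsZero D := by
    apply isZero_of_vanishOn_univ
    intro x _ n
    rcases hcov x with hx | hx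
    · exact hDU x hx n
    · exact ((isZero_restrictD_iff_vanishOn V D).1 hDV) x hx n
  have hη : IsIso η := (Triangle.isZero₃_iff_isIso₁ _ hT).1 hD0
  have hEU0 : IsZero (RU.obj E) := by
    apply hQ₁.2.2 (RU.obj E) hEU hEUZ
    refine hom_retract_eq_zero (biprod.inl ≫ a₁.inv : Q₁ ⟶ RU.obj Q') (a₁.hom ≫ biprod.fst)
      (by simp) ?_
    intro n φ
    let θ : RU.obj (Q'⟦n⟧) ⟶ RU.obj E := (RU.commShiftIso n).hom.app Q' ≫ φ
    let g : Q'⟦n⟧ ⟶ (DCoh.Rpush U.ι).obj (RU.obj E) := adj.homEquiv _ _ θ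
    have hg : g = 0 := by
      have h1 : g ≫ inv η = 0 := hφQ n _
      exact (cancel_mono (inv η)).1 (h1.trans zero_comp.symm)
    have hθ : θ = 0 := by
      have h2 : θ = (adj.homEquiv _ _).symm g := by simp [g]
      rw [h2, hg, Adjunction.homEquiv_counit, Functor.map_zero]
      exact zero_comp
    have h3 : φ = (RU.commShiftIso n).inv.app Q' ≫ θ := by simp [θ]
    rw [h3, hθ]
    exact comp_zero
  have hη0 : (η : E ⟶ (DCoh.Rpush U.ι).obj (RU.obj E)) = 0 := by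
    have hsub : Subsingleton (E ⟶ (DCoh.Rpush U.ι).obj (RU.obj E)) :=
      (adj.homEquiv E (RU.obj E)).subsingleton_congr.1 ⟨fun a b => hEU0.eq_of_src a b⟩
    exact Subsingleton.elim _ _
  obtain ⟨ι', hι'⟩ : ∃ ι' : (DCoh.Rpush U.ι).obj (RU.obj E) ⟶ E, η ≫ ι' = 𝟙 E :=
    ⟨inv η, IsIso.hom_inv_id η⟩
  rw [IsZero.iff_id_eq_zero, ← hι', hη0]
  exact zero_comp

end Gen

section Main

variable (X : Scheme.{u})

/-- every quasi-compact open of a quasi-separated scheme carries a perfect generator with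
supports -/
theorem exists_perfGenOn_opens [QuasiSeparatedSpace X] (Z : X.Opens)
    (hZ : IsCompact (Z : Set X)) (T : X.Opens) (hT : IsCompact (T : Set X)) :
    ∃ Q : DCoh.D (T : Scheme.{u}),
      IsPerfGenOn ((T.ι ⁻¹ᵁ Z : (T : Scheme.{u}).Opens) : Set ↥(T : Scheme.{u})) Q := by
  refine compact_open_induction_on
    (P := fun T : X.Opens => ∃ Q : DCoh.D (T : Scheme.{u}),
      IsPerfGenOn ((T.ι ⁻¹ᵁ Z : (T : Scheme.{u}).Opens) : Set ↥(T : Scheme.{u})) Q) T hT ?_ ?_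
  · haveI : IsEmpty ↥((⊥ : X.Opens) : Scheme.{u}) := by
      constructor
      rintro ⟨x, hx⟩
      exact hx
    exact ⟨0, fun x => isEmptyElim x, fun x => isEmptyElim x,
      fun E _ _ _ => isZero_of_vanishOn_univ E (fun x => isEmptyElim x)⟩
  · rintro S hS U ⟨Q, hQ⟩
    let T' : X.Opens := S ⊔ U.1
    let U' : (T' : Scheme.{u}).Opens := T'.ι ⁻¹ᵁ S
    let V' : (T' : Scheme.{u}).Opens := T'.ι ⁻¹ᵁ U.1
    let Z' : (T' : Scheme.{u}).Opens := T'.ι ⁻¹ᵁ Z
    haveI : QuasiSeparatedSpace ↥(T' : Scheme.{u}) :=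
      QuasiSeparatedSpace.of_isOpenEmbedding T'.ι.isOpenEmbedding
    have hUV : U' ⊔ V' = ⊤ := by
      ext x
      constructor
      · intro _
        trivial
      · intro _
        have hx : x.1 ∈ S ⊔ U.1 := x.2
        exact hx
    have hT' : IsCompact (T' : Set X) := by
      have h1 : (T' : Set X) = (S : Set X) ∪ (U.1 : Set X) := Opens.coe_sup S U.1
      rw [h1]
      exact hS.union U.2.isCompact
    have hpre : ∀ O : X.Opens, IsCompact ((O ⊓ T' : X.Opens) : Set X) →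
        IsCompact ((T'.ι ⁻¹ᵁ O : (T' : Scheme.{u}).Opens) : Set ↥(T' : Scheme.{u})) := by
      intro O hO
      rw [T'.ι.isOpenEmbedding.isInducing.isCompact_iff]
      have : (fun x => T'.ι.base x) '' ((T'.ι ⁻¹ᵁ O : (T' : Scheme.{u}).Opens) :
          Set ↥(T' : Scheme.{u})) = ((O ⊓ T' : X.Opens) : Set X) := by
        ext y
        constructor
        · rintro ⟨x, hx, rfl⟩
          exact ⟨hx, x.2⟩
        · rintro ⟨hyO, hyT⟩
          exact ⟨⟨y, hyT⟩, hyO, rfl⟩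
      rw [this]
      exact hO
    have hU' : IsCompact (U' : Set ↥(T' : Scheme.{u})) := by
      apply hpre S
      have h1 : S ⊓ T' = S := inf_eq_left.2 le_sup_left
      rw [h1]
      exact hS
    have hZ' : IsCompact (Z' : Set ↥(T' : Scheme.{u})) :=
      hpre Z (QuasiSeparatedSpace.inter_isCompact _ _ Z.isOpen hZ T'.isOpen hT')
    have hV' : IsAffineOpen V' := by
      apply U.2.preimage_of_isOpenImmersion T'.ι
      rw [Scheme.Opens.opensRange_ι]
      exact le_sup_right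
    let φ : (U' : Scheme.{u}) ≅ (S : Scheme.{u}) := Scheme.Opens.isoOfLE le_sup_left
    have hφ : φ.hom ≫ S.ι = U'.ι ≫ T'.ι := Scheme.Opens.isoOfLE_hom_ι le_sup_left
    have hgen := IsPerfGenOn.of_iso φ _ Q hQ
    have hset : (fun y => φ.hom.base y) ⁻¹'
        ((S.ι ⁻¹ᵁ Z : (S : Scheme.{u}).Opens) : Set ↥(S : Scheme.{u})) =
        ((U'.ι ⁻¹ᵁ Z' : (U' : Scheme.{u}).Opens) : Set ↥(U' : Scheme.{u})) := by
      ext x
      show S.ι.base (φ.hom.base x) ∈ Z ↔ T'.ι.base (U'.ι.base x) ∈ Z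
      rw [← Scheme.Hom.comp_apply, ← Scheme.Hom.comp_apply, hφ]
    rw [hset] at hgen
    exact isPerfGenOn_mv U' V' hUV hU' hV' Z' hZ' _ hgen

/-- **perfect generator with supports** on a quasi-compact quasi-separated scheme -/
theorem exists_perfGenOn [CompactSpace X] [QuasiSeparatedSpace X] (Z : X.Opens)
    (hZ : IsCompact (Z : Set X)) : ∃ Q : DCoh.D X, IsPerfGenOn (Z : Set X) Q := by
  obtain ⟨Q, hQ⟩ := exists_perfGenOn_opens X Z hZ ⊤ isCompact_univ
  have hgen := IsPerfGenOn.of_iso X.topIso.symm _ Q hQ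
  have hset : (fun y => X.topIso.symm.hom.base y) ⁻¹'
      (((⊤ : X.Opens).ι ⁻¹ᵁ Z : ((⊤ : X.Opens) : Scheme.{u}).Opens) :
        Set ↥((⊤ : X.Opens) : Scheme.{u})) = (Z : Set X) := by
    ext x
    show (⊤ : X.Opens).ι.base (X.topIso.inv.base x) ∈ Z ↔ x ∈ Z
    rw [← Scheme.Hom.comp_apply, Scheme.toIso_inv_ι]
    rfl
  rw [hset] at hgen
  exact ⟨_, hgen⟩

end Main

end Groth.Agent.Lib.Helper5.BvdB
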