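import Mathlib
import Groth.Prelude.Def_DCoh3
import Groth.Agent.Lib.Helper5.BvdB.CptPerf
import Groth.Agent.Lib.Helper5.BvdB.ShriekCpt
import Groth.Agent.Lib.Helper5.BvdB.GenSupp

/-!
# Compact objects of `D_QCoh` with supports are perfect (helper5)
-/
set_option autoImplicit false
set_option linter.unusedSectionVars false
set_option linter.unusedVariables false
universe u
open CategoryTheory CategoryTheory.Limits AlgebraicGeometry Pretriangulated TopologicalSpace
open scoped ZeroObject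
attribute [local instance] HasDerivedCategory.standard

namespace Groth.Agent.Lib.Helper5.BvdB

open Groth.Agent.Lib.Helper5 Groth.Agent.Lib.Helper5.QC
  Groth.Agent.Lib.Helper5.TildePC Groth.Agent.Lib.Helper5.PerfTri
  Groth.Agent.Lib.Helper5.CountHom Groth.Agent.Lib.Helper5.HomVanish

section General

variable {D : Type*} [Category D] [Preadditive D] [HasZeroObject D] [HasShift D ℤ]
  [∀ n : ℤ, (shiftFunctor D n).Additive] [Pretriangulated D]

/-- the coproduct of given fibres of a family of maps is a weak kernel of the coproduct map -/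
lemma sigma_weak_kernel' {J : Type*} [HasColimitsOfShape (Discrete J) D] {A B C : J → D}
    (w : ∀ j, C j ⟶ A j) (u : ∀ j, A j ⟶ B j) (h : ∀ j, B j ⟶ (C j)⟦(1 : ℤ)⟧)
    (hT : ∀ j, Triangle.mk (w j) (u j) (h j) ∈ distTriang D)
    {P : D} (α : P ⟶ ∐ A) (hα : α ≫ Limits.Sigma.map u = 0) :
    ∃ α' : P ⟶ ∐ C, α = α' ≫ Limits.Sigma.map w := by
  obtain ⟨Z, f₂, f₃, hT'⟩ := distinguished_cocone_triangle (Limits.Sigma.map w)
  have hψ : ∀ j, ∃ ψ : B j ⟶ Z, u j ≫ ψ = Sigma.ι A j ≫ f₂ := by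
    intro j
    obtain ⟨ψ, hψ, -⟩ := Pretriangulated.complete_distinguished_triangle_morphism _ _ (hT j) hT'
      (Sigma.ι C j) (Sigma.ι A j) (by exact (Sigma.ι_map w j).symm)
    exact ⟨ψ, hψ⟩
  choose ψ hψ using hψ
  have h1 : Limits.Sigma.map u ≫ Sigma.desc ψ = f₂ := by
    apply Sigma.hom_ext
    intro j
    simp [hψ]
  have h2 : α ≫ f₂ = 0 := by
    rw [← h1, ← Category.assoc, hα, zero_comp]
  obtain ⟨α', hα'⟩ := Triangle.coyoneda_exact₂ _ hT' α h2
  exact ⟨α', hα'⟩

lemma WeakCptRel.mono {Pr Pr' : D → Prop} (hPr : ∀ Y, Pr' Y → Pr Y) {K : D}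
    (hK : WeakCptRel.{u} Pr K) : WeakCptRel.{u} Pr' K :=
  fun κ E W ι hc hE g => hK κ E W ι hc (fun k => hPr _ (hE k)) g

end General

section Supp

variable {X : Scheme.{u}}

attribute [local instance] HomVanish.hasRpush'

/-- **an object vanishing on a quasi-compact open `Z` which is compact relative to the objects of
`D_QCoh` vanishing on `Z` is compact relative to `D_QCoh`** -/
theorem weakCptRel_of_supp [QuasiSeparatedSpace X] (Z : X.Opens)
    (hZ : IsCompact (Z : Set X)) (K : DCoh.D X) (hKZ : VanishOn K (Z : Set X))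
    (h : WeakCptRel.{u} (fun L : DCoh.D X => DCoh.IsQCohD L ∧ VanishOn L (Z : Set X)) K) :
    WeakCptRel.{u} (DCoh.IsQCohD (X := X)) K := by
  intro κ E W ι hc hE g
  haveI : CompactSpace ↥(Z : Scheme.{u}) := isCompact_iff_compactSpace.mp hZ
  have : HasCoproduct E := ⟨⟨⟨_, hc⟩⟩⟩
  let e : ∐ E ≅ W := (colimit.isColimit _).coconePointUniqueUpToIso hc
  have he : ∀ k, Sigma.ι E k ≫ e.hom = ι k := fun k =>
    IsColimit.comp_coconePointUniqueUpToIso_hom (colimit.isColimit _) hc ⟨k⟩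
  let adj := resAdj Z.ι
  let RZ := DCoh.restrictD Z.ι
  let Rk := DCoh.Rpush Z.ι
  let M : κ → DCoh.D (Z : Scheme.{u}) := fun j => RZ.obj (E j)
  let R : κ → DCoh.D X := fun j => Rk.obj (M j)
  let η : ∀ j, E j ⟶ R j := fun j => adj.unit.app (E j)
  have hM : ∀ j, DCoh.IsQCohD (M j) := fun j => isQCohD_restrictJ Z.ι (E j) (hE j)
  have hR : ∀ j, DCoh.IsQCohD (R j) := fun j => isQCohD_rpush Z.ι _ (hM j)
  choose Γ w δ hT using fun j => distinguished_cocone_triangle₁ (η j)
  have hΓ : ∀ j, DCoh.IsQCohD (Γ j) ∧ VanishOn (Γ j) (Z : Set X) := by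
    intro j
    refine ⟨isQCohD_of_triangle_left _ (hT j) (hE j) (hR j), ?_⟩
    rw [← isZero_restrictD_iff_vanishOn]
    have hηZ : IsIso (RZ.map (η j)) := by
      have h1 : RZ.map (η j) ≫ adj.counit.app (RZ.obj (E j)) = 𝟙 _ :=
        adj.left_triangle_components (E j)
      have h2 : IsIso (RZ.map (η j) ≫ adj.counit.app (RZ.obj (E j))) := by
        rw [h1]
        infer_instance
      exact IsIso.of_isIso_comp_right _ (adj.counit.app (RZ.obj (E j)))
    exact (Triangle.isZero₁_iff_isIso₂ _ (RZ.map_distinguished _ (hT j))).2 hηZ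
  -- maps from `K` to the coproduct of the `R j` vanish
  have hKR : ∀ φ : K ⟶ ∐ R, φ = 0 := by
    intro φ
    obtain ⟨hc'⟩ := presCoprodRel_rpush Z.ι κ M (∐ M) (Sigma.ι M) (coproductIsCoproduct M) hM
    let e' : ∐ R ≅ Rk.obj (∐ M) := (colimit.isColimit _).coconePointUniqueUpToIso hc'
    have hz : IsZero (RZ.obj K) := (isZero_restrictD_iff_vanishOn Z K).2 hKZ
    have hsub : Subsingleton (K ⟶ Rk.obj (∐ M)) :=
      (adj.homEquiv K (∐ M)).subsingleton_congr.1 ⟨fun a b => hz.eq_of_src a b⟩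
    have h1 : φ ≫ e'.hom = 0 := Subsingleton.elim _ _
    have h2 : (φ ≫ e'.hom) ≫ e'.inv = 0 := by rw [h1, zero_comp]
    simpa using h2
  obtain ⟨α', hα'⟩ := sigma_weak_kernel' w η δ hT (g ≫ e.inv) (hKR _)
  obtain ⟨S, x, hx⟩ := h κ Γ (∐ Γ) (Sigma.ι Γ) (coproductIsCoproduct Γ) hΓ α'
  refine ⟨S, fun j => x j ≫ w j, ?_⟩
  have h3 : g = (g ≫ e.inv) ≫ e.hom := by rw [Category.assoc, e.inv_hom_id, Category.comp_id]
  rw [h3, hα', hx, Preadditive.sum_comp, Preadditive.sum_comp]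
  apply Finset.sum_congr rfl
  intro j _
  rw [Category.assoc, Category.assoc, Sigma.ι_map_assoc, he, Category.assoc]

/-- **compact objects of `D_QCoh` with supports are perfect, and conversely** -/
theorem isPerfect_iff_weakCptRel_supp [CompactSpace X] [QuasiSeparatedSpace X] (Z : X.Opens)
    (hZ : IsCompact (Z : Set X)) (K : DCoh.D X) (hK : DCoh.IsQCohD K)
    (hKZ : VanishOn K (Z : Set X)) :
    WeakCptRel.{u} (fun L : DCoh.D X => DCoh.IsQCohD L ∧ VanishOn L (Z : Set X)) K ↔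
      DCoh.IsPerfect K :=
  ⟨fun h => isPerfect_of_weakCptRel K hK (weakCptRel_of_supp Z hZ K hKZ h),
    fun h => WeakCptRel.mono (fun Y hY => hY.1) (weakCptRel_of_isPerfect K h)⟩

end Supp

end Groth.Agent.Lib.Helper5.BvdB
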