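import Mathlib
import Groth.Prelude.Def_DCoh3
import Groth.Agent.Lib.Helper5.BvdB.Retract
import Groth.Agent.Lib.Helper5.Perf.ProjLocFree
import Groth.Agent.Lib.Lead.FLF1

/-!
# A perfect direct summand concentrated in the bottom degree is a shifted vector bundle (helper5)
-/
set_option autoImplicit false
set_option linter.unusedSectionVars false
set_option linter.unusedVariables false
universe u
open CategoryTheory CategoryTheory.Limits AlgebraicGeometry Pretriangulated TopologicalSpace
attribute [local instance] HasDerivedCategory.standard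

namespace Groth.Agent.Lib.Helper5.BvdB

open Groth.Agent.Lib.Helper5 Groth.Agent.Lib.Helper5.QC
  Groth.Agent.Lib.Helper5.TildePC Groth.Agent.Lib.Helper5.PerfTri
  Groth.Agent.Lib.Helper5.CountHom Groth.Agent.Lib.Helper5.HomVanish
  Groth.Agent.Helper5.Summand Groth.Agent.Helper5.FlatBC

section Ring

variable {R : Type u} [CommRing R]

/-- removing the vanishing top cohomology groups -/
theorem amp_top_iter (n : ℤ) : ∀ (k : ℕ) (b : ℤ) (K : Dual.D R), b = n + k →
    Amp (FP R) n b K →
    (∀ i, n < i → IsZero ((DerivedCategory.homologyFunctor (ModuleCat.{u} R) i).obj K)) →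
    Amp (FP R) n n K := by
  intro k
  induction k with
  | zero =>
    intro b K hb hK _
    have : b = n := by simpa using hb
    rw [this] at hK
    exact hK
  | succ k ih =>
    intro b K hb hK hz
    have hK' : Amp (FP R) n (b - 1) K :=
      Amp.truncTop hyp_fp.ker hK (by push_cast at hb; omega) (hz b (by push_cast at hb; omega))
    exact ih (b - 1) K (by push_cast at hb; omega) hK' hz

/-- an object of amplitude `[n, n]` has finite projective cohomology in degree `n` -/
theorem fp_top_of_amp (n : ℤ) (K : Dual.D R) (h : Amp (FP R) n n K) :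
    Module.Finite R (Dual.HD R K n) ∧ Module.Projective R (Dual.HD R K n) := by
  obtain ⟨E, h1, h2, ⟨e⟩⟩ := h
  have hd1 : E.d (n - 1) n = 0 := (h2 (n - 1) (Or.inl (by omega))).eq_of_src _ _
  have hd2 : E.d n (n + 1) = 0 := (h2 (n + 1) (Or.inr (by omega))).eq_of_tgt _ _
  haveI : IsIso (E.iCycles n) := E.isIso_iCycles n (n + 1) (by simp) hd2
  let e1 : E.cycles n ≅ E.X n := asIso (E.iCycles n)
  let e2 : E.cycles n ≅ E.homology n := E.isoHomologyπ (n - 1) n (by simp) hd1
  let e3 : (DerivedCategory.homologyFunctor (ModuleCat.{u} R) n).obj K ≅ E.X n :=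
    (DerivedCategory.homologyFunctor (ModuleCat.{u} R) n).mapIso e.symm ≪≫
      (DerivedCategory.homologyFunctorFactors (ModuleCat.{u} R) n).app E ≪≫ e2.symm ≪≫ e1
  haveI := (h1 n).1
  haveI := (h1 n).2
  exact ⟨Module.Finite.equiv e3.symm.toLinearEquiv,
    Module.Projective.of_equiv e3.symm.toLinearEquiv⟩

/-- amplitude is stable under flat base change -/
theorem amp_Ed (R' : Type u) [CommRing R'] [Algebra R R'] [Module.Flat R R'] (Z : Dual.D R)
    (a b : ℤ) (h : Amp (FP R) a b Z) : Amp (FP R') a b ((Ed R').obj Z) := by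
  obtain ⟨E, h1, h2, ⟨e⟩⟩ := h
  refine ⟨(Ec R').obj E, fun i => ?_, fun i hi => (Ef R').map_isZero (h2 i hi),
    ⟨(EdQ R' E).symm ≪≫ (Ed R').mapIso e⟩⟩
  haveI := (h1 i).1
  haveI := (h1 i).2
  exact Ef_fproj R' (E.X i)

end Ring

section Spec

variable (R : CommRingCat.{u})

/-- restriction of `M~` to `D(f)` -/
noncomputable def resTildeDIsoD (f : R) (M : Dual.D R) :
    haveI : PreservesFiniteLimits (tilde.functor (CommRingCat.of (Localization.Away f))) :=
      Groth.Agent.Lib.Helper5.QC.preservesFiniteLimits_tilde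
    (DCoh.restrictD (Spec.map (awayHom R f))).obj ((DCoh.tildeD R).obj M) ≅
      (DCoh.tildeD (CommRingCat.of (Localization.Away f))).obj
        ((Ed (Localization.Away f)).obj M) := by
  haveI : PreservesFiniteLimits (tilde.functor (CommRingCat.of (Localization.Away f))) :=
    Groth.Agent.Lib.Helper5.QC.preservesFiniteLimits_tilde
  let K := DerivedCategory.Q.objPreimage M
  let e : DerivedCategory.Q.obj K ≅ M := DerivedCategory.Q.objObjPreimageIso M
  exact (DCoh.restrictD (Spec.map (awayHom R f))).mapIso ((DCoh.tildeD R).mapIso e.symm) ≪≫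
    resTildeDIso (awayHom R f) K ≪≫
    (DCoh.tildeD (CommRingCat.of (Localization.Away f))).mapIso
      ((EdQ (Localization.Away f) K).symm ≪≫ (Ed (Localization.Away f)).mapIso e)

/-- a quasi-coherent retract `B` of the restriction of `Z'~` (`Z'` with cells in `[n, b]`) to an
open `U ⊆ Spec R` covered by the `D(f)`, `f ∈ t`, with vanishing cohomology above `n`, has finite
locally free cohomology in degree `n` -/
theorem isFinLocFree_HD_of_retract (U : (Spec (CommRingCat.of R)).Opens)
    (Z' : Dual.D R) (n b : ℤ) (hnb : n ≤ b) (hZ' : Amp (FP R) n b Z')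
    (B : DCoh.D (U : Scheme.{u})) (hB : DCoh.IsQCohD B)
    (i : B ⟶ (DCoh.restrictD U.ι).obj ((DCoh.tildeD R).obj Z'))
    (p : (DCoh.restrictD U.ι).obj ((DCoh.tildeD R).obj Z') ⟶ B) (hip : i ≫ p = 𝟙 B)
    (hz : ∀ j, n < j → IsZero (DCoh.HD B j)) : FlatMod.IsFinLocFree (DCoh.HD B n) := by
  apply Groth.Agent.Lead.FLF.isFinLocFree_of_charts
  intro x
  obtain ⟨_, ⟨f, rfl⟩, hfx, htU⟩ :=
    PrimeSpectrum.isTopologicalBasis_basic_opens.exists_subset_of_mem_open
      (show (x.1 : PrimeSpectrum R) ∈ (U : Set (Spec (CommRingCat.of R))) from x.2) U.2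
  let R' := CommRingCat.of (Localization.Away f)
  haveI : PreservesFiniteLimits (tilde.functor R') :=
    Groth.Agent.Lib.Helper5.QC.preservesFiniteLimits_tilde
  have hrange : Set.range (Spec.map (awayHom R f)) ⊆ Set.range U.ι := by
    rw [range_awayHom, Scheme.Opens.range_ι]
    exact htU
  let c : Spec R' ⟶ ↑U := IsOpenImmersion.lift U.ι (Spec.map (awayHom R f)) hrange
  have hc : c ≫ U.ι = Spec.map (awayHom R f) := IsOpenImmersion.lift_fac _ _ _
  haveI : IsOpenImmersion (c ≫ U.ι) := by rw [hc]; infer_instance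
  haveI : IsOpenImmersion c := IsOpenImmersion.of_comp c U.ι
  have hxc : x ∈ c.opensRange := by
    have hx' : (x.1 : PrimeSpectrum R) ∈ Set.range (Spec.map (awayHom R f)) := by
      rw [range_awayHom]
      exact hfx
    obtain ⟨y, hy⟩ := hx'
    refine ⟨y, ?_⟩
    apply U.ι.isOpenEmbedding.injective
    rw [← Scheme.Hom.comp_apply, hc]
    exact hy
  refine ⟨Spec R', c, inferInstance, hxc, ?_⟩
  -- the restriction of `B`
  let Bc := (DCoh.restrictD c).obj B
  have hBc : DCoh.IsQCohD Bc := isQCohD_restrictJ c B hB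
  obtain ⟨K, ⟨eK⟩⟩ := ((tildeD_main R').2.2 Bc).1 hBc
  let A := (DCoh.restrictD U.ι).obj ((DCoh.tildeD R).obj Z')
  let eA : (DCoh.restrictD c).obj A ≅ (DCoh.tildeD R').obj ((Ed (Localization.Away f)).obj Z') :=
    (restrictDCompObjIso c U.ι _).symm ≪≫ restrictDCongrObjIso hc _ ≪≫ resTildeDIsoD R f Z'
  haveI : (DCoh.tildeD R').Full := (tildeD_main R').1
  haveI : (DCoh.tildeD R').Faithful := (tildeD_main R').2.1
  obtain ⟨i₀, hi₀⟩ := (DCoh.tildeD R').map_surjective
    (eK.hom ≫ (DCoh.restrictD c).map i ≫ eA.hom)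
  obtain ⟨p₀, hp₀⟩ := (DCoh.tildeD R').map_surjective
    (eA.inv ≫ (DCoh.restrictD c).map p ≫ eK.inv)
  have hip₀ : i₀ ≫ p₀ = 𝟙 K := by
    apply (DCoh.tildeD R').map_injective
    rw [Functor.map_comp, hi₀, hp₀, CategoryTheory.Functor.map_id]
    simp only [Category.assoc, Iso.hom_inv_id_assoc]
    rw [← Functor.map_comp_assoc, hip, CategoryTheory.Functor.map_id, Category.id_comp,
      Iso.hom_inv_id]
  have hK : Amp (FP (Localization.Away f)) n b K :=
    Amp.retract hyp_fp hnb i₀ p₀ hip₀ (amp_Ed (Localization.Away f) Z' n b hZ')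
  have hKz : ∀ j, n < j →
      IsZero ((DerivedCategory.homologyFunctor (ModuleCat.{u} R') j).obj K) := by
    intro j hj
    have h1 : IsZero (DCoh.HD Bc j) :=
      IsZero.of_iso ((Scheme.Modules.restrictFunctor c).map_isZero (hz j hj))
        (PCCoh.hdRestrictJIso c B j)
    have h2 : IsZero (tilde ((DerivedCategory.homologyFunctor (ModuleCat.{u} R') j).obj K)) :=
      IsZero.of_iso h1 ((hdTildeDIso R' K j).symm ≪≫
        (DerivedCategory.homologyFunctor _ j).mapIso eK)
    haveI : (tilde.functor R').Full := tilde.fullyFaithfulFunctor.full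
    haveI : (tilde.functor R').Faithful := tilde.fullyFaithfulFunctor.faithful
    exact IsZero.of_full_of_faithful_of_isZero (tilde.functor R') _ h2
  obtain ⟨k, hk⟩ : ∃ k : ℕ, b = n + k := ⟨(b - n).toNat, by omega⟩
  have hK' := amp_top_iter n k b K hk hK hKz
  obtain ⟨h1, h2⟩ := fp_top_of_amp n K hK'
  have h3 := ProjLocFree.isFinLocFree_tilde_of_projective (Localization.Away f)
    (Dual.HD (Localization.Away f) K n)
  refine Groth.Agent.Lead.FLF.isFinLocFree_of_iso ?_ h3
  exact (hdTildeDIso R' K n).symm ≪≫ (DerivedCategory.homologyFunctor _ n).mapIso eK ≪≫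
    PCCoh.hdRestrictJIso c B n

end Spec

end Groth.Agent.Lib.Helper5.BvdB
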