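import Mathlib
import Groth.Prelude.Def_DCoh3
import Groth.Agent.Lib.Helper5.BvdB.LocFree

/-!
# `F[-r] ⊕ E` extends (helper5)
-/
set_option autoImplicit false
set_option linter.unusedSectionVars false
set_option linter.unusedVariables false
universe u
open CategoryTheory CategoryTheory.Limits AlgebraicGeometry Pretriangulated TopologicalSpace
attribute [local instance] HasDerivedCategory.standard

namespace Groth.Agent.Lib.Helper5.BvdB

open Groth.Agent.Lib.Helper5 Groth.Agent.Lib.Helper5.QC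
  Groth.Agent.Lib.Helper5.TildePC Groth.Agent.Lib.Helper5.PerfTri
  Groth.Agent.Lib.Helper5.CountHom Groth.Agent.Lib.Helper5.HomVanish
  Groth.Agent.Helper5.Summand Groth.Agent.Helper5.FlatBC

section General

variable {Y : Scheme.{u}}

/-- an object with cohomology concentrated in degree `n` is a shifted module -/
theorem exists_iso_shift_inD (B : DCoh.D Y) (n : ℤ)
    (hle : ∀ j, n < j → IsZero (DCoh.HD B j)) (hge : ∀ j, j < n → IsZero (DCoh.HD B j)) :
    ∃ 𝓕 : Y.Modules, Nonempty (𝓕 ≅ DCoh.HD B n) ∧ Nonempty (B ≅ (DCoh.inD Y 𝓕)⟦-n⟧) := by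
  haveI : B.IsLE n := (DerivedCategory.isLE_iff B n).2 hle
  haveI : B.IsGE n := (DerivedCategory.isGE_iff B n).2 hge
  obtain ⟨𝓕, ⟨e⟩⟩ := DerivedCategory.exists_iso_singleFunctor_obj_of_isGE_of_isLE B n
  refine ⟨𝓕, ⟨?_⟩, ⟨?_⟩⟩
  · exact (HomologicalComplex.singleObjHomologySelfIso (ComplexShape.up ℤ) n 𝓕).symm ≪≫
      ((DerivedCategory.homologyFunctorFactors Y.Modules n).app _).symm ≪≫
      (DerivedCategory.homologyFunctor Y.Modules n).mapIso
        ((DerivedCategory.singleFunctorIsoCompQ Y.Modules n).app 𝓕).symm ≪≫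
      (DerivedCategory.homologyFunctor Y.Modules n).mapIso e.symm
  · exact e ≪≫ (((DerivedCategory.singleFunctors Y.Modules).shiftIso (-n) n 0
      (by omega)).app 𝓕).symm

end General

section Spec

variable (R : CommRingCat.{u})

/-- **`F[-r] ⊕ E` extends**, on `Spec R` -/
theorem extend_shift_sum_spec (U : (Spec (CommRingCat.of R)).Opens)
    (hU : IsCompact (U : Set (Spec (CommRingCat.of R))))
    (E : DCoh.D (U : Scheme.{u})) (hE : DCoh.IsPerfect E) :
    ∃ (r : ℤ) (𝓕 : (U : Scheme.{u}).Modules) (P : DCoh.D (Spec (CommRingCat.of R))),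
      FlatMod.IsFinLocFree 𝓕 ∧ DCoh.IsPerfect P ∧
      Nonempty ((DCoh.restrictD U.ι).obj P ≅ (DCoh.inD (U : Scheme.{u}) 𝓕)⟦-r⟧ ⊞ E) := by
  haveI : CompactSpace ↥(U : Scheme.{u}) := isCompact_iff_compactSpace.mp hU
  haveI : QuasiSeparatedSpace ↥(U : Scheme.{u}) :=
    QuasiSeparatedSpace.of_isOpenEmbedding U.ι.isOpenEmbedding
  obtain ⟨a₀, b₀, hab, hvan⟩ := exists_range_of_isPerfect E hE
  obtain ⟨Z, n', hi, C, a, b, c, hT, hn', hZ, hC, hz⟩ := exists_approx_spec R U hU E hE a₀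
  have hb : b = 0 := hvan C hC (fun i hi _ => hz i (by omega)) b
  let Z' : Dual.D R := Z⟦(-1 : ℤ)⟧
  let P₀ : DCoh.D (Spec (CommRingCat.of R)) := (DCoh.tildeD R).obj Z'
  have hP₀ : DCoh.IsPerfect P₀ := isPerfect_tildeD_shift_of_amp R Z _ _ hZ (-1)
  let A : DCoh.D (U : Scheme.{u}) := (DCoh.restrictD U.ι).obj P₀
  -- the splitting
  have hT' := inv_rot_of_distTriang _ hT
  have hz' : (Triangle.mk a b c).invRotate.mor₃ = 0 := by
    show b ≫ _ = 0
    rw [hb, zero_comp]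
  obtain ⟨e, -, -⟩ := exists_iso_binaryBiproduct_of_distTriang _ hT' hz'
  let B : DCoh.D (U : Scheme.{u}) := C⟦(-1 : ℤ)⟧
  have e' : A ≅ B ⊞ E := e
  let i : B ⟶ A := biprod.inl ≫ e'.inv
  let p : A ⟶ B := e'.hom ≫ biprod.fst
  have hip : i ≫ p = 𝟙 B := by simp [i, p]
  have hB : DCoh.IsQCohD B := isQCohD_shift C hC (-1)
  have hle : ∀ j, n' < j → IsZero (DCoh.HD B j) := by
    intro j hj
    exact IsZero.of_iso (hz (-1 + j) (by omega))
      (((DerivedCategory.homologyFunctor _ 0).shiftIso (-1) j (-1 + j) rfl).app C)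
  have hZ' : Amp (FP R) n' (max (hi + 1) n') Z' :=
    (hZ.shift (-1)).mono (by omega) (by have := le_max_left (hi + 1) n'; omega)
  have hge : ∀ j, j < n' → IsZero (DCoh.HD B j) := by
    intro j hj
    haveI := hZ'.isGE
    have h1 : IsZero ((DerivedCategory.homologyFunctor (ModuleCat.{u} R) j).obj Z') :=
      DerivedCategory.isZero_of_isGE Z' n' j hj
    have h2 : IsZero (DCoh.HD P₀ j) :=
      IsZero.of_iso ((tilde.functor R).map_isZero h1) (hdTildeDIso R Z' j)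
    have h3 : IsZero (DCoh.HD A j) :=
      IsZero.of_iso ((Scheme.Modules.restrictFunctor U.ι).map_isZero h2)
        (PCCoh.hdRestrictJIso U.ι P₀ j)
    exact isZero_of_retract ((DerivedCategory.homologyFunctor _ j).map i)
      ((DerivedCategory.homologyFunctor _ j).map p)
      (by rw [← Functor.map_comp, hip, CategoryTheory.Functor.map_id]) h3
  have hflf := isFinLocFree_HD_of_retract R U Z' n' (max (hi + 1) n') (le_max_right _ _) hZ'
    B hB i p hip hle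
  obtain ⟨𝓕, ⟨e𝓕⟩, ⟨eB⟩⟩ := exists_iso_shift_inD B n' hle hge
  refine ⟨n', 𝓕, P₀, Groth.Agent.Lead.FLF.isFinLocFree_of_iso e𝓕.symm hflf, hP₀, ⟨?_⟩⟩
  exact e' ≪≫ biprod.mapIso eB (Iso.refl E)

end Spec

section Affine

variable {X : Scheme.{u}} [IsAffine X]

/-- **`F[-r] ⊕ E` extends** from a quasi-compact open of an affine scheme -/
theorem extend_shift_sum_affine (U : X.Opens) (hU : IsCompact (U : Set X))
    (E : DCoh.D (U : Scheme.{u})) (hE : DCoh.IsPerfect E) :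
    ∃ (r : ℤ) (𝓕 : (U : Scheme.{u}).Modules) (P : DCoh.D X),
      FlatMod.IsFinLocFree 𝓕 ∧ DCoh.IsPerfect P ∧
      Nonempty ((DCoh.restrictD U.ι).obj P ≅ (DCoh.inD (U : Scheme.{u}) 𝓕)⟦-r⟧ ⊞ E) := by
  obtain ⟨U', ψ, hU', hψ⟩ := affine_transport U hU
  let F' : DCoh.D (U' : Scheme.{u}) := (DCoh.restrictD ψ.hom).obj E
  have hF' : DCoh.IsPerfect F' := isPerfect_restrictJ ψ.hom E hE
  obtain ⟨r, 𝓕', P', h𝓕', hP', ⟨e'⟩⟩ :=
    extend_shift_sum_spec (CommRingCat.of Γ(X, ⊤)) U' hU' F' hF'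
  let P : DCoh.D X := (DCoh.restrictD X.isoSpec.hom).obj P'
  let 𝓕 : (U : Scheme.{u}).Modules := (Scheme.Modules.restrictFunctor ψ.inv).obj 𝓕'
  refine ⟨r, 𝓕, P, Groth.Agent.Lead.FLF.isFinLocFree_restrict ψ.inv 𝓕' h𝓕',
    isPerfect_restrictJ X.isoSpec.hom P' hP', ⟨?_⟩⟩
  haveI : IsOpenImmersion (ψ.inv ≫ U'.ι) := inferInstance
  let G := DCoh.restrictD ψ.inv
  let u : E ≅ G.obj F' := (restrictDEquiv ψ).unitIso.app E
  haveI : PreservesBinaryBiproducts G := preservesBinaryBiproducts_of_preservesBiproducts G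
  let s : G.obj (DCoh.inD (U' : Scheme.{u}) 𝓕') ≅ DCoh.inD (U : Scheme.{u}) 𝓕 :=
    ((Scheme.Modules.restrictFunctor ψ.inv).mapDerivedCategorySingleFunctor 0).app 𝓕'
  exact (restrictDCompObjIso U.ι X.isoSpec.hom P').symm ≪≫ restrictDCongrObjIso hψ P' ≪≫
    restrictDCompObjIso ψ.inv U'.ι P' ≪≫ G.mapIso e' ≪≫
    G.mapBiprod ((DCoh.inD (U' : Scheme.{u}) 𝓕')⟦-r⟧) F' ≪≫
    biprod.mapIso ((G.commShiftIso (-r)).app _ ≪≫ (shiftFunctor _ (-r)).mapIso s) u.symm

end Affine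

end Groth.Agent.Lib.Helper5.BvdB
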